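import Mathlib
import Cfsg.Agent.H4.PaQb

set_option autoImplicit false
set_option linter.style.haveILetI false

/-!
Groups in which every `p`-regular element has a conjugacy class of `p`-power size
(used for S4034): such a group has an abelian `p`-complement, and conversely.
-/

namespace Cfsg.Agent.H92

open Subgroup

universe u

theorem ncard_carrier_eq_index {G : Type*} [Group G] (x : G) :
    (ConjClasses.mk x).carrier.ncard = (Subgroup.centralizer ({x} : Set G)).index := by
  rw [← ConjAct.orbit_eq_carrier_conjClasses, ← MulAction.index_stabilizer,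
    Subgroup.centralizer_eq_comap_stabilizer]
  exact (Subgroup.index_comap_of_surjective _ (ConjAct.toConjAct (G := G)).surjective).symm

/-- every `p`-regular element has centralizer of `p`-power index -/
def PStar (p : ℕ) (G : Type*) [Group G] : Prop :=
  ∀ x : G, (orderOf x).Coprime p → ∃ k : ℕ, (Subgroup.centralizer ({x} : Set G)).index = p ^ k

theorem relIndex_dvd_index_of_normal_right {G : Type*} [Group G] [Finite G]
    (C N : Subgroup G) [N.Normal] : C.relIndex N ∣ C.index := by
  have h1 : Nat.card ↥(N ⊔ C) = Nat.card N * N.relIndex C := by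
    rw [← Subgroup.relIndex_bot_left, ← Subgroup.relIndex_bot_left,
      ← Subgroup.relIndex_sup_left C N,
      Subgroup.relIndex_mul_relIndex ⊥ N (N ⊔ C) bot_le le_sup_left]
  have h2 : Nat.card N = Nat.card ↥(C ⊓ N) * C.relIndex N := by
    rw [← Subgroup.relIndex_bot_left, ← Subgroup.relIndex_bot_left,
      ← Subgroup.inf_relIndex_right C N,
      Subgroup.relIndex_mul_relIndex ⊥ (C ⊓ N) N bot_le inf_le_right]
  have h3 : Nat.card C = Nat.card ↥(C ⊓ N) * N.relIndex C := by
    rw [← Subgroup.relIndex_bot_left, ← Subgroup.relIndex_bot_left,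
      ← Subgroup.inf_relIndex_left C N,
      Subgroup.relIndex_mul_relIndex ⊥ (C ⊓ N) C bot_le inf_le_left]
  have h4 : Nat.card ↥(N ⊔ C) = Nat.card C * C.relIndex (N ⊔ C) := by
    rw [← Subgroup.relIndex_bot_left, ← Subgroup.relIndex_bot_left,
      Subgroup.relIndex_mul_relIndex ⊥ C (N ⊔ C) bot_le le_sup_right]
  have h5 : C.relIndex (N ⊔ C) = C.relIndex N := by
    have hpos : 0 < Nat.card C := Nat.card_pos
    have : Nat.card C * C.relIndex (N ⊔ C) = Nat.card C * C.relIndex N := by
      rw [← h4, h1, h2, h3]; ring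
    exact Nat.eq_of_mul_eq_mul_left hpos this
  rw [← h5]
  exact Subgroup.relIndex_dvd_index_of_le le_sup_right

theorem pstar_subgroup {G : Type*} [Group G] [Finite G] {p : ℕ} (hp : p.Prime)
    (N : Subgroup G) [N.Normal] (h : PStar p G) : PStar p N := by
  intro y hy
  have hy' : (orderOf (y : G)).Coprime p := by rwa [Subgroup.orderOf_coe]
  obtain ⟨k, hk⟩ := h y hy'
  have e : centralizer ({y} : Set N) = (centralizer ({(y : G)} : Set G)).subgroupOf N := by
    ext z
    rw [Subgroup.mem_subgroupOf, Subgroup.mem_centralizer_iff, Subgroup.mem_centralizer_iff]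
    constructor
    · intro hz w hw
      rw [Set.mem_singleton_iff] at hw
      rw [hw]
      exact congrArg Subtype.val (hz y rfl)
    · intro hz w hw
      rw [Set.mem_singleton_iff] at hw
      rw [hw]
      exact Subtype.ext (hz (y : G) rfl)
  have hdvd : (centralizer ({y} : Set N)).index ∣ p ^ k := by
    rw [e, ← hk]
    exact relIndex_dvd_index_of_normal_right _ N
  obtain ⟨m, -, hm⟩ := (Nat.dvd_prime_pow hp).mp hdvd
  exact ⟨m, hm⟩

theorem exists_pow_preg {G : Type*} [Group G] [Finite G] {p : ℕ} (hp : p.Prime) (a : G) :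
    ∃ e : ℕ, (orderOf (a ^ p ^ e)).Coprime p := by
  obtain ⟨e, m, hm, he⟩ := Nat.exists_eq_pow_mul_and_not_dvd (orderOf_pos a).ne' p hp.ne_one
  refine ⟨e, ?_⟩
  have h1 : (a ^ p ^ e) ^ m = 1 := by
    rw [← pow_mul, ← he, pow_orderOf_eq_one]
  have h2 : orderOf (a ^ p ^ e) ∣ m := orderOf_dvd_of_pow_eq_one h1
  exact Nat.Coprime.coprime_dvd_left h2 ((Nat.Prime.coprime_iff_not_dvd hp).mpr hm).symm

theorem exists_preg_lift {G : Type*} [Group G] [Finite G] {p : ℕ} (hp : p.Prime)
    (M : Subgroup G) [M.Normal] (y' : G ⧸ M) (h : (orderOf y').Coprime p) :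
    ∃ y : G, (QuotientGroup.mk y : G ⧸ M) = y' ∧ (orderOf y).Coprime p := by
  obtain ⟨a, rfl⟩ := QuotientGroup.mk_surjective y'
  obtain ⟨e, he⟩ := exists_pow_preg hp a
  have hc : (p ^ e).Coprime (orderOf (QuotientGroup.mk a : G ⧸ M)) :=
    Nat.Coprime.pow_left e h.symm
  obtain ⟨t, ht⟩ := exists_pow_eq_self_of_coprime hc
  refine ⟨(a ^ p ^ e) ^ t, ?_, ?_⟩
  · rw [QuotientGroup.mk_pow, QuotientGroup.mk_pow]; exact ht
  · exact Nat.Coprime.coprime_dvd_left (orderOf_pow_dvd t) he

theorem pstar_quotient {G : Type*} [Group G] [Finite G] {p : ℕ} (hp : p.Prime)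
    (M : Subgroup G) [M.Normal] (h : PStar p G) : PStar p (G ⧸ M) := by
  intro y' hy'
  obtain ⟨y, rfl, hy⟩ := exists_preg_lift hp M y' hy'
  obtain ⟨k, hk⟩ := h y hy
  have hle : (centralizer ({y} : Set G)).map (QuotientGroup.mk' M) ≤
      centralizer ({(QuotientGroup.mk y : G ⧸ M)} : Set (G ⧸ M)) := by
    rintro _ ⟨z, hz, rfl⟩
    replace hz : z ∈ centralizer ({y} : Set G) := hz
    rw [Subgroup.mem_centralizer_iff] at hz ⊢
    intro w hw
    rw [Set.mem_singleton_iff] at hw
    subst hw
    have := hz y rfl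
    show (QuotientGroup.mk y : G ⧸ M) * QuotientGroup.mk z = QuotientGroup.mk z * QuotientGroup.mk y
    rw [← QuotientGroup.mk_mul, ← QuotientGroup.mk_mul, this]
  have hdvd : (centralizer ({(QuotientGroup.mk y : G ⧸ M)} : Set (G ⧸ M))).index ∣ p ^ k := by
    rw [← hk]
    exact (Subgroup.index_dvd_of_le hle).trans
      (Subgroup.index_map_dvd _ (QuotientGroup.mk'_surjective M))
  obtain ⟨m, -, hm⟩ := (Nat.dvd_prime_pow hp).mp hdvd
  exact ⟨m, hm⟩

theorem central_of_normal_coprime {G : Type*} [Group G] [Finite G] {p : ℕ} (hp : p.Prime)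
    (h : PStar p G) (hgen : Subgroup.closure {y : G | (orderOf y).Coprime p} = ⊤)
    (N : Subgroup G) [N.Normal] (hN : ¬ p ∣ Nat.card N) : N ≤ Subgroup.center G := by
  have h1 : (⊤ : Subgroup G) ≤ centralizer (N : Set G) := by
    rw [← hgen, Subgroup.closure_le]
    intro y hy
    obtain ⟨k, hk⟩ := h y hy
    have hd1 : (centralizer ({y} : Set G)).relIndex N ∣ p ^ k :=
      hk ▸ relIndex_dvd_index_of_normal_right _ N
    have hd2 : (centralizer ({y} : Set G)).relIndex N ∣ Nat.card N := Subgroup.relIndex_dvd_card _ _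
    have h1 : (centralizer ({y} : Set G)).relIndex N = 1 := by
      obtain ⟨m, -, hm⟩ := (Nat.dvd_prime_pow hp).mp hd1
      rcases Nat.eq_zero_or_pos m with h0 | h0
      · rw [hm, h0, pow_zero]
      · exfalso
        apply hN
        rw [hm] at hd2
        exact (dvd_pow_self p h0.ne').trans hd2
    rw [Subgroup.relIndex_eq_one] at h1
    intro n hn
    have := h1 hn
    rw [Subgroup.mem_centralizer_iff] at this
    exact (this y rfl).symm
  intro n hn
  rw [Subgroup.mem_center_iff]
  intro g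
  have := h1 (Subgroup.mem_top g)
  rw [Subgroup.mem_centralizer_iff] at this
  exact (this n hn).symm

theorem abelian_of_pstar_coprime {G : Type*} [Group G] [Finite G] {p : ℕ} (hp : p.Prime)
    (h : PStar p G) (hG : ¬ p ∣ Nat.card G) : ∀ a b : G, a * b = b * a := by
  intro a b
  have ha : (orderOf a).Coprime p :=
    Nat.Coprime.coprime_dvd_left (orderOf_dvd_natCard a)
      ((Nat.Prime.coprime_iff_not_dvd hp).mpr hG).symm
  obtain ⟨k, hk⟩ := h a ha
  have h1 : (centralizer ({a} : Set G)).index = 1 := by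
    rcases Nat.eq_zero_or_pos k with h0 | h0
    · rw [hk, h0, pow_zero]
    · exfalso
      apply hG
      have : (centralizer ({a} : Set G)).index ∣ Nat.card G := Subgroup.index_dvd_card _
      rw [hk] at this
      exact (dvd_pow_self p h0.ne').trans this
  rw [Subgroup.index_eq_one] at h1
  have : b ∈ centralizer ({a} : Set G) := h1 ▸ Subgroup.mem_top b
  rw [Subgroup.mem_centralizer_iff] at this
  exact this a rfl

theorem no_normal_p_of_normal {G : Type*} [Group G] [Finite G] {p : ℕ}
    (hOp : ∀ N : Subgroup G, N.Normal → IsPGroup p N → N = ⊥)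
    (K : Subgroup G) [K.Normal] :
    ∀ T : Subgroup K, T.Normal → IsPGroup p T → T = ⊥ := by
  intro T hT hTp
  set R : Subgroup K := sSup {T : Subgroup K | T.Normal ∧ IsPGroup p T} with hR
  have hRp : IsPGroup p R := Sylow.sSup_of_normal _ (fun _ hH => hH.2) (fun _ hH => hH.1)
  haveI hRc : R.Characteristic := by
    rw [Subgroup.characteristic_iff_map_le]
    intro ϕ
    rw [Subgroup.map_le_iff_le_comap]
    apply sSup_le
    rintro N ⟨hNn, hNp⟩
    rw [← Subgroup.map_le_iff_le_comap]
    exact le_sSup ⟨hNn.map _ ϕ.surjective, hNp.map _⟩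
  have hRn : (R.map K.subtype).Normal := ConjAct.normal_of_characteristic_of_normal
  have h1 : R.map K.subtype = ⊥ := hOp _ hRn (hRp.map _)
  have h2 : R = ⊥ := (Subgroup.map_eq_bot_iff_of_injective R K.subtype_injective).mp h1
  have h3 : T ≤ R := le_sSup ⟨hT, hTp⟩
  rw [h2] at h3
  exact le_bot_iff.mp h3

theorem no_normal_p_quotient {G : Type*} [Group G] [Finite G] {p : ℕ} (hp : p.Prime)
    (hOp : ∀ N : Subgroup G, N.Normal → IsPGroup p N → N = ⊥)
    (M : Subgroup G) [M.Normal] (hM : M ≤ Subgroup.center G) :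
    ∀ T : Subgroup (G ⧸ M), T.Normal → IsPGroup p T → T = ⊥ := by
  intro T hT hTp
  haveI := Fact.mk hp
  set B : Subgroup G := T.comap (QuotientGroup.mk' M) with hB
  haveI hBn : B.Normal := hT.comap _
  obtain ⟨P⟩ : Nonempty (Sylow p B) := inferInstance
  set M' : Subgroup B := M.subgroupOf B with hM'
  haveI : M'.Normal := by rw [hM']; infer_instance
  have hq : IsPGroup p (B ⧸ M') := by
    intro x
    obtain ⟨b, rfl⟩ := QuotientGroup.mk_surjective x
    have hbT : (QuotientGroup.mk' M) (b : G) ∈ T := b.2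
    obtain ⟨j, hj⟩ := hTp ⟨_, hbT⟩
    refine ⟨j, ?_⟩
    rw [← QuotientGroup.mk_pow, QuotientGroup.eq_one_iff, hM', Subgroup.mem_subgroupOf]
    have h1 : ((QuotientGroup.mk' M) (b : G)) ^ p ^ j = 1 := by
      have := congrArg Subtype.val hj
      simpa using this
    rw [← map_pow] at h1
    simpa using (QuotientGroup.eq_one_iff _).mp h1
  obtain ⟨j, hj⟩ := IsPGroup.iff_card.mp hq
  have hj' : M'.index = p ^ j := hj
  have hsup : (P : Subgroup B) ⊔ M' = ⊤ := by
    rw [← Subgroup.index_eq_one]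
    have h1 : ((P : Subgroup B) ⊔ M').index ∣ (P : Subgroup B).index :=
      Subgroup.index_dvd_of_le le_sup_left
    have h2 : ((P : Subgroup B) ⊔ M').index ∣ p ^ j := hj' ▸ Subgroup.index_dvd_of_le le_sup_right
    obtain ⟨m, -, hm⟩ := (Nat.dvd_prime_pow hp).mp h2
    rcases Nat.eq_zero_or_pos m with h0 | h0
    · rw [hm, h0, pow_zero]
    · exfalso
      apply P.not_dvd_index
      rw [hm] at h1
      exact (dvd_pow_self p h0.ne').trans h1
  have hM'c : M' ≤ Subgroup.center B := by
    intro m hm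
    rw [Subgroup.mem_center_iff]
    intro g
    have := hM (Subgroup.mem_subgroupOf.mp hm)
    rw [Subgroup.mem_center_iff] at this
    exact Subtype.ext (this (g : G))
  have hPn : (P : Subgroup B).Normal := by
    rw [← Subgroup.normalizer_eq_top_iff, eq_top_iff, ← hsup]
    exact sup_le Subgroup.le_normalizer (hM'c.trans (Subgroup.center_le_normalizer _))
  haveI hPc : (P : Subgroup B).Characteristic := Sylow.characteristic_of_normal P hPn
  have hPmn : ((P : Subgroup B).map B.subtype).Normal := ConjAct.normal_of_characteristic_of_normal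
  have h1 : (P : Subgroup B).map B.subtype = ⊥ := hOp _ hPmn (P.2.map _)
  have h2 : (P : Subgroup B) = ⊥ :=
    (Subgroup.map_eq_bot_iff_of_injective _ B.subtype_injective).mp h1
  rw [h2, bot_sup_eq] at hsup
  rw [eq_bot_iff]
  intro t ht
  obtain ⟨b, rfl⟩ := QuotientGroup.mk_surjective t
  have hb : b ∈ B := ht
  have : (⟨b, hb⟩ : B) ∈ M' := hsup ▸ Subgroup.mem_top _
  rw [Subgroup.mem_bot]
  exact (QuotientGroup.eq_one_iff b).mpr this

theorem closure_preg_normal {G : Type*} [Group G] (p : ℕ) (N : Subgroup G) [hN : N.Normal] :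
    (Subgroup.closure {y : G | y ∈ N ∧ (orderOf y).Coprime p}).Normal := by
  constructor
  intro n hn g
  induction hn using Subgroup.closure_induction with
  | mem x hx =>
    apply Subgroup.subset_closure
    refine ⟨hN.conj_mem x hx.1 g, ?_⟩
    have : orderOf (g * x * g⁻¹) = orderOf x :=
      orderOf_injective (MulAut.conj g).toMonoidHom (MulAut.conj g).injective x
    rw [this]; exact hx.2
  | one => simp
  | mul x y _ _ hx hy =>
    have : g * (x * y) * g⁻¹ = (g * x * g⁻¹) * (g * y * g⁻¹) := by group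
    rw [this]; exact mul_mem hx hy
  | inv x _ hx =>
    have : g * x⁻¹ * g⁻¹ = (g * x * g⁻¹)⁻¹ := by group
    rw [this]; exact inv_mem hx

theorem isPGroup_of_preg_trivial {G : Type*} [Group G] [Finite G] {p : ℕ} (hp : p.Prime)
    (N : Subgroup G) (h : ∀ y ∈ N, (orderOf y).Coprime p → y = 1) : IsPGroup p N := by
  intro g
  obtain ⟨e, he⟩ := exists_pow_preg hp (g : G)
  refine ⟨e, ?_⟩
  apply Subtype.ext
  have := h _ (N.pow_mem g.2 _) he
  simpa using this

theorem pstar_partI {p : ℕ} (hp : p.Prime) : ∀ n : ℕ, ∀ (G : Type u) [Group G] [Finite G],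
    Nat.card G = n → PStar p G → (∀ N : Subgroup G, N.Normal → IsPGroup p N → N = ⊥) →
    Subgroup.closure {y : G | (orderOf y).Coprime p} = ⊤ → ¬ p ∣ Nat.card G := by
  intro n
  induction n using Nat.strong_induction_on with
  | _ n ih =>
  intro G _ _ hn hS hOp hgen
  by_cases htriv : Subsingleton G
  · rw [Nat.card_eq_one_iff_unique.mpr ⟨htriv, ⟨1⟩⟩]
    exact fun h => hp.one_lt.ne' (Nat.dvd_one.mp h)
  rw [not_subsingleton_iff_nontrivial] at htriv
  by_cases hsimple : ∀ N : Subgroup G, N.Normal → N = ⊥ ∨ N = ⊤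
  · haveI : IsSimpleGroup G := ⟨hsimple⟩
    have hex : ∃ y : G, y ≠ 1 ∧ (orderOf y).Coprime p := by
      by_contra hcon
      push Not at hcon
      have : Subgroup.closure {y : G | (orderOf y).Coprime p} ≤ ⊥ := by
        rw [Subgroup.closure_le]
        intro y hy
        by_contra hy1
        exact hcon y (by simpa using hy1) hy
      rw [hgen] at this
      exact top_ne_bot (le_bot_iff.mp this)
    obtain ⟨y, hy1, hy⟩ := hex
    obtain ⟨k, hk⟩ := hS y hy
    have hprime := Cfsg.Agent.H4.prime_card_of_prime_pow_class p k hp y hy1 hk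
    have hdvd : orderOf y ∣ Nat.card G := orderOf_dvd_natCard y
    rcases (Nat.dvd_prime hprime).mp hdvd with h1 | h1
    · exact absurd (orderOf_eq_one_iff.mp h1) hy1
    · rw [← h1]
      exact (Nat.Prime.coprime_iff_not_dvd hp).mp hy.symm
  · push Not at hsimple
    obtain ⟨N, hNn, hNbot, hNtop⟩ := hsimple
    haveI := hNn
    set N1 : Subgroup G := Subgroup.closure {y : G | y ∈ N ∧ (orderOf y).Coprime p} with hN1
    haveI hN1n : N1.Normal := closure_preg_normal p N
    have hN1N : N1 ≤ N := by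
      rw [hN1, Subgroup.closure_le]; exact fun y hy => hy.1
    have hcardN : Nat.card N < Nat.card G := by
      refine lt_of_le_of_ne (Subgroup.card_le_card_group N) ?_
      intro h; exact hNtop (Subgroup.eq_top_of_card_eq N h)
    have hcardN1 : Nat.card N1 < n := by
      rw [← hn]; exact lt_of_le_of_lt (Subgroup.card_le_of_le hN1N) hcardN
    have hgen1 : Subgroup.closure {y : N1 | (orderOf y).Coprime p} = ⊤ := by
      rw [eq_top_iff, ← Subgroup.closure_closure_coe_preimage
        (k := {y : G | y ∈ N ∧ (orderOf y).Coprime p})]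
      apply Subgroup.closure_mono
      intro y hy
      have : (orderOf (y : G)).Coprime p := hy.2
      rwa [Subgroup.orderOf_coe] at this
    have hpN1 : ¬ p ∣ Nat.card N1 :=
      ih _ hcardN1 N1 rfl (pstar_subgroup hp N1 hS) (no_normal_p_of_normal hOp N1) hgen1
    have hN1c : N1 ≤ Subgroup.center G := central_of_normal_coprime hp hS hgen N1 hpN1
    have hN1bot : N1 ≠ ⊥ := by
      intro hbot
      apply hNbot
      apply hOp N hNn
      apply isPGroup_of_preg_trivial hp
      intro y hyN hy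
      have : y ∈ N1 := Subgroup.subset_closure ⟨hyN, hy⟩
      rw [hbot] at this
      exact Subgroup.mem_bot.mp this
    have hcardq : Nat.card (G ⧸ N1) < n := by
      rw [← hn, ← Subgroup.card_mul_index N1]
      have h1 : 1 < Nat.card N1 := by
        rw [Subgroup.one_lt_card_iff_ne_bot]; exact hN1bot
      have h2 : 0 < N1.index := Nat.pos_of_ne_zero Subgroup.index_ne_zero_of_finite
      calc Nat.card (G ⧸ N1) = 1 * N1.index := by rw [one_mul]; rfl
        _ < Nat.card N1 * N1.index := Nat.mul_lt_mul_of_pos_right h1 h2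
    have hgenq : Subgroup.closure {y : G ⧸ N1 | (orderOf y).Coprime p} = ⊤ := by
      rw [eq_top_iff, ← Subgroup.map_top_of_surjective (QuotientGroup.mk' N1)
        (QuotientGroup.mk'_surjective N1), ← hgen, MonoidHom.map_closure]
      apply Subgroup.closure_mono
      rintro _ ⟨y, hy, rfl⟩
      exact Nat.Coprime.coprime_dvd_left (orderOf_map_dvd _ y) hy
    have hpq : ¬ p ∣ Nat.card (G ⧸ N1) :=
      ih _ hcardq (G ⧸ N1) rfl (pstar_quotient hp N1 hS)
        (no_normal_p_quotient hp hOp N1 hN1c) hgenq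
    rw [← Subgroup.card_mul_index N1]
    intro hdvd
    rcases (Nat.Prime.dvd_mul hp).mp hdvd with h | h
    · exact hpN1 h
    · exact hpq h

theorem pstar_partII {p : ℕ} (hp : p.Prime) : ∀ n : ℕ, ∀ (G : Type u) [Group G] [Finite G],
    Nat.card G = n → PStar p G →
    ∃ H : Subgroup G, (∀ a ∈ H, ∀ b ∈ H, a * b = b * a) ∧ ¬ p ∣ Nat.card H ∧
      ∃ k : ℕ, H.index = p ^ k := by
  intro n
  induction n using Nat.strong_induction_on with
  | _ n ih =>
  intro G _ _ hn hS
  haveI := Fact.mk hp
  by_cases hOp : ∀ N : Subgroup G, N.Normal → IsPGroup p N → N = ⊥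
  · set K : Subgroup G := Subgroup.closure {y : G | (orderOf y).Coprime p} with hK
    by_cases hKtop : K = ⊤
    · have hpG := pstar_partI hp n G hn hS hOp hKtop
      have hab := abelian_of_pstar_coprime hp hS hpG
      refine ⟨⊤, fun a _ b _ => hab a b, ?_, 0, by simp⟩
      rwa [Subgroup.card_top]
    · haveI hKn : K.Normal := by
        have := closure_preg_normal p (⊤ : Subgroup G)
        have e : {y : G | y ∈ (⊤ : Subgroup G) ∧ (orderOf y).Coprime p} =
            {y : G | (orderOf y).Coprime p} := by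
          ext y; simp
        rwa [e] at this
      have hcardK : Nat.card K < n := by
        rw [← hn]
        refine lt_of_le_of_ne (Subgroup.card_le_card_group K) ?_
        intro h; exact hKtop (Subgroup.eq_top_of_card_eq K h)
      obtain ⟨H, hHc, hHp, k, hk⟩ := ih _ hcardK K rfl (pstar_subgroup hp K hS)
      have hq : IsPGroup p (G ⧸ K) := by
        intro x
        obtain ⟨a, rfl⟩ := QuotientGroup.mk_surjective x
        obtain ⟨e, he⟩ := exists_pow_preg hp a
        refine ⟨e, ?_⟩
        rw [← QuotientGroup.mk_pow, QuotientGroup.eq_one_iff]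
        exact Subgroup.subset_closure he
      obtain ⟨j, hj⟩ := IsPGroup.iff_card.mp hq
      have hj' : K.index = p ^ j := hj
      refine ⟨H.map K.subtype, ?_, ?_, k + j, ?_⟩
      · rintro _ ⟨a, ha, rfl⟩ _ ⟨b, hb, rfl⟩
        exact congrArg Subtype.val (hHc a ha b hb)
      · rwa [Subgroup.card_map_of_injective K.subtype_injective]
      · rw [Subgroup.index_map_subtype, hk, hj', pow_add]
  · push Not at hOp
    obtain ⟨N, hNn, hNp, hNbot⟩ := hOp
    haveI := hNn
    have hcardq : Nat.card (G ⧸ N) < n := by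
      rw [← hn, ← Subgroup.card_mul_index N]
      have h1 : 1 < Nat.card N := by
        rw [Subgroup.one_lt_card_iff_ne_bot]; exact hNbot
      have h2 : 0 < N.index := Nat.pos_of_ne_zero Subgroup.index_ne_zero_of_finite
      calc Nat.card (G ⧸ N) = 1 * N.index := by rw [one_mul]; rfl
        _ < Nat.card N * N.index := Nat.mul_lt_mul_of_pos_right h1 h2
    obtain ⟨H', hHc, hHp, k, hk⟩ := ih _ hcardq (G ⧸ N) rfl (pstar_quotient hp N hS)
    set K : Subgroup G := H'.comap (QuotientGroup.mk' N) with hK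
    have hNK : N ≤ K := by
      intro m hm
      rw [hK, Subgroup.mem_comap]
      have : (QuotientGroup.mk' N) m = 1 := (QuotientGroup.eq_one_iff m).mpr hm
      rw [this]; exact H'.one_mem
    set N' : Subgroup K := N.subgroupOf K with hN'
    haveI : N'.Normal := by rw [hN']; infer_instance
    obtain ⟨j, hj⟩ := IsPGroup.iff_card.mp hNp
    have hcardN' : Nat.card N' = p ^ j := by
      rw [← hj]; exact Nat.card_congr (Subgroup.subgroupOfEquivOfLe hNK).toEquiv
    have hKidx : K.index = H'.index :=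
      Subgroup.index_comap_of_surjective _ (QuotientGroup.mk'_surjective N)
    have hidxN' : N'.index = Nat.card H' := by
      have h1 : N.relIndex K * K.index = N.index := Subgroup.relIndex_mul_index hNK
      have h3 : Nat.card H' * H'.index = N.index := Subgroup.card_mul_index H'
      have h4 : 0 < H'.index := Nat.pos_of_ne_zero Subgroup.index_ne_zero_of_finite
      rw [hKidx, ← h3] at h1
      exact Nat.eq_of_mul_eq_mul_right h4 h1
    have hcop : Nat.Coprime (Nat.card N') N'.index := by
      rw [hcardN', hidxN']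
      exact Nat.Coprime.pow_left j ((Nat.Prime.coprime_iff_not_dvd hp).mpr hHp)
    obtain ⟨H, hH⟩ := Subgroup.exists_right_complement'_of_coprime hcop
    refine ⟨H.map K.subtype, ?_, ?_, j + k, ?_⟩
    · rintro _ ⟨a, ha, rfl⟩ _ ⟨b, hb, rfl⟩
      have hmem : a * b * a⁻¹ * b⁻¹ ∈ N' := by
        rw [hN', Subgroup.mem_subgroupOf]
        apply (QuotientGroup.eq_one_iff _).mp
        have hc : ((a : G) : G ⧸ N) * ((b : G) : G ⧸ N) = ((b : G) : G ⧸ N) * ((a : G) : G ⧸ N) :=
          hHc _ a.2 _ b.2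
        simp only [Subgroup.coe_mul, Subgroup.coe_inv, QuotientGroup.mk_mul, QuotientGroup.mk_inv]
        rw [hc]
        group
      have hmemH : a * b * a⁻¹ * b⁻¹ ∈ H :=
        H.mul_mem (H.mul_mem (H.mul_mem ha hb) (H.inv_mem ha)) (H.inv_mem hb)
      have hbot : N' ⊓ H = ⊥ := hH.disjoint.eq_bot
      have h1 : a * b * a⁻¹ * b⁻¹ = 1 := by
        have : a * b * a⁻¹ * b⁻¹ ∈ N' ⊓ H := ⟨hmem, hmemH⟩
        rw [hbot] at this
        exact Subgroup.mem_bot.mp this
      have h2 : a * b = b * a := by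
        calc a * b = (a * b * a⁻¹ * b⁻¹) * (b * a) := by group
          _ = b * a := by rw [h1, one_mul]
      exact congrArg Subtype.val h2
    · rw [Subgroup.card_map_of_injective K.subtype_injective, ← hH.symm.index_eq_card, hidxN']
      exact hHp
    · rw [Subgroup.index_map_subtype, hH.index_eq_card, hcardN', hKidx, hk, pow_add]

theorem pstar_converse {p : ℕ} (hp : p.Prime) : ∀ n : ℕ, ∀ (G : Type u) [Group G] [Finite G]
    (H : Subgroup G), (∀ a ∈ H, ∀ b ∈ H, a * b = b * a) → ¬ p ∣ Nat.card H →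
    (∃ k : ℕ, H.index = p ^ k) → ∀ x : G, orderOf x = n → n.Coprime p →
    ∃ j : ℕ, (Subgroup.centralizer ({x} : Set G)).index = p ^ j := by
  intro n
  induction n using Nat.strong_induction_on with
  | _ n ih =>
  intro G _ _ H hHc hHp hHk x hxn hnp
  obtain ⟨k, hk⟩ := hHk
  by_cases hn1 : n = 1
  · rw [hn1, orderOf_eq_one_iff] at hxn
    refine ⟨0, ?_⟩
    rw [pow_zero, Subgroup.index_eq_one, hxn, eq_top_iff]
    intro g _
    rw [Subgroup.mem_centralizer_iff]
    intro h hh
    rw [Set.mem_singleton_iff] at hh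
    rw [hh, one_mul, mul_one]
  have hn0 : n ≠ 0 := by rw [← hxn]; exact (orderOf_pos x).ne'
  set q := n.minFac with hq
  have hqp : q.Prime := Nat.minFac_prime hn1
  haveI := Fact.mk hqp
  have hqn : q ∣ n := Nat.minFac_dvd n
  have hqne : q ≠ p := by
    intro h
    have : p ∣ n := h ▸ hqn
    exact (Nat.Prime.coprime_iff_not_dvd hp).mp hnp.symm this
  obtain ⟨a, m', hqm', hnm⟩ := Nat.exists_eq_pow_mul_and_not_dvd hn0 q hqp.ne_one
  have ha : a ≠ 0 := by
    rintro rfl
    rw [pow_zero, one_mul] at hnm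
    exact hqm' (hnm ▸ hqn)
  have hm'pos : 0 < m' := by
    rcases Nat.eq_zero_or_pos m' with h | h
    · rw [h, mul_zero] at hnm; exact absurd hnm hn0
    · exact h
  have hm'lt : m' < n := by
    rw [hnm]
    have : 1 < q ^ a := Nat.one_lt_pow ha hqp.one_lt
    calc m' = 1 * m' := (one_mul _).symm
      _ < q ^ a * m' := Nat.mul_lt_mul_of_pos_right this hm'pos
  set u := x ^ m' with hu
  set v := x ^ (q ^ a) with hv
  have hu1 : u ^ (q ^ a) = 1 := by
    rw [hu, ← pow_mul, mul_comm, ← hnm, ← hxn, pow_orderOf_eq_one]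
  have hvord : orderOf v = m' := by
    rw [hv, orderOf_pow' x (pow_ne_zero a hqp.ne_zero), hxn, hnm,
      Nat.gcd_eq_right (dvd_mul_right _ _), Nat.mul_div_cancel_left _ (pow_pos hqp.pos a)]
  have huq : IsPGroup q (Subgroup.zpowers u) := by
    have h1 : orderOf u ∣ q ^ a := orderOf_dvd_of_pow_eq_one hu1
    obtain ⟨b, -, hb⟩ := (Nat.dvd_prime_pow hqp).mp h1
    haveI := Fact.mk hqp
    exact IsPGroup.of_card (n := b) (by rw [Nat.card_zpowers, hb])
  have hfix : ∃ g : G, g⁻¹ * u * g ∈ H := by
    have hnd : ¬ q ∣ Nat.card (G ⧸ H) := by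
      have : Nat.card (G ⧸ H) = p ^ k := hk
      rw [this]
      intro h
      exact hqne ((Nat.prime_dvd_prime_iff_eq hqp hp).mp (hqp.dvd_of_dvd_pow h))
    obtain ⟨c, hc⟩ := huq.nonempty_fixed_point_of_prime_not_dvd_card (G ⧸ H) hnd
    obtain ⟨g, rfl⟩ := QuotientGroup.mk_surjective c
    refine ⟨g, ?_⟩
    have h2 : (QuotientGroup.mk (u * g) : G ⧸ H) = QuotientGroup.mk g :=
      hc ⟨u, Subgroup.mem_zpowers u⟩
    rw [QuotientGroup.eq] at h2
    have h3 := H.inv_mem h2
    have e : ((u * g)⁻¹ * g)⁻¹ = g⁻¹ * u * g := by group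
    rwa [e] at h3
  obtain ⟨g, hg⟩ := hfix
  set H' : Subgroup G := H.map (MulAut.conj g).toMonoidHom with hH'
  have huH' : u ∈ H' := by
    rw [hH', Subgroup.mem_map]
    refine ⟨g⁻¹ * u * g, hg, ?_⟩
    show g * (g⁻¹ * u * g) * g⁻¹ = u
    group
  have hH'c : ∀ a ∈ H', ∀ b ∈ H', a * b = b * a := by
    rintro _ ⟨a, ha, rfl⟩ _ ⟨b, hb, rfl⟩
    rw [← map_mul, ← map_mul, hHc a ha b hb]
  have hH'card : Nat.card H' = Nat.card H :=
    Subgroup.card_map_of_injective (MulAut.conj g).injective
  have hH'idx : H'.index = p ^ k := by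
    rw [← hk]; exact Subgroup.index_map_equiv H (MulAut.conj g)
  set C : Subgroup G := Subgroup.centralizer ({u} : Set G) with hC
  have hH'C : H' ≤ C := by
    intro h hh
    rw [hC, Subgroup.mem_centralizer_iff]
    intro w hw
    rw [Set.mem_singleton_iff] at hw
    rw [hw]
    exact hH'c u huH' h hh
  have hvC : v ∈ C := by
    rw [hC, Subgroup.mem_centralizer_iff]
    intro w hw
    rw [Set.mem_singleton_iff] at hw
    rw [hw, hu, hv, ← pow_add, ← pow_add, add_comm]
  obtain ⟨i, -, hi⟩ := (Nat.dvd_prime_pow hp).mp (hH'idx ▸ Subgroup.index_dvd_of_le hH'C)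
  have hrel : ∃ k', (H'.subgroupOf C).index = p ^ k' := by
    have : H'.relIndex C ∣ p ^ k := hH'idx ▸ Subgroup.relIndex_dvd_index_of_le hH'C
    obtain ⟨k', -, hk'⟩ := (Nat.dvd_prime_pow hp).mp this
    exact ⟨k', hk'⟩
  have hcard' : ¬ p ∣ Nat.card (H'.subgroupOf C) := by
    rw [Nat.card_congr (Subgroup.subgroupOfEquivOfLe hH'C).toEquiv, hH'card]; exact hHp
  have hcomm' : ∀ a ∈ H'.subgroupOf C, ∀ b ∈ H'.subgroupOf C, a * b = b * a := by
    intro a ha b hb
    exact Subtype.ext (hH'c _ (Subgroup.mem_subgroupOf.mp ha) _ (Subgroup.mem_subgroupOf.mp hb))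
  have hm'p : m'.Coprime p :=
    Nat.Coprime.coprime_dvd_left (hnm ▸ dvd_mul_left m' (q ^ a)) hnp
  obtain ⟨j, hj⟩ := ih m' hm'lt C (H'.subgroupOf C) hcomm' hcard' hrel ⟨v, hvC⟩
    (by rw [← hvord]; exact Subgroup.orderOf_mk v hvC) hm'p
  have hcent : Subgroup.centralizer ({x} : Set G) =
      (Subgroup.centralizer ({(⟨v, hvC⟩ : C)} : Set C)).map C.subtype := by
    ext z
    rw [Subgroup.mem_map]
    constructor
    · intro hz
      rw [Subgroup.mem_centralizer_iff] at hz
      have hzx : x * z = z * x := hz x rfl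
      have hzx' : Commute z x := hzx.symm
      have hzC : z ∈ C := by
        rw [hC, Subgroup.mem_centralizer_iff]
        intro w hw
        rw [Set.mem_singleton_iff] at hw
        rw [hw]
        exact ((hzx'.pow_right m').eq).symm
      refine ⟨⟨z, hzC⟩, ?_, rfl⟩
      rw [Subgroup.mem_centralizer_iff]
      intro w hw
      rw [Set.mem_singleton_iff] at hw
      rw [hw]
      exact Subtype.ext ((hzx'.pow_right (q ^ a)).eq).symm
    · rintro ⟨⟨z, hzC⟩, hz, rfl⟩
      rw [Subgroup.mem_centralizer_iff] at hz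
      have hzv : v * z = z * v := congrArg Subtype.val (hz ⟨v, hvC⟩ rfl)
      have hzu : u * z = z * u := by
        rw [hC, Subgroup.mem_centralizer_iff] at hzC
        exact hzC u rfl
      have hcop : Nat.Coprime m' (q ^ a) :=
        (Nat.Coprime.pow_left a ((Nat.Prime.coprime_iff_not_dvd hqp).mpr hqm')).symm
      have hb := Nat.gcd_eq_gcd_ab m' (q ^ a)
      rw [hcop.gcd_eq_one] at hb
      have hx : x = u ^ (Nat.gcdA m' (q ^ a)) * v ^ (Nat.gcdB m' (q ^ a)) := by
        rw [hu, hv, ← zpow_natCast, ← zpow_natCast, ← zpow_mul, ← zpow_mul, ← zpow_add, ← hb]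
        simp
      rw [Subgroup.mem_centralizer_iff]
      intro w hw
      rw [Set.mem_singleton_iff] at hw
      rw [hw]
      have c1 : Commute z u := hzu.symm
      have c2 : Commute z v := hzv.symm
      have c3 : Commute z x := by
        rw [hx]; exact (c1.zpow_right _).mul_right (c2.zpow_right _)
      exact c3.eq.symm
  refine ⟨j + i, ?_⟩
  rw [hcent, Subgroup.index_map_subtype, hj, hi, pow_add]

end Cfsg.Agent.H92
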