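import Mathlib
import Cfsg.Prelude.Def_Blocks
import Cfsg.Agent.H4.PaQb
import Cfsg.Agent.H81.WBO
import Cfsg.Agent.H92.PReg

set_option autoImplicit false
set_option linter.style.haveILetI false

/-!
Kazarin's theorem (S4037): an element whose conjugacy class has prime-power size generates a
solvable normal subgroup.  The proof combines Burnside's dichotomy (`H4.Burnside`), weak block
orthogonality for the principal `q`-block (`H81.WBO`), and an invariant-Sylow endgame.
-/

namespace Cfsg.Agent.H92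

open Cfsg
open scoped ComplexConjugate

universe u

theorem exists_isPModular (q : ℕ) (hq : q.Prime) : ∃ M : Ideal AlgInt, IsPModular q M := by
  have hne : Ideal.span {(q : AlgInt)} ≠ ⊤ := by
    intro h
    rw [Ideal.eq_top_iff_one, Ideal.mem_span_singleton'] at h
    obtain ⟨a, ha⟩ := h
    have h1 : (a : ℂ) * (q : ℂ) = 1 := by
      have := congrArg (Subtype.val) ha
      simpa using this
    have hq0 : (q : ℂ) ≠ 0 := by exact_mod_cast hq.ne_zero
    have h2 : IsIntegral ℤ (((1 : ℕ) : ℂ) / ((q : ℕ) : ℂ)) := by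
      have : ((1 : ℕ) : ℂ) / ((q : ℕ) : ℂ) = (a : ℂ) := by
        rw [Nat.cast_one, div_eq_iff hq0]; exact h1.symm
      rw [this]; exact a.2
    exact hq.one_lt.ne' (Nat.dvd_one.mp (Cfsg.Agent.H81.nat_dvd_of_isIntegral_div hq.ne_zero h2))
  obtain ⟨M, hM, hle⟩ := Ideal.exists_le_maximal _ hne
  exact ⟨M, hq, hM, hle (Ideal.mem_span_singleton_self _)⟩

/-- the kernel of an irreducible character, as a subgroup -/
def irrKer {G : Type u} [Group G] [Finite G] (χ : IrrCharacter G) : Subgroup G where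
  carrier := {g | (χ : G → ℂ) g = (χ : G → ℂ) 1}
  one_mem' := rfl
  mul_mem' := by
    intro a b ha hb
    obtain ⟨n, ρ, hρ, hρχ⟩ := χ.2
    simp only [Set.mem_ofPred_eq] at ha hb ⊢
    rw [← hρχ] at ha hb ⊢
    rw [Representation.char_one] at ha hb ⊢
    rw [Cfsg.Agent.H4.character_eq_finrank_iff] at ha hb ⊢
    rw [map_mul, ha, hb]; rfl
  inv_mem' := by
    intro a ha
    obtain ⟨n, ρ, hρ, hρχ⟩ := χ.2
    simp only [Set.mem_ofPred_eq] at ha ⊢
    rw [← hρχ] at ha ⊢
    rw [Representation.char_one] at ha ⊢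
    rw [Cfsg.Agent.H4.character_eq_finrank_iff] at ha ⊢
    have : ρ a⁻¹ = ρ a⁻¹ * ρ a := by rw [ha]; rfl
    rw [this, ← map_mul, inv_mul_cancel, map_one]; rfl

theorem irrKer_normal {G : Type u} [Group G] [Finite G] (χ : IrrCharacter G) :
    (irrKer χ).Normal := by
  constructor
  intro n hn g
  show (χ : G → ℂ) (g * n * g⁻¹) = (χ : G → ℂ) 1
  rw [Cfsg.Agent.H81.irr_conj]; exact hn

theorem scalar_facts {G : Type u} [Group G] [Finite G] {p q : ℕ} (hp : p.Prime) (hq : q.Prime)
    (hpq : p ≠ q) {M : Ideal AlgInt} (hM : IsPModular q M) (x : G) (hxq : orderOf x = q)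
    (hgen : Subgroup.normalClosure ({x} : Set G) = ⊤) (k : ℕ)
    (hidx : (Subgroup.centralizer ({x} : Set G)).index = p ^ k)
    (χ : IrrCharacter G) (hχB : χ ∈ blockOf M (fun _ : G => (1 : ℂ)))
    (hχp : ¬ p ∣ charDegree (χ : G → ℂ)) :
    ∃ ω : ℂ, ω ^ q = 1 ∧ (∀ j : ℕ, (χ : G → ℂ) (x ^ j) = (χ : G → ℂ) 1 * ω ^ j) ∧
      (ω = 1 → χ = Cfsg.Agent.H4.trivialIrr G) ∧
      ∀ g : G, (χ : G → ℂ) (x * g * x⁻¹ * g⁻¹) = (χ : G → ℂ) 1 := by
  classical
  have hMp := Cfsg.Agent.H20.isPrime_of_isPModular hM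
  have hx0 : (χ : G → ℂ) x ≠ 0 := by
    intro h0
    have h1 := hχB x
    unfold centralChar at h1
    rw [h0, mul_zero, zero_div, sub_zero, mul_one, div_one, hidx] at h1
    have h2 : q ∣ p ^ k := (Cfsg.Agent.H20.memLocalIdeal_natCast_iff hM (p ^ k)).mp h1
    exact hpq ((Nat.prime_dvd_prime_iff_eq hq hp).mp (hq.dvd_of_dvd_pow h2)).symm
  obtain ⟨n, ρ, hρ, hρχ⟩ := χ.2
  haveI := hρ
  have hfr : Module.finrank ℂ (Fin n → ℂ) = n := Module.finrank_fin_fun ℂ
  have h1 : (χ : G → ℂ) 1 = n := by rw [← hρχ, Representation.char_one, hfr]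
  have hdeg : charDegree (χ : G → ℂ) = n := by
    unfold charDegree; rw [h1, Complex.natCast_re, Nat.floor_natCast]
  rw [hdeg] at hχp
  have hn0 : (n : ℂ) ≠ 0 := by
    have := Cfsg.Agent.H81.irr_one_ne_zero χ
    rwa [h1] at this
  have hcop : Nat.Coprime (Module.finrank ℂ (Fin n → ℂ))
      (Subgroup.centralizer ({x} : Set G)).index := by
    rw [hidx, hfr]
    exact Nat.Coprime.pow_right k ((Nat.Prime.coprime_iff_not_dvd hp).mpr hχp).symm
  rcases Cfsg.Agent.H4.character_eq_zero_or_norm_eq_of_coprime ρ x hcop with h0 | h0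
  · exact absurd (by rw [← hρχ]; exact h0) hx0
  obtain ⟨ω, hω⟩ := (Cfsg.Agent.H4.character_norm_eq_iff ρ x).mp h0
  have hpow : ∀ j : ℕ, ρ (x ^ j) = (ω ^ j) • (1 : Module.End ℂ (Fin n → ℂ)) := by
    intro j
    rw [map_pow, hω]
    show (ω • (1 : Module.End ℂ (Fin n → ℂ))) ^ j = _
    rw [smul_pow, one_pow]
  have htr : ∀ c : ℂ, LinearMap.trace ℂ (Fin n → ℂ) (c • (1 : Module.End ℂ (Fin n → ℂ))) = c * n := by
    intro c
    rw [map_smul, LinearMap.trace_one, hfr, smul_eq_mul]
  have hχj : ∀ j : ℕ, (χ : G → ℂ) (x ^ j) = (χ : G → ℂ) 1 * ω ^ j := by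
    intro j
    rw [h1, ← hρχ]
    show LinearMap.trace ℂ (Fin n → ℂ) (ρ (x ^ j)) = _
    rw [hpow j, htr, mul_comm]
  have hωq : ω ^ q = 1 := by
    have h2 := hχj q
    rw [← hxq, pow_orderOf_eq_one, h1] at h2
    have h3 : (n : ℂ) * 1 = (n : ℂ) * ω ^ orderOf x := by rw [mul_one]; exact h2
    rw [hxq] at h3
    exact (mul_left_cancel₀ hn0 h3).symm
  refine ⟨ω, hωq, hχj, ?_, ?_⟩
  · intro hω1
    have hxid : ρ x = 1 := by rw [hω, hω1, one_smul]; rfl
    have hker : x ∈ (ρ.asGroupHom).ker := by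
      rw [MonoidHom.mem_ker]
      apply Units.ext
      rw [Representation.asGroupHom_apply]; exact hxid
    have hall : ∀ g : G, ρ g = LinearMap.id := by
      intro g
      have h2 : g ∈ (ρ.asGroupHom).ker := by
        have h3 : Subgroup.normalClosure ({x} : Set G) ≤ (ρ.asGroupHom).ker :=
          Subgroup.normalClosure_le_normal (Set.singleton_subset_iff.mpr hker)
        rw [hgen] at h3
        exact h3 (Subgroup.mem_top g)
      rw [MonoidHom.mem_ker] at h2
      have h4 := congrArg Units.val h2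
      rw [Representation.asGroupHom_apply] at h4
      exact h4
    have h5 := Cfsg.Agent.H4.character_eq_one_of_trivial ρ hall
    apply Subtype.ext
    rw [← hρχ, h5]
    rfl
  · intro g
    have hcomm : ρ (x * g) = ρ (g * x) := by
      rw [map_mul, map_mul, hω]
      ext v
      simp
    have e : x * g * x⁻¹ * g⁻¹ = (x * g) * (x⁻¹ * g⁻¹) := by group
    have h2 : ρ (x * g * x⁻¹ * g⁻¹) = 1 := by
      rw [e, map_mul, hcomm, ← map_mul]
      have : g * x * (x⁻¹ * g⁻¹) = 1 := by group
      rw [this, map_one]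
    rw [h1, ← hρχ]
    show LinearMap.trace ℂ (Fin n → ℂ) (ρ (x * g * x⁻¹ * g⁻¹)) = _
    rw [h2, LinearMap.trace_one, hfr]

theorem kazarin_block {G : Type u} [Group G] [Finite G] {p q : ℕ} (hp : p.Prime) (hq : q.Prime)
    (hpq : p ≠ q) (x : G) (hxq : orderOf x = q)
    (hgen : Subgroup.normalClosure ({x} : Set G) = ⊤) (k : ℕ)
    (hidx : (Subgroup.centralizer ({x} : Set G)).index = p ^ k) :
    ∃ W : Subgroup G, W.Normal ∧ ¬ q ∣ Nat.card W ∧ ∀ g : G, x * g * x⁻¹ * g⁻¹ ∈ W := by
  classical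
  haveI := Fintype.ofFinite G
  letI := Cfsg.Agent.H4.fintypeIrr G
  obtain ⟨M, hM⟩ := exists_isPModular q hq
  set B : Set (IrrCharacter G) := blockOf M (fun _ : G => (1 : ℂ)) with hB
  set A : Set (IrrCharacter G) := {χ | χ ∈ B ∧ ¬ p ∣ charDegree (χ : G → ℂ)} with hA
  have hfacts := fun χ (h : χ ∈ A) => scalar_facts hp hq hpq hM x hxq hgen k hidx χ h.1 h.2
  have htrivA : Cfsg.Agent.H4.trivialIrr G ∈ A := by
    refine ⟨Cfsg.Agent.H81.mem_blockOf_self hM (Cfsg.Agent.H4.trivialIrr G), ?_⟩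
    have : charDegree ((Cfsg.Agent.H4.trivialIrr G : IrrCharacter G) : G → ℂ) = 1 := by
      unfold charDegree
      simp [Cfsg.Agent.H4.trivialIrr]
    rw [this]
    exact fun h => hp.one_lt.ne' (Nat.dvd_one.mp h)
  set W : Subgroup G := ⨅ χ ∈ A, irrKer χ with hW
  have hWmem : ∀ g, g ∈ W ↔ ∀ χ ∈ A, (χ : G → ℂ) g = (χ : G → ℂ) 1 := by
    intro g
    rw [hW]
    simp only [Subgroup.mem_iInf]
    rfl
  have hWn : W.Normal := by
    rw [hW]
    exact Subgroup.normal_iInf_normal fun χ => Subgroup.normal_iInf_normal fun _ => irrKer_normal χ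
  refine ⟨W, hWn, ?_, ?_⟩
  swap
  · intro g
    rw [hWmem]
    intro χ hχ
    obtain ⟨ω, -, -, -, h4⟩ := hfacts χ hχ
    exact h4 g
  intro hqW
  haveI := Fact.mk hq
  obtain ⟨g₀, hg₀⟩ := exists_prime_orderOf_dvd_card' q hqW
  have hg₀' : orderOf (g₀ : G) = q := by rw [Subgroup.orderOf_coe]; exact hg₀
  set T : G → ℂ := fun g => ∑ χ : IrrCharacter G,
    if χ ∈ A then (χ : G → ℂ) 1 * conj ((χ : G → ℂ) g) else 0 with hT
  have hT1 : ∀ g : G, q ∣ orderOf g → ∃ β : ℂ, IsIntegral ℤ β ∧ T g = p * β := by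
    intro g hg
    have hwbo := Cfsg.Agent.H81.wbo_one hM (Cfsg.Agent.H4.trivialIrr G) 1 g
      (by rw [orderOf_one]; exact fun h => hq.one_lt.ne' (Nat.dvd_one.mp h)) hg
    rw [Cfsg.Agent.H20.finsum_mem_irr] at hwbo
    have hsplit : ∀ χ : IrrCharacter G,
        (if χ ∈ blockOf M ((Cfsg.Agent.H4.trivialIrr G : IrrCharacter G) : G → ℂ) then
          (χ : G → ℂ) 1 * conj ((χ : G → ℂ) g) else 0) =
        (if χ ∈ A then (χ : G → ℂ) 1 * conj ((χ : G → ℂ) g) else 0) +
        (p : ℂ) * (if χ ∈ B ∧ p ∣ charDegree (χ : G → ℂ) then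
          ((charDegree (χ : G → ℂ) / p : ℕ) : ℂ) * conj ((χ : G → ℂ) g) else 0) := by
      intro χ
      have hBe : (χ ∈ blockOf M ((Cfsg.Agent.H4.trivialIrr G : IrrCharacter G) : G → ℂ)) ↔
          χ ∈ B := Iff.rfl
      by_cases h1 : χ ∈ B
      · by_cases h2 : p ∣ charDegree (χ : G → ℂ)
        · have hA' : χ ∉ A := fun h => h.2 h2
          rw [if_pos (hBe.mpr h1), if_neg hA', if_pos ⟨h1, h2⟩, zero_add]
          rw [(Cfsg.Agent.H81.irr_charDegree χ).1]
          obtain ⟨c, hc⟩ := h2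
          rw [hc, Nat.mul_div_cancel_left c hp.pos]
          push_cast; ring
        · have hA' : χ ∈ A := ⟨h1, h2⟩
          rw [if_pos (hBe.mpr h1), if_pos hA', if_neg (fun h => h2 h.2), mul_zero, add_zero]
      · have hA' : χ ∉ A := fun h => h1 h.1
        rw [if_neg (fun h => h1 (hBe.mp h)), if_neg hA', if_neg (fun h => h1 h.1), mul_zero,
          add_zero]
    rw [Finset.sum_congr rfl (fun χ _ => hsplit χ), Finset.sum_add_distrib, ← Finset.mul_sum]
      at hwbo
    refine ⟨-∑ χ : IrrCharacter G, (if χ ∈ B ∧ p ∣ charDegree (χ : G → ℂ) then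
          ((charDegree (χ : G → ℂ) / p : ℕ) : ℂ) * conj ((χ : G → ℂ) g) else 0), ?_, ?_⟩
    · apply IsIntegral.neg
      apply IsIntegral.sum
      intro χ _
      split_ifs
      · apply IsIntegral.mul (Cfsg.Agent.H4.isIntegral_natCast_complex _)
        rw [← Cfsg.Agent.H81.irr_inv]; exact Cfsg.Agent.H81.irr_isIntegral χ _
      · exact isIntegral_zero
    · show (∑ χ : IrrCharacter G,
        if χ ∈ A then (χ : G → ℂ) 1 * conj ((χ : G → ℂ) g) else 0) = _
      linear_combination hwbo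
  have hT2 : T (g₀ : G) = T 1 := by
    rw [hT]
    apply Finset.sum_congr rfl
    intro χ _
    by_cases h : χ ∈ A
    · rw [if_pos h, if_pos h, (hWmem _).mp g₀.2 χ h]
    · rw [if_neg h, if_neg h]
  have hT3 : ∑ j ∈ Finset.range q, T (x ^ j) = q := by
    show ∑ j ∈ Finset.range q, (∑ χ : IrrCharacter G,
        if χ ∈ A then (χ : G → ℂ) 1 * conj ((χ : G → ℂ) (x ^ j)) else 0) = _
    rw [Finset.sum_comm]
    have hterm : ∀ χ : IrrCharacter G, ∑ j ∈ Finset.range q,
        (if χ ∈ A then (χ : G → ℂ) 1 * conj ((χ : G → ℂ) (x ^ j)) else 0) =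
        if χ = Cfsg.Agent.H4.trivialIrr G then (q : ℂ) else 0 := by
      intro χ
      by_cases h : χ ∈ A
      · simp only [if_pos h]
        obtain ⟨ω, hωq, hωj, hω1, -⟩ := hfacts χ h
        by_cases h1 : ω = 1
        · have hχ := hω1 h1
          rw [if_pos hχ, hχ]
          simp [Cfsg.Agent.H4.trivialIrr]
        · have hχ : χ ≠ Cfsg.Agent.H4.trivialIrr G := by
            intro hχ
            have h2 := hωj 1
            rw [hχ] at h2
            simp [Cfsg.Agent.H4.trivialIrr] at h2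
            exact h1 h2.symm
          rw [if_neg hχ]
          have hgeom : ∑ j ∈ Finset.range q, ω ^ j = 0 := by
            have h2 := geom_sum_mul ω q
            rw [hωq, sub_self] at h2
            exact (mul_eq_zero.mp h2).resolve_right (sub_ne_zero.mpr h1)
          calc ∑ j ∈ Finset.range q, (χ : G → ℂ) 1 * conj ((χ : G → ℂ) (x ^ j))
              = (χ : G → ℂ) 1 * conj (∑ j ∈ Finset.range q, (χ : G → ℂ) (x ^ j)) := by
                rw [map_sum, Finset.mul_sum]
            _ = (χ : G → ℂ) 1 * conj (∑ j ∈ Finset.range q, (χ : G → ℂ) 1 * ω ^ j) := by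
                congr 2; exact Finset.sum_congr rfl (fun j _ => hωj j)
            _ = 0 := by rw [← Finset.mul_sum, hgeom, mul_zero, map_zero, mul_zero]
      · simp only [if_neg h, Finset.sum_const_zero]
        have hχ : χ ≠ Cfsg.Agent.H4.trivialIrr G := by
          rintro rfl
          exact h htrivA
        rw [if_neg hχ]
    rw [Finset.sum_congr rfl (fun χ _ => hterm χ)]
    simp
  obtain ⟨β₀, hβ₀, hTβ₀⟩ := hT1 (g₀ : G) (by rw [hg₀'])
  have hβj : ∀ j : ℕ, j ∈ Finset.Ico 1 q → ∃ β, IsIntegral ℤ β ∧ T (x ^ j) = p * β := by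
    intro j hj
    rw [Finset.mem_Ico] at hj
    apply hT1
    have h2 : orderOf (x ^ j) = q := by
      rw [orderOf_pow' x (by omega), hxq]
      have h3 : Nat.gcd q j = 1 :=
        (Nat.Prime.coprime_iff_not_dvd hq).mpr (Nat.not_dvd_of_pos_of_lt (by omega) hj.2)
      rw [h3, Nat.div_one]
    rw [h2]
  choose! β hβint hβ using hβj
  rw [Finset.range_eq_Ico, Finset.sum_eq_sum_Ico_succ_bot hq.pos, pow_zero, ← hT2, hTβ₀,
    Finset.sum_congr rfl (fun j hj => hβ j hj), ← Finset.mul_sum, ← mul_add] at hT3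
  have hp0 : (p : ℂ) ≠ 0 := by exact_mod_cast hp.ne_zero
  have hint : IsIntegral ℤ ((q : ℂ) / (p : ℂ)) := by
    rw [← hT3, mul_div_cancel_left₀ _ hp0]
    exact IsIntegral.add hβ₀ (IsIntegral.sum _ (fun j hj => hβint j hj))
  have hdvd := Cfsg.Agent.H81.nat_dvd_of_isIntegral_div hp.ne_zero hint
  exact hpq ((Nat.prime_dvd_prime_iff_eq hp hq).mp hdvd)


theorem isSolvable_sup_normal {G : Type*} [Group G] (H K : Subgroup G) [K.Normal]
    (hH : Group.IsSolvable H) (hK : Group.IsSolvable K) : Group.IsSolvable ↥(H ⊔ K) := by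
  haveI : (K.subgroupOf (H ⊔ K)).Normal := inferInstance
  rw [Group.isSolvable_iff_subgroup_quotient (K.subgroupOf (H ⊔ K))]
  constructor
  · exact Group.isSolvable_of_isSolvable_injective
      (f := (Subgroup.subgroupOfEquivOfLe (le_sup_right : K ≤ H ⊔ K)).toMonoidHom)
      (Subgroup.subgroupOfEquivOfLe le_sup_right).injective
  · let φ : H →* ↥(H ⊔ K) ⧸ K.subgroupOf (H ⊔ K) :=
      (QuotientGroup.mk' (K.subgroupOf (H ⊔ K))).comp (Subgroup.inclusion le_sup_left)
    apply Group.isSolvable_of_surjective (f := φ)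
    intro z
    obtain ⟨⟨y, hy⟩, rfl⟩ := QuotientGroup.mk_surjective z
    have hy' : y ∈ (↑(H ⊔ K) : Set G) := hy
    rw [Subgroup.mul_normal] at hy'
    obtain ⟨h, hh, k, hk, rfl⟩ := Set.mem_mul.mp hy'
    refine ⟨⟨h, hh⟩, ?_⟩
    show (QuotientGroup.mk (Subgroup.inclusion le_sup_left (⟨h, hh⟩ : H)) :
      ↥(H ⊔ K) ⧸ K.subgroupOf (H ⊔ K)) = QuotientGroup.mk ⟨h * k, hy⟩
    rw [QuotientGroup.eq, Subgroup.mem_subgroupOf]
    have : ((Subgroup.inclusion le_sup_left (⟨h, hh⟩ : H) : ↥(H ⊔ K))⁻¹ * ⟨h * k, hy⟩ : ↥(H ⊔ K)).1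
        = k := by
      show h⁻¹ * (h * k) = k
      group
    rw [this]; exact hk

theorem exists_solvable_radical (G : Type*) [Group G] [Finite G] :
    ∃ R : Subgroup G, R.Normal ∧ Group.IsSolvable R ∧
      ∀ A : Subgroup G, A.Normal → Group.IsSolvable A → A ≤ R := by
  set s : Set (Subgroup G) := {A | A.Normal ∧ Group.IsSolvable A} with hs
  have hbot : (⊥ : Subgroup G) ∈ s := ⟨inferInstance, inferInstance⟩
  obtain ⟨R, -, hR, hmax⟩ := Set.Finite.exists_le_maximal (Set.toFinite s) hbot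
  refine ⟨R, hR.1, hR.2, ?_⟩
  intro A hAn hAs
  haveI := hR.1
  haveI := hAn
  have h1 : R ⊔ A ∈ s := ⟨inferInstance, isSolvable_sup_normal R A hR.2 hAs⟩
  have h2 : R ⊔ A ≤ R := hmax h1 le_sup_left
  exact le_sup_right.trans h2

theorem normalClosure_solvable_of_sub {G : Type u} [Group G] [Finite G] (x : G)
    (h : Group.IsSolvable ↥(Subgroup.normalClosure
      ({(⟨x, Subgroup.subset_normalClosure (Set.mem_singleton x)⟩ :
        Subgroup.normalClosure ({x} : Set G))} : Set (Subgroup.normalClosure ({x} : Set G))))) :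
    Group.IsSolvable ↥(Subgroup.normalClosure ({x} : Set G)) := by
  obtain ⟨R, hRn, hRs, hRmax⟩ := exists_solvable_radical ↥(Subgroup.normalClosure ({x} : Set G))
  have hchar : R.Characteristic := by
    rw [Subgroup.characteristic_iff_map_le]
    intro ϕ
    apply hRmax
    · exact hRn.map _ ϕ.surjective
    · exact Group.isSolvable_of_surjective
        (f := (R.equivMapOfInjective ϕ.toMonoidHom ϕ.injective).toMonoidHom)
        (R.equivMapOfInjective _ ϕ.injective).surjective
  haveI := hchar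
  have hnorm : (R.map (Subgroup.normalClosure ({x} : Set G)).subtype).Normal :=
    ConjAct.normal_of_characteristic_of_normal
  have hx : x ∈ R.map (Subgroup.normalClosure ({x} : Set G)).subtype := by
    refine ⟨⟨x, Subgroup.subset_normalClosure (Set.mem_singleton x)⟩, ?_, rfl⟩
    exact hRmax _ Subgroup.normalClosure_normal h
      (Subgroup.subset_normalClosure (Set.mem_singleton _))
  have hle : Subgroup.normalClosure ({x} : Set G) ≤
      R.map (Subgroup.normalClosure ({x} : Set G)).subtype :=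
    Subgroup.normalClosure_le_normal (Set.singleton_subset_iff.mpr hx)
  have htop : R = ⊤ := by
    rw [eq_top_iff]
    intro n _
    obtain ⟨r, hr, hrn⟩ := hle n.2
    have : r = n := Subtype.ext hrn
    rwa [← this]
  rw [htop] at hRs
  exact Group.isSolvable_of_surjective
    (f := (Subgroup.topEquiv :
      (⊤ : Subgroup (Subgroup.normalClosure ({x} : Set G))) ≃* _).toMonoidHom)
    Subgroup.topEquiv.surjective

theorem normalClosure_solvable_of_quot {G : Type u} [Group G] (A : Subgroup G) [A.Normal]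
    (hA : Group.IsSolvable A) (x : G)
    (h : Group.IsSolvable ↥(Subgroup.normalClosure
      ({(QuotientGroup.mk x : G ⧸ A)} : Set (G ⧸ A)))) :
    Group.IsSolvable ↥(Subgroup.normalClosure ({x} : Set G)) := by
  have hle : Subgroup.normalClosure ({x} : Set G) ≤
      (Subgroup.normalClosure ({(QuotientGroup.mk x : G ⧸ A)} : Set (G ⧸ A))).comap
        (QuotientGroup.mk' A) := by
    haveI : ((Subgroup.normalClosure ({(QuotientGroup.mk x : G ⧸ A)} : Set (G ⧸ A))).comap
        (QuotientGroup.mk' A)).Normal := Subgroup.Normal.comap Subgroup.normalClosure_normal _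
    apply Subgroup.normalClosure_le_normal
    rw [Set.singleton_subset_iff]
    exact Subgroup.subset_normalClosure (Set.mem_singleton _)
  let g : ↥(Subgroup.normalClosure ({x} : Set G)) →*
      ↥(Subgroup.normalClosure ({(QuotientGroup.mk x : G ⧸ A)} : Set (G ⧸ A))) :=
    ((QuotientGroup.mk' A).comp (Subgroup.normalClosure ({x} : Set G)).subtype).codRestrict _
      (fun n => hle n.2)
  let f : ↥(A ⊓ Subgroup.normalClosure ({x} : Set G)) →*
      ↥(Subgroup.normalClosure ({x} : Set G)) := Subgroup.inclusion inf_le_right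
  haveI : Group.IsSolvable ↥(A ⊓ Subgroup.normalClosure ({x} : Set G)) :=
    Group.isSolvable_of_isSolvable_injective (f := Subgroup.inclusion (inf_le_left))
      (Subgroup.inclusion_injective inf_le_left)
  apply Group.isSolvable_of_ker_le_range f g
  intro n hn
  rw [MonoidHom.mem_ker] at hn
  have h1 : (QuotientGroup.mk (n : G) : G ⧸ A) = 1 := congrArg Subtype.val hn
  have h2 : (n : G) ∈ A := (QuotientGroup.eq_one_iff _).mp h1
  exact ⟨⟨n, ⟨h2, n.2⟩⟩, rfl⟩

theorem relIndex_sup_eq_of_normal {G : Type*} [Group G] [Finite G]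
    (C N : Subgroup G) [N.Normal] : C.relIndex (N ⊔ C) = C.relIndex N := by
  have h1 : Nat.card ↥(N ⊔ C) = Nat.card N * N.relIndex C := by
    rw [← Subgroup.relIndex_bot_left, ← Subgroup.relIndex_bot_left,
      ← Subgroup.relIndex_sup_left C N,
      Subgroup.relIndex_mul_relIndex ⊥ N (N ⊔ C) bot_le le_sup_left]
  have h2 : Nat.card N = Nat.card ↥(C ⊓ N) * C.relIndex N := by
    rw [← Subgroup.relIndex_bot_left, ← Subgroup.relIndex_bot_left,
      ← Subgroup.inf_relIndex_right C N,
      Subgroup.relIndex_mul_relIndex ⊥ (C ⊓ N) N bot_le inf_le_right]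
  have h3 : Nat.card C = Nat.card ↥(C ⊓ N) * N.relIndex C := by
    rw [← Subgroup.relIndex_bot_left, ← Subgroup.relIndex_bot_left,
      ← Subgroup.inf_relIndex_left C N,
      Subgroup.relIndex_mul_relIndex ⊥ (C ⊓ N) C bot_le inf_le_left]
  have h4 : Nat.card ↥(N ⊔ C) = Nat.card C * C.relIndex (N ⊔ C) := by
    rw [← Subgroup.relIndex_bot_left, ← Subgroup.relIndex_bot_left,
      Subgroup.relIndex_mul_relIndex ⊥ C (N ⊔ C) bot_le le_sup_right]
  have hpos : 0 < Nat.card C := Nat.card_pos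
  have : Nat.card C * C.relIndex (N ⊔ C) = Nat.card C * C.relIndex N := by
    rw [← h4, h1, h2, h3]; ring
  exact Nat.eq_of_mul_eq_mul_left hpos this

theorem exists_mul_of_pgroup_index {G : Type*} [Group G] [Finite G] {p : ℕ} (hp : p.Prime)
    (C P : Subgroup G) (k : ℕ) (hC : C.index = p ^ k) (hPi : ¬ p ∣ P.index) :
    ∀ g : G, ∃ u ∈ P, u⁻¹ * g ∈ C := by
  have hcard : p ^ k ∣ C.relIndex P := by
    have h2 : Nat.card P = Nat.card ↥(C ⊓ P) * C.relIndex P := by
      rw [← Subgroup.relIndex_bot_left, ← Subgroup.relIndex_bot_left,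
        ← Subgroup.inf_relIndex_right C P,
        Subgroup.relIndex_mul_relIndex ⊥ (C ⊓ P) P bot_le inf_le_right]
    obtain ⟨c, hc⟩ : Nat.card ↥(C ⊓ P) ∣ Nat.card C := Subgroup.card_dvd_of_le inf_le_left
    have h3 : Nat.card C * C.index = Nat.card G := Subgroup.card_mul_index C
    have h4 : Nat.card P * P.index = Nat.card G := Subgroup.card_mul_index P
    have hb : 0 < Nat.card ↥(C ⊓ P) := Nat.card_pos
    have h5 : C.relIndex P * P.index = c * p ^ k := by
      apply Nat.eq_of_mul_eq_mul_left hb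
      rw [← mul_assoc, ← h2, h4, ← mul_assoc, ← hc, ← hC, h3]
    have h6 : p ^ k ∣ C.relIndex P * P.index := ⟨c, by rw [h5, mul_comm]⟩
    exact (Nat.Coprime.pow_left k
      ((Nat.Prime.coprime_iff_not_dvd hp).mpr hPi)).dvd_of_dvd_mul_right h6
  have horb : MulAction.orbit P (QuotientGroup.mk 1 : G ⧸ C) = Set.univ := by
    apply Set.eq_of_subset_of_ncard_le (Set.subset_univ _)
    rw [Set.ncard_univ, ← MulAction.index_stabilizer]
    have hst : MulAction.stabilizer P (QuotientGroup.mk 1 : G ⧸ C) = C.subgroupOf P := by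
      ext u
      rw [MulAction.mem_stabilizer_iff, Subgroup.mem_subgroupOf]
      show (QuotientGroup.mk ((u : G) * 1) : G ⧸ C) = QuotientGroup.mk 1 ↔ _
      rw [QuotientGroup.eq]
      simp
    rw [hst]
    show Nat.card (G ⧸ C) ≤ C.relIndex P
    have h7 : Nat.card (G ⧸ C) = p ^ k := hC
    rw [h7]
    exact Nat.le_of_dvd (Nat.pos_of_ne_zero Subgroup.index_ne_zero_of_finite) hcard
  intro g
  have hg : (QuotientGroup.mk g : G ⧸ C) ∈ MulAction.orbit P (QuotientGroup.mk 1 : G ⧸ C) :=
    horb ▸ Set.mem_univ _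
  obtain ⟨u, hu⟩ := hg
  refine ⟨u, u.2, ?_⟩
  have hu' : (QuotientGroup.mk ((u : G) * 1) : G ⧸ C) = QuotientGroup.mk g := hu
  rw [QuotientGroup.eq] at hu'
  simpa using hu'

theorem closure_solvable_of_conj {G : Type u} [Group G] [Finite G] {p : ℕ} (hp : p.Prime)
    (P : Subgroup G) (hP : IsPGroup p P) (y : G) (hy : y ∈ Subgroup.normalizer (P : Set G)) (S : Set G)
    (hS : ∀ a ∈ S, ∃ u ∈ P, a = u * y * u⁻¹) :
    Group.IsSolvable ↥(Subgroup.closure S) := by
  haveI := Fact.mk hp
  have hNle : Subgroup.closure S ≤ Subgroup.normalizer (P : Set G) := by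
    rw [Subgroup.closure_le]
    intro a ha
    obtain ⟨u, hu, rfl⟩ := hS a ha
    exact mul_mem (mul_mem (Subgroup.le_normalizer hu) hy) (inv_mem (Subgroup.le_normalizer hu))
  let π := QuotientGroup.mk' (P.subgroupOf (Subgroup.normalizer (P : Set G)))
  let ψ : ↥(Subgroup.closure S) →* ↥(Subgroup.normalizer (P : Set G)) ⧸ P.subgroupOf (Subgroup.normalizer (P : Set G)) :=
    π.comp (Subgroup.inclusion hNle)
  have hψ : ∀ (a : G) (ha : a ∈ Subgroup.closure S),
      ψ ⟨a, ha⟩ ∈ Subgroup.zpowers (π ⟨y, hy⟩) := by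
    intro a ha
    refine Subgroup.closure_induction
      (p := fun a ha => ψ ⟨a, ha⟩ ∈ Subgroup.zpowers (π ⟨y, hy⟩)) ?_ ?_ ?_ ?_ ha
    · intro a ha
      obtain ⟨u, hu, e⟩ := hS a ha
      have h1 : ψ ⟨a, Subgroup.subset_closure ha⟩ = π ⟨y, hy⟩ := by
        show (QuotientGroup.mk (Subgroup.inclusion hNle ⟨a, Subgroup.subset_closure ha⟩) :
          ↥(Subgroup.normalizer (P : Set G)) ⧸ P.subgroupOf (Subgroup.normalizer (P : Set G))) = QuotientGroup.mk ⟨y, hy⟩
        rw [QuotientGroup.eq, Subgroup.mem_subgroupOf]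
        show a⁻¹ * y ∈ P
        rw [e]
        have h2 : y⁻¹ * u⁻¹ * y⁻¹⁻¹ ∈ P :=
          (Subgroup.mem_normalizer_iff.mp (inv_mem hy) u⁻¹).mp (inv_mem hu)
        rw [inv_inv] at h2
        have h3 : (u * y * u⁻¹)⁻¹ * y = u * (y⁻¹ * u⁻¹ * y) := by group
        rw [h3]
        exact mul_mem hu h2
      rw [h1]; exact Subgroup.mem_zpowers _
    · have : ψ ⟨1, Subgroup.one_mem _⟩ = 1 := map_one ψ
      rw [this]; exact Subgroup.one_mem _
    · intro a b ha hb iha ihb
      have : ψ ⟨a * b, mul_mem ha hb⟩ = ψ ⟨a, ha⟩ * ψ ⟨b, hb⟩ := map_mul ψ ⟨a, ha⟩ ⟨b, hb⟩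
      rw [this]; exact mul_mem iha ihb
    · intro a ha iha
      have : ψ ⟨a⁻¹, inv_mem ha⟩ = (ψ ⟨a, ha⟩)⁻¹ := map_inv ψ ⟨a, ha⟩
      rw [this]; exact inv_mem iha
  let g : ↥(Subgroup.closure S) →* ↥(Subgroup.zpowers (π ⟨y, hy⟩)) :=
    ψ.codRestrict _ (fun n => hψ n.1 n.2)
  let f : ↥(P ⊓ Subgroup.closure S) →* ↥(Subgroup.closure S) := Subgroup.inclusion inf_le_right
  haveI : Group.IsSolvable ↥(P ⊓ Subgroup.closure S) := by
    have hpg : IsPGroup p ↥(P ⊓ Subgroup.closure S) := hP.to_le inf_le_left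
    haveI := hpg.isNilpotent
    infer_instance
  haveI : Group.IsSolvable ↥(Subgroup.zpowers (π ⟨y, hy⟩)) := by
    apply Group.isSolvable_of_comm
    intro a b
    obtain ⟨i, hi⟩ := Subgroup.mem_zpowers_iff.mp a.2
    obtain ⟨j, hj⟩ := Subgroup.mem_zpowers_iff.mp b.2
    apply Subtype.ext
    rw [Subgroup.coe_mul, Subgroup.coe_mul, ← hi, ← hj, ← zpow_add, ← zpow_add, add_comm]
  apply Group.isSolvable_of_ker_le_range f g
  intro n hn
  rw [MonoidHom.mem_ker] at hn
  have h1 : ψ n = 1 := congrArg Subtype.val hn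
  have h2 : (Subgroup.inclusion hNle n) ∈ P.subgroupOf (Subgroup.normalizer (P : Set G)) :=
    (QuotientGroup.eq_one_iff _).mp h1
  exact ⟨⟨n, ⟨Subgroup.mem_subgroupOf.mp h2, n.2⟩⟩, rfl⟩

theorem normalClosure_solvable_of_normalizes {G : Type u} [Group G] [Finite G] {p : ℕ}
    (hp : p.Prime) (y : G) (k : ℕ) (hidx : (Subgroup.centralizer ({y} : Set G)).index = p ^ k)
    (P : Subgroup G) (hP : IsPGroup p P) (hPi : ¬ p ∣ P.index) (hy : y ∈ Subgroup.normalizer (P : Set G)) :
    Group.IsSolvable ↥(Subgroup.normalClosure ({y} : Set G)) := by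
  have hmul := exists_mul_of_pgroup_index hp (Subgroup.centralizer ({y} : Set G)) P k hidx hPi
  apply closure_solvable_of_conj hp P hP y hy
  intro a ha
  obtain ⟨b, hb, hba⟩ := Group.mem_conjugatesOfSet_iff.mp ha
  rw [Set.mem_singleton_iff] at hb
  rw [hb] at hba
  obtain ⟨g, rfl⟩ := isConj_iff.mp hba
  obtain ⟨u, hu, hc⟩ := hmul g
  refine ⟨u, hu, ?_⟩
  rw [Subgroup.mem_centralizer_iff] at hc
  have h1 := hc y rfl
  have h2 : g * y * g⁻¹ = u * ((u⁻¹ * g) * y * (u⁻¹ * g)⁻¹) * u⁻¹ := by group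
  rw [h2, ← h1]
  group

theorem exists_normalized_sylow {G : Type u} [Group G] [Finite G] {p q : ℕ} (hp : p.Prime)
    (hq : q.Prime) (W : Subgroup G) [W.Normal] (hqW : ¬ q ∣ Nat.card W) (hpW : ¬ p ∣ W.index)
    (y : G) (hyq : orderOf y = q) :
    ∃ P : Subgroup G, IsPGroup p P ∧ ¬ p ∣ P.index ∧ y ∈ Subgroup.normalizer (P : Set G) := by
  haveI := Fact.mk hp
  haveI := Fact.mk hq
  obtain ⟨P₀⟩ : Nonempty (Sylow p W) := inferInstance
  have hfr : (Subgroup.normalizer (((P₀ : Subgroup W).map W.subtype : Subgroup G) : Set G)) ⊔ W = ⊤ :=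
    Sylow.normalizer_sup_eq_top P₀
  have hidx : (Subgroup.normalizer (((P₀ : Subgroup W).map W.subtype : Subgroup G) : Set G)).index ∣ Nat.card W := by
    have h1 := relIndex_sup_eq_of_normal (Subgroup.normalizer (((P₀ : Subgroup W).map W.subtype : Subgroup G) : Set G)) W
    rw [sup_comm, hfr, Subgroup.relIndex_top_right] at h1
    rw [h1]; exact Subgroup.relIndex_dvd_card _ _
  have hnd : ¬ q ∣ Nat.card (G ⧸ (Subgroup.normalizer (((P₀ : Subgroup W).map W.subtype : Subgroup G) : Set G))) :=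
    fun h => hqW (h.trans hidx)
  have huq : IsPGroup q (Subgroup.zpowers y) :=
    IsPGroup.of_card (n := 1) (by rw [Nat.card_zpowers, hyq, pow_one])
  obtain ⟨c, hc⟩ := huq.nonempty_fixed_point_of_prime_not_dvd_card
    (G ⧸ (Subgroup.normalizer (((P₀ : Subgroup W).map W.subtype : Subgroup G) : Set G))) hnd
  obtain ⟨g, rfl⟩ := QuotientGroup.mk_surjective c
  have h2 : (QuotientGroup.mk (y * g) : G ⧸ (Subgroup.normalizer (((P₀ : Subgroup W).map W.subtype : Subgroup G) : Set G))) =
      QuotientGroup.mk g := hc ⟨y, Subgroup.mem_zpowers y⟩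
  rw [QuotientGroup.eq] at h2
  have h3 := Subgroup.inv_mem _ h2
  have e : ((y * g)⁻¹ * g)⁻¹ = g⁻¹ * y * g := by group
  rw [e] at h3
  refine ⟨((P₀ : Subgroup W).map W.subtype).map (MulAut.conj g).toMonoidHom, ?_, ?_, ?_⟩
  · exact (P₀.2.map _).map _
  · have h4 : (((P₀ : Subgroup W).map W.subtype).map (MulAut.conj g).toMonoidHom).index =
        ((P₀ : Subgroup W).map W.subtype).index := Subgroup.index_map_equiv _ (MulAut.conj g)
    rw [h4, Subgroup.index_map_subtype]
    intro h
    rcases (Nat.Prime.dvd_mul hp).mp h with h | h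
    · exact P₀.not_dvd_index h
    · exact hpW h
  · rw [← Subgroup.map_equiv_normalizer_eq]
    refine ⟨g⁻¹ * y * g, h3, ?_⟩
    show g * (g⁻¹ * y * g) * g⁻¹ = y
    group


theorem index_centralizer_subgroupOf_dvd {G : Type*} [Group G] [Finite G]
    (N : Subgroup G) [N.Normal] (y : N) :
    (Subgroup.centralizer ({y} : Set N)).index ∣
      (Subgroup.centralizer ({(y : G)} : Set G)).index := by
  have e : Subgroup.centralizer ({y} : Set N) =
      (Subgroup.centralizer ({(y : G)} : Set G)).subgroupOf N := by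
    ext z
    rw [Subgroup.mem_subgroupOf, Subgroup.mem_centralizer_iff, Subgroup.mem_centralizer_iff]
    constructor
    · intro hz w hw
      rw [Set.mem_singleton_iff] at hw
      rw [hw]
      exact congrArg Subtype.val (hz y rfl)
    · intro hz w hw
      rw [Set.mem_singleton_iff] at hw
      rw [hw]
      exact Subtype.ext (hz (y : G) rfl)
  rw [e]
  exact relIndex_dvd_index_of_normal_right _ N

theorem index_centralizer_quotient_dvd {G : Type*} [Group G] [Finite G]
    (M : Subgroup G) [M.Normal] (y : G) :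
    (Subgroup.centralizer ({(QuotientGroup.mk y : G ⧸ M)} : Set (G ⧸ M))).index ∣
      (Subgroup.centralizer ({y} : Set G)).index := by
  have hle : (Subgroup.centralizer ({y} : Set G)).map (QuotientGroup.mk' M) ≤
      Subgroup.centralizer ({(QuotientGroup.mk y : G ⧸ M)} : Set (G ⧸ M)) := by
    rintro _ ⟨z, hz, rfl⟩
    replace hz : z ∈ Subgroup.centralizer ({y} : Set G) := hz
    rw [Subgroup.mem_centralizer_iff] at hz ⊢
    intro w hw
    rw [Set.mem_singleton_iff] at hw
    subst hw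
    have := hz y rfl
    show (QuotientGroup.mk y : G ⧸ M) * QuotientGroup.mk z =
      QuotientGroup.mk z * QuotientGroup.mk y
    rw [← QuotientGroup.mk_mul, ← QuotientGroup.mk_mul, this]
  exact (Subgroup.index_dvd_of_le hle).trans
    (Subgroup.index_map_dvd _ (QuotientGroup.mk'_surjective M))

theorem kazarin_aux : ∀ n : ℕ, ∀ (G : Type u) [Group G] [Finite G], Nat.card G = n →
    ∀ (x : G) (p : ℕ) (k : ℕ), p.Prime → (Subgroup.centralizer ({x} : Set G)).index = p ^ k →
    Group.IsSolvable ↥(Subgroup.normalClosure ({x} : Set G)) := by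
  intro n
  induction n using Nat.strong_induction_on with
  | _ n ih =>
  intro G _ _ hn x p k hp hidx
  obtain ⟨R, hRn, hRs, hRmax⟩ := exists_solvable_radical G
  haveI := hRn
  suffices hxR : x ∈ R by
    have hle : Subgroup.normalClosure ({x} : Set G) ≤ R :=
      Subgroup.normalClosure_le_normal (Set.singleton_subset_iff.mpr hxR)
    exact Group.isSolvable_of_isSolvable_injective (f := Subgroup.inclusion hle)
      (Subgroup.inclusion_injective hle)
  by_cases hRbot : R = ⊥
  · rw [hRbot, Subgroup.mem_bot]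
    by_contra hx1
    have hord : orderOf x ≠ 1 := fun h => hx1 (orderOf_eq_one_iff.mp h)
    obtain ⟨q, hq⟩ : ∃ q, q = (orderOf x).minFac := ⟨_, rfl⟩
    have hqp : q.Prime := hq ▸ Nat.minFac_prime hord
    have hqd : q ∣ orderOf x := hq ▸ Nat.minFac_dvd _
    obtain ⟨y, hy⟩ : ∃ y, y = x ^ (orderOf x / q) := ⟨_, rfl⟩
    have hyq : orderOf y = q := hy ▸ orderOf_pow_orderOf_div (orderOf_pos x).ne' hqd
    have hy1 : y ≠ 1 := by
      intro h
      rw [h, orderOf_one] at hyq
      exact hqp.one_lt.ne' hyq.symm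
    have hcle : Subgroup.centralizer ({x} : Set G) ≤ Subgroup.centralizer ({y} : Set G) := by
      intro z hz
      rw [Subgroup.mem_centralizer_iff] at hz ⊢
      intro w hw
      rw [Set.mem_singleton_iff] at hw
      rw [hw, hy]
      have hc : Commute x z := hz x rfl
      exact (hc.pow_left _).eq
    obtain ⟨k', -, hk'⟩ := (Nat.dvd_prime_pow hp).mp (hidx ▸ Subgroup.index_dvd_of_le hcle)
    have key : Group.IsSolvable ↥(Subgroup.normalClosure ({y} : Set G)) := by
      by_cases hNy : Subgroup.normalClosure ({y} : Set G) = ⊤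
      · by_cases hqp' : q = p
        · haveI := Fact.mk hp
          have huq : IsPGroup p (Subgroup.zpowers y) :=
            IsPGroup.of_card (n := 1) (by rw [Nat.card_zpowers, hyq, hqp', pow_one])
          obtain ⟨P, hP⟩ := huq.exists_le_sylow
          exact normalClosure_solvable_of_normalizes hp y k' hk' P P.2 P.not_dvd_index
            (Subgroup.le_normalizer (hP (Subgroup.mem_zpowers y)))
        · obtain ⟨W, hWn, hqW, hcomm⟩ := kazarin_block hp hqp (Ne.symm hqp') y hyq hNy k' hk'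
          haveI := hWn
          have hWidx : ¬ p ∣ W.index := by
            have hle : Subgroup.normalClosure ({y} : Set G) ≤
                (Subgroup.zpowers (QuotientGroup.mk y : G ⧸ W)).comap (QuotientGroup.mk' W) := by
              rw [Subgroup.normalClosure, Subgroup.closure_le]
              intro a ha
              obtain ⟨b, hb, hba⟩ := Group.mem_conjugatesOfSet_iff.mp ha
              rw [Set.mem_singleton_iff] at hb
              rw [hb] at hba
              obtain ⟨c, rfl⟩ := isConj_iff.mp hba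
              show (QuotientGroup.mk (c * y * c⁻¹) : G ⧸ W) ∈
                Subgroup.zpowers (QuotientGroup.mk y : G ⧸ W)
              have h3 : (QuotientGroup.mk (c * y * c⁻¹) : G ⧸ W) = QuotientGroup.mk y := by
                rw [QuotientGroup.eq]
                have h1 := hWn.conj_mem _ (hcomm c) y⁻¹
                have h2 : (c * y * c⁻¹)⁻¹ * y = y⁻¹ * (y * c * y⁻¹ * c⁻¹) * y⁻¹⁻¹ := by group
                rw [h2]; exact h1
              rw [h3]; exact Subgroup.mem_zpowers _
            have htop : Subgroup.zpowers (QuotientGroup.mk y : G ⧸ W) = ⊤ := by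
              rw [eq_top_iff]
              intro a _
              obtain ⟨g, rfl⟩ := QuotientGroup.mk_surjective a
              exact hle (hNy ▸ Subgroup.mem_top g)
            have hcard : W.index = orderOf (QuotientGroup.mk y : G ⧸ W) := by
              rw [← Nat.card_zpowers, htop, Subgroup.card_top]; rfl
            have hdvd : W.index ∣ q := by
              rw [hcard, ← hyq]
              exact orderOf_map_dvd (QuotientGroup.mk' W) y
            intro h
            exact hqp' ((Nat.prime_dvd_prime_iff_eq hp hqp).mp (h.trans hdvd)).symm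
          obtain ⟨P, hPp, hPi, hyP⟩ := exists_normalized_sylow hp hqp W hqW hWidx y hyq
          exact normalClosure_solvable_of_normalizes hp y k' hk' P hPp hPi hyP
      · apply normalClosure_solvable_of_sub
        have hcard : Nat.card ↥(Subgroup.normalClosure ({y} : Set G)) < n := by
          rw [← hn]
          refine lt_of_le_of_ne (Subgroup.card_le_card_group _) ?_
          intro h; exact hNy (Subgroup.eq_top_of_card_eq _ h)
        have hd := index_centralizer_subgroupOf_dvd (Subgroup.normalClosure ({y} : Set G))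
          ⟨y, Subgroup.subset_normalClosure (Set.mem_singleton y)⟩
        rw [hk'] at hd
        obtain ⟨k'', -, hk''⟩ := (Nat.dvd_prime_pow hp).mp hd
        exact ih _ hcard _ rfl _ p k'' hp hk''
    have hle : Subgroup.normalClosure ({y} : Set G) ≤ R :=
      hRmax _ Subgroup.normalClosure_normal key
    rw [hRbot] at hle
    exact hy1 (Subgroup.mem_bot.mp (hle (Subgroup.subset_normalClosure (Set.mem_singleton y))))
  · have hcard : Nat.card (G ⧸ R) < n := by
      rw [← hn, ← Subgroup.card_mul_index R]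
      have h1 : 1 < Nat.card R := by
        rw [Subgroup.one_lt_card_iff_ne_bot]; exact hRbot
      have h2 : 0 < R.index := Nat.pos_of_ne_zero Subgroup.index_ne_zero_of_finite
      calc Nat.card (G ⧸ R) = 1 * R.index := by rw [one_mul]; rfl
        _ < Nat.card R * R.index := Nat.mul_lt_mul_of_pos_right h1 h2
    have hd := index_centralizer_quotient_dvd R x
    rw [hidx] at hd
    obtain ⟨k', -, hk'⟩ := (Nat.dvd_prime_pow hp).mp hd
    have h1 := ih _ hcard (G ⧸ R) rfl (QuotientGroup.mk x) p k' hp hk'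
    have h2 := normalClosure_solvable_of_quot R hRs x h1
    have hle : Subgroup.normalClosure ({x} : Set G) ≤ R :=
      hRmax _ Subgroup.normalClosure_normal h2
    exact hle (Subgroup.subset_normalClosure (Set.mem_singleton x))

end Cfsg.Agent.H92
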