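import Mathlib
import Cfsg.Agent.H11.Cores
import Cfsg.Agent.H92.Kazarin

set_option autoImplicit false
set_option linter.style.haveILetI false

/-!
Camina–Camina: if the conjugacy class of `x` has `p`-power size then the conjugates of `x`
commute modulo `O_p(G)` (S4364).  Uses Kazarin's theorem (`H92.kazarin_aux`).
-/

namespace Cfsg.Agent.H92

open Cfsg
open scoped commutatorElement

universe u

/-- A normal subgroup of order prime to `p` centralizes an element whose class has `p`-power size. -/
theorem normal_coprime_le_centralizer {G : Type*} [Group G] [Finite G] {p : ℕ}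
    (x : G) {a : ℕ} (hx : (Subgroup.centralizer ({x} : Set G)).index = p ^ a)
    (B : Subgroup G) [B.Normal] (hB : (Nat.card B).Coprime p) :
    B ≤ Subgroup.centralizer ({x} : Set G) := by
  set C := Subgroup.centralizer ({x} : Set G) with hC
  have h1 : C.relIndex B ∣ p ^ a := hx ▸ relIndex_dvd_index_of_normal_right C B
  have h2 : C.relIndex B ∣ Nat.card B := Subgroup.relIndex_dvd_card C B
  have h3 : C.relIndex B = 1 := by
    have : (C.relIndex B).Coprime (C.relIndex B) :=
      Nat.Coprime.coprime_dvd_left h2 (Nat.Coprime.coprime_dvd_right h1 (hB.pow_right a))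
    exact (Nat.coprime_self _).mp this
  exact Subgroup.relIndex_eq_one.mp h3

/-- In a group without nontrivial normal `p`-subgroups, normal nilpotent subgroups are `p'`. -/
theorem normal_nilpotent_coprime {G : Type*} [Group G] [Finite G] {p : ℕ} (hp : p.Prime)
    (hOp : ∀ N : Subgroup G, N.Normal → IsPGroup p N → N = ⊥)
    (B : Subgroup G) [B.Normal] (hB : Group.IsNilpotent B) : (Nat.card B).Coprime p := by
  haveI := Fact.mk hp
  obtain ⟨P⟩ : Nonempty (Sylow p B) := inferInstance
  have hall : ∀ (p : ℕ), Fact (Nat.Prime p) → ∀ (P : Sylow p B), (P : Subgroup B).Normal :=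
    ((Group.isNilpotent_of_finite_tfae (G := B)).out 0 3).mp hB
  have hPn : (P : Subgroup B).Normal := hall p inferInstance P
  haveI hPc : (P : Subgroup B).Characteristic := Sylow.characteristic_of_normal P hPn
  have hPmn : ((P : Subgroup B).map B.subtype).Normal := ConjAct.normal_of_characteristic_of_normal
  have h1 : (P : Subgroup B).map B.subtype = ⊥ := hOp _ hPmn (P.2.map _)
  have h2 : (P : Subgroup B) = ⊥ :=
    (Subgroup.map_eq_bot_iff_of_injective _ B.subtype_injective).mp h1
  rw [Nat.coprime_comm, hp.coprime_iff_not_dvd]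
  intro hdvd
  exact P.ne_bot_of_dvd_card hdvd h2

theorem normalClosure_le_centralizer_of_nilpotent {G : Type*} [Group G] [Finite G] {p : ℕ}
    (hp : p.Prime) (hOp : ∀ N : Subgroup G, N.Normal → IsPGroup p N → N = ⊥)
    (x : G) {a : ℕ} (hx : (Subgroup.centralizer ({x} : Set G)).index = p ^ a)
    (B : Subgroup G) [B.Normal] (hB : Group.IsNilpotent B) :
    Subgroup.normalClosure ({x} : Set G) ≤ Subgroup.centralizer (B : Set G) := by
  have h1 := normal_coprime_le_centralizer x hx B (normal_nilpotent_coprime hp hOp B hB)
  apply Subgroup.normalClosure_le_normal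
  rw [Set.singleton_subset_iff, SetLike.mem_coe, Subgroup.mem_centralizer_iff]
  intro b hb
  have := h1 hb
  rw [Subgroup.mem_centralizer_iff] at this
  exact (this x rfl).symm

theorem isNilpotent_of_commutator_le_center {G : Type*} [Group G] (H : Subgroup G)
    (h : ⁅H, H⁆ ≤ Subgroup.center G) : Group.IsNilpotent H := by
  apply Subgroup.isNilpotent_of_ker_le_center (Abelianization.of (G := H))
  rw [Abelianization.ker_of, commutator_def, Subgroup.commutator_le]
  intro g₁ _ g₂ _
  rw [Subgroup.mem_center_iff]
  intro g
  have h1 : ⁅(g₁ : G), (g₂ : G)⁆ ∈ Subgroup.center G :=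
    h (Subgroup.commutator_mem_commutator g₁.2 g₂.2)
  rw [Subgroup.mem_center_iff] at h1
  exact Subtype.ext (h1 g)

/-- **Camina–Camina**: if `O_p(G) = 1` and the class of `x` has `p`-power size, then the normal
closure of `x` is abelian. -/
theorem normalClosure_abelian_of_no_normal_p {G : Type u} [Group G] [Finite G] {p : ℕ}
    (hp : p.Prime) (hOp : ∀ N : Subgroup G, N.Normal → IsPGroup p N → N = ⊥)
    (x : G) {a : ℕ} (hx : (Subgroup.centralizer ({x} : Set G)).index = p ^ a) :
    ∀ u v : G, u ∈ Subgroup.normalClosure ({x} : Set G) →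
      v ∈ Subgroup.normalClosure ({x} : Set G) → u * v = v * u := by
  set N := Subgroup.normalClosure ({x} : Set G) with hN
  haveI hsol : Group.IsSolvable N := kazarin_aux (Nat.card G) G rfl x p a hp hx
  have key : ∀ D : Subgroup N, D.Characteristic → Group.IsNilpotent D →
      D ≤ Subgroup.center N := by
    intro D hDc hDn
    haveI : (D.map N.subtype).Normal := ConjAct.normal_of_characteristic_of_normal
    have hnil : Group.IsNilpotent (D.map N.subtype) :=
      (Group.isNilpotent_congr (D.equivMapOfInjective N.subtype N.subtype_injective)).mp hDn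
    have h1 := normalClosure_le_centralizer_of_nilpotent hp hOp x hx (D.map N.subtype) hnil
    intro d hd
    rw [Subgroup.mem_center_iff]
    intro n
    have h2 := h1 n.2
    rw [Subgroup.mem_centralizer_iff] at h2
    have h3 := h2 (d : G) (Subgroup.mem_map_of_mem _ hd)
    exact Subtype.ext h3.symm
  have step : ∀ k : ℕ, derivedSeries N (k + 1) = ⊥ → derivedSeries N 1 = ⊥ := by
    intro k
    induction k with
    | zero => exact id
    | succ k ih =>
      intro hk
      apply ih
      have hBB : ⁅derivedSeries N (k + 1), derivedSeries N (k + 1)⁆ = ⊥ := hk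
      have hBnil : Group.IsNilpotent (derivedSeries N (k + 1)) :=
        isNilpotent_of_commutator_le_center _ (hBB ▸ bot_le)
      have hBcen : derivedSeries N (k + 1) ≤ Subgroup.center N :=
        key _ (derivedSeries_characteristic N (k + 1)) hBnil
      have hCnil : Group.IsNilpotent (derivedSeries N k) :=
        isNilpotent_of_commutator_le_center _ hBcen
      have hCcen : derivedSeries N k ≤ Subgroup.center N :=
        key _ (derivedSeries_characteristic N k) hCnil
      show ⁅derivedSeries N k, derivedSeries N k⁆ = ⊥
      rw [eq_bot_iff, Subgroup.commutator_le]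
      intro g₁ hg₁ g₂ _
      rw [Subgroup.mem_bot, commutatorElement_eq_one_iff_commute]
      have := hCcen hg₁
      rw [Subgroup.mem_center_iff] at this
      exact (this g₂).symm
  obtain ⟨n, hn⟩ := hsol.solvable
  have hn1 : derivedSeries N (n + 1) = ⊥ :=
    le_bot_iff.mp (hn ▸ derivedSeries_antitone N (Nat.le_succ n))
  have h1 := step n hn1
  intro u v hu hv
  have h2 : ⁅(⟨u, hu⟩ : ↥N), (⟨v, hv⟩ : ↥N)⁆ ∈ derivedSeries N 1 :=
    Subgroup.commutator_mem_commutator (Subgroup.mem_top _) (Subgroup.mem_top _)
  rw [h1, Subgroup.mem_bot, commutatorElement_eq_one_iff_commute] at h2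
  exact congrArg Subtype.val h2.eq

end Cfsg.Agent.H92
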