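import Mathlib

/-!
# An automorphism of order dividing 15 of an abelian group of order 8 fixing an involution
(helper92, for helper93's S4429).
-/

set_option autoImplicit false

namespace Cfsg.Agent.H92.Ord7920

/-- A multiset of numbers `≥ 2` dividing `15` with sum `4` or `6` consists of `3`s and has
sum `6`. -/
theorem cyc_aux (s : Multiset ℕ) (h2 : ∀ x ∈ s, 2 ≤ x) (h15 : ∀ x ∈ s, x ∣ 15)
    (hs : s.sum = 4 ∨ s.sum = 6) : (∀ x ∈ s, x = 3) ∧ s.sum = 6 := by
  have hle : ∀ (s : Multiset ℕ), ∀ x ∈ s, x ≤ s.sum := fun s x hx => Multiset.le_sum_of_mem hx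
  have hx35 : ∀ x ∈ s, x = 3 ∨ x = 5 := by
    intro x hx
    have h1 := h2 x hx
    have h3 := hle s x hx
    have h4 := h15 x hx
    have h6 : x ≤ 6 := by omega
    interval_cases x <;> first | exact Or.inl rfl | exact Or.inr rfl | exact absurd h4 (by decide)
  have h5 : 5 ∉ s := by
    intro h
    obtain ⟨s', rfl⟩ := Multiset.exists_cons_of_mem h
    rw [Multiset.sum_cons] at hs
    have hs' : s'.sum = 1 := by omega
    have hne : s' ≠ 0 := by
      rintro rfl
      simp at hs'
    obtain ⟨x, hx⟩ := Multiset.exists_mem_of_ne_zero hne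
    have := h2 x (Multiset.mem_cons_of_mem hx)
    have := hle s' x hx
    omega
  have h3 : ∀ x ∈ s, x = 3 := fun x hx => (hx35 x hx).resolve_right (fun h => h5 (h ▸ hx))
  refine ⟨h3, ?_⟩
  have hrep : s = Multiset.replicate (Multiset.card s) 3 := Multiset.eq_replicate.mpr ⟨rfl, h3⟩
  rw [hrep, Multiset.sum_replicate] at hs ⊢
  simp only [smul_eq_mul] at hs ⊢
  omega

theorem aut_order8 {E : Type*} [Group E] [Finite E] (hE : Nat.card E = 8)
    (_hab : ∀ a b : E, a * b = b * a) (α : E ≃* E) (h15 : ∀ e : E, (α ^ 15) e = e)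
    (hne : ∃ e : E, α e ≠ e) (t : E) (ht : t ≠ 1) (hαt : α t = t) :
    (∀ e : E, α e = e → e = 1 ∨ e = t) ∧ (∀ e : E, (α ^ 3) e = e) ∧
    ∀ u w : E, u ≠ 1 → u ≠ t → w ≠ 1 → w ≠ t → w ≠ u → w ≠ α u → w ≠ (α ^ 2) u →
      ∀ y : E, y = 1 ∨ y = t ∨ y = u ∨ y = α u ∨ y = (α ^ 2) u ∨ y = w ∨ y = α w ∨ y = (α ^ 2) w := by
  classical
  let _ : Fintype E := Fintype.ofFinite E
  have hcardE : Fintype.card E = 8 := by
    rw [← Nat.card_eq_fintype_card]
    exact hE
  let σ : Equiv.Perm E := α.toEquiv
  have hσa : ∀ e, σ e = α e := fun e => rfl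
  have hpow : ∀ (n : ℕ) (e : E), (σ ^ n) e = (α ^ n) e := by
    intro n
    induction n with
    | zero => intro e; rfl
    | succ n ih =>
      intro e
      rw [pow_succ, pow_succ, Equiv.Perm.mul_apply, MulAut.mul_apply, ih]
      rfl
  have hσ15 : σ ^ 15 = 1 := by
    apply Equiv.ext
    intro e
    rw [hpow, h15]
    rfl
  have hord : orderOf σ ∣ 15 := orderOf_dvd_of_pow_eq_one hσ15
  -- the fixed-point subgroup
  let F : Subgroup E := MonoidHom.eqLocus α.toMonoidHom (MonoidHom.id E)
  have hFmem : ∀ e, e ∈ F ↔ α e = e := fun e => Iff.rfl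
  have hFdvd : Nat.card F ∣ 8 := hE ▸ Subgroup.card_subgroup_dvd_card F
  have htF : t ∈ F := hαt
  have hFge : 1 < Nat.card F := by
    rw [Subgroup.one_lt_card_iff_ne_bot]
    intro h
    exact ht ((Subgroup.eq_bot_iff_forall F).mp h t htF)
  have hFne : Nat.card F ≠ 8 := by
    intro h
    have htop : F = ⊤ := (Subgroup.card_eq_iff_eq_top F).mp (h.trans hE.symm)
    obtain ⟨e, he⟩ := hne
    exact he ((hFmem e).mp (htop ▸ Subgroup.mem_top e))
  have hF24 : Nat.card F = 2 ∨ Nat.card F = 4 := by
    have hle : Nat.card F ≤ 8 := Nat.le_of_dvd (by norm_num) hFdvd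
    interval_cases h : Nat.card F <;> simp_all
  -- support
  have hFc : Nat.card F = (σ.supportᶜ).card := by
    rw [← Nat.card_eq_finsetCard]
    apply Nat.card_congr
    refine Equiv.subtypeEquivRight (fun e => ?_)
    rw [Finset.mem_compl, Equiv.Perm.notMem_support]
    exact Iff.rfl
  have hsupp : σ.support.card + Nat.card F = 8 := by
    rw [hFc, Finset.card_add_card_compl, hcardE]
  have hsum : σ.cycleType.sum = σ.support.card := Equiv.Perm.sum_cycleType σ
  have h2 : ∀ x ∈ σ.cycleType, 2 ≤ x := fun x hx => Equiv.Perm.two_le_of_mem_cycleType hx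
  have hd : ∀ x ∈ σ.cycleType, x ∣ 15 :=
    fun x hx => (Equiv.Perm.dvd_of_mem_cycleType hx).trans hord
  obtain ⟨h3, h6⟩ := cyc_aux σ.cycleType h2 hd (by omega)
  have hF2 : Nat.card F = 2 := by omega
  have hσ3 : σ ^ 3 = 1 := by
    apply orderOf_dvd_iff_pow_eq_one.mp
    rw [← Equiv.Perm.lcm_cycleType]
    exact Multiset.lcm_dvd.mpr (fun x hx => (h3 x hx) ▸ dvd_rfl)
  have hfix : ∀ e : E, α e = e → e = 1 ∨ e = t := by
    intro e he
    obtain ⟨x, y, hxy, huniv⟩ := Nat.card_eq_two_iff.mp hF2
    have hmem : ∀ z : F, z = x ∨ z = y := by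
      intro z
      have : z ∈ ({x, y} : Set F) := huniv ▸ Set.mem_univ z
      simpa using this
    have h1' := hmem ⟨1, one_mem F⟩
    have ht' := hmem ⟨t, htF⟩
    have he' := hmem ⟨e, he⟩
    have ht1 : (⟨t, htF⟩ : F) ≠ ⟨1, one_mem F⟩ := fun h => ht (congrArg Subtype.val h)
    rcases h1' with h1' | h1' <;> rcases ht' with ht' | ht' <;> rcases he' with he' | he'
    · exact absurd (ht'.trans h1'.symm) ht1
    · exact absurd (ht'.trans h1'.symm) ht1
    · exact Or.inl (congrArg Subtype.val (he'.trans h1'.symm))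
    · exact Or.inr (congrArg Subtype.val (he'.trans ht'.symm))
    · exact Or.inr (congrArg Subtype.val (he'.trans ht'.symm))
    · exact Or.inl (congrArg Subtype.val (he'.trans h1'.symm))
    · exact absurd (ht'.trans h1'.symm) ht1
    · exact absurd (ht'.trans h1'.symm) ht1
  have hα3 : ∀ e : E, α (α (α e)) = e := by
    intro e
    have h : (σ ^ 3) e = e := by rw [hσ3]; rfl
    exact h
  have hα2 : ∀ e : E, (α ^ 2) e = α (α e) := fun e => rfl
  refine ⟨hfix, fun e => ?_, ?_⟩
  · rw [← hpow, hσ3]
    rfl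
  · intro u w hu1 hut hw1 hwt hwu hwu1 hwu2 y
    rw [hα2] at hwu2
    rw [hα2, hα2]
    -- orbits
    let O : E → Finset E := fun x => {x, α x, α (α x)}
    have hOmem : ∀ x e, e ∈ O x ↔ e = x ∨ e = α x ∨ e = α (α x) := by
      intro x e
      simp only [O, Finset.mem_insert, Finset.mem_singleton]
    have hOinv : ∀ x e, e ∈ O x → α e ∈ O x := by
      intro x e he
      rw [hOmem] at he ⊢
      rcases he with rfl | rfl | rfl
      · exact Or.inr (Or.inl rfl)
      · exact Or.inr (Or.inr rfl)
      · exact Or.inl (hα3 _)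
    have hOinv' : ∀ x e, e ∉ O x → α e ∉ O x := by
      intro x e he h
      have := hOinv x _ (hOinv x _ h)
      rw [hα3] at this
      exact he this
    have hnf : ∀ x : E, x ≠ 1 → x ≠ t → α x ≠ x := fun x h1 h2 h => by
      rcases hfix x h with h | h
      · exact h1 h
      · exact h2 h
    have hOcard : ∀ x : E, α x ≠ x → (O x).card = 3 := by
      intro x hx
      have h1 : x ≠ α x := fun h => hx h.symm
      have h2 : α x ≠ α (α x) := fun h => h1 (α.injective h)
      have h3 : x ≠ α (α x) := by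
        intro h
        have := congrArg α h
        rw [hα3] at this
        exact hx this
      show ({x, α x, α (α x)} : Finset E).card = 3
      rw [Finset.card_insert_of_notMem, Finset.card_insert_of_notMem, Finset.card_singleton]
      · simpa using h2
      · simp only [Finset.mem_insert, Finset.mem_singleton, not_or]
        exact ⟨h1, h3⟩
    have hOsupp : ∀ x : E, α x ≠ x → O x ⊆ σ.support := by
      intro x hx e he
      rw [Equiv.Perm.mem_support]
      show α e ≠ e
      rw [hOmem] at he
      rcases he with rfl | rfl | rfl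
      · exact hx
      · exact fun h => hx (α.injective h)
      · exact fun h => hx (α.injective (α.injective h))
    have hu := hnf u hu1 hut
    have hw := hnf w hw1 hwt
    have hwO : w ∉ O u := by
      rw [hOmem]
      push Not
      exact ⟨hwu, hwu1, hwu2⟩
    have hdisj : Disjoint (O u) (O w) := by
      rw [Finset.disjoint_right]
      intro e he
      rw [hOmem] at he
      rcases he with rfl | rfl | rfl
      · exact hwO
      · exact hOinv' u _ hwO
      · exact hOinv' u _ (hOinv' u _ hwO)
    have hunion : O u ∪ O w = σ.support := by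
      apply Finset.eq_of_subset_of_card_le (Finset.union_subset (hOsupp u hu) (hOsupp w hw))
      rw [Finset.card_union_of_disjoint hdisj, hOcard u hu, hOcard w hw]
      omega
    by_cases hy : α y = y
    · rcases hfix y hy with h | h
      · exact Or.inl h
      · exact Or.inr (Or.inl h)
    · have hys : y ∈ σ.support := by
        rw [Equiv.Perm.mem_support]
        exact hy
      rw [← hunion, Finset.mem_union, hOmem, hOmem] at hys
      rcases hys with (h | h | h) | (h | h | h)
      · exact Or.inr (Or.inr (Or.inl h))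
      · exact Or.inr (Or.inr (Or.inr (Or.inl h)))
      · exact Or.inr (Or.inr (Or.inr (Or.inr (Or.inl h))))
      · exact Or.inr (Or.inr (Or.inr (Or.inr (Or.inr (Or.inl h)))))
      · exact Or.inr (Or.inr (Or.inr (Or.inr (Or.inr (Or.inr (Or.inl h))))))
      · exact Or.inr (Or.inr (Or.inr (Or.inr (Or.inr (Or.inr (Or.inr h))))))

end Cfsg.Agent.H92.Ord7920
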