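import Mathlib

set_option autoImplicit false

/-!
Frattini facts for finite `p`-groups (same arguments as `Cfsg.Agent.H3.PGroup`, restated in the
`H92` namespace so that this library has no cross-seat dependency).
-/

namespace Cfsg.Agent.H92

/-- In a finite `p`-group every maximal subgroup is normal. -/
theorem coatom_normal {G : Type*} [Group G] {p : ℕ} [Fact p.Prime] [Finite G] (hG : IsPGroup p G)
    {M : Subgroup G} (hM : IsCoatom M) : M.Normal := by
  have := hG.isNilpotent
  exact Subgroup.NormalizerCondition.normal_of_coatom _ Group.normalizerCondition_of_isNilpotent hM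

/-- In a finite `p`-group every maximal subgroup has index `p`. -/
theorem coatom_index {G : Type*} [Group G] {p : ℕ} [Fact p.Prime] [Finite G] (hG : IsPGroup p G)
    {M : Subgroup G} (hM : IsCoatom M) : M.index = p := by
  have : M.Normal := coatom_normal hG hM
  have hQ : IsPGroup p (G ⧸ M) := hG.to_quotient M
  have hcard : Nat.card (G ⧸ M) ≠ 1 := by
    intro h1
    have : M.index = 1 := h1
    exact hM.1 (Subgroup.index_eq_one.mp this)
  have hdvd : p ∣ Nat.card (G ⧸ M) := hQ.card_eq_or_dvd.resolve_left hcard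
  obtain ⟨x, hx⟩ := exists_prime_orderOf_dvd_card' p hdvd
  have hMK : M ≤ (Subgroup.zpowers x).comap (QuotientGroup.mk' M) := by
    intro m hm
    rw [Subgroup.mem_comap]
    have : (QuotientGroup.mk' M) m = 1 := (QuotientGroup.eq_one_iff m).mpr hm
    rw [this]; exact Subgroup.one_mem _
  have hne : M ≠ (Subgroup.zpowers x).comap (QuotientGroup.mk' M) := by
    intro h
    obtain ⟨y, rfl⟩ := QuotientGroup.mk'_surjective M x
    have hy : y ∈ (Subgroup.zpowers ((QuotientGroup.mk' M) y)).comap (QuotientGroup.mk' M) :=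
      Subgroup.mem_zpowers _
    rw [← h] at hy
    have h1 : (QuotientGroup.mk' M) y = 1 := (QuotientGroup.eq_one_iff y).mpr hy
    rw [h1, orderOf_one] at hx
    exact (Fact.out : p.Prime).one_lt.ne hx
  have htop : (Subgroup.zpowers x).comap (QuotientGroup.mk' M) = ⊤ :=
    hM.2 _ (lt_of_le_of_ne hMK hne)
  have hz : Subgroup.zpowers x = ⊤ := by
    rw [eq_top_iff]
    intro q _
    obtain ⟨y, rfl⟩ := QuotientGroup.mk'_surjective M q
    have : y ∈ (Subgroup.zpowers x).comap (QuotientGroup.mk' M) := by rw [htop]; trivial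
    exact this
  have : Nat.card (G ⧸ M) = p := by
    rw [← hx, ← Nat.card_zpowers, hz, Subgroup.card_top]
  exact this

/-- In a finite `p`-group, `x ^ p` lies in every maximal subgroup. -/
theorem pow_mem_coatom {G : Type*} [Group G] {p : ℕ} [Fact p.Prime] [Finite G] (hG : IsPGroup p G)
    {M : Subgroup G} (hM : IsCoatom M) (x : G) : x ^ p ∈ M := by
  have : M.Normal := coatom_normal hG hM
  have hc : Nat.card (G ⧸ M) = p := coatom_index hG hM
  rw [← QuotientGroup.eq_one_iff, QuotientGroup.mk_pow]
  have := pow_card_eq_one' (G := G ⧸ M) (x := (x : G ⧸ M))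
  rwa [hc] at this

/-- In a finite `p`-group, `x ^ p` lies in the Frattini subgroup. -/
theorem pow_mem_frattini {G : Type*} [Group G] {p : ℕ} [Fact p.Prime] [Finite G]
    (hG : IsPGroup p G) (x : G) : x ^ p ∈ frattini G := by
  show x ^ p ∈ ⨅ a ∈ {H : Subgroup G | IsCoatom H}, a
  simp only [Subgroup.mem_iInf]
  intro M hM
  exact pow_mem_coatom hG hM x

end Cfsg.Agent.H92
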