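import Mathlib
import Cfsg.Prelude.Def_Characters
import Cfsg.Agent.Lib.Clifford
import Cfsg.Agent.H92.PReg

set_option autoImplicit false
set_option linter.style.haveILetI false

/-!
# Coprime action of a solvable group: reduction to `p`-groups (helper92)

Inside an ambient finite group `Γ`, a solvable subgroup `S` normalising `G`.
* `exists_pgroup_acting`: if `S` does not centralise `G` there is a `p`-subgroup `P ≤ S` not
  centralising `G` whose `S`-conjugates act on `G` like `P`.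
* `char_step`: a `P`-correspondence `Irr_P(G) → Irr(C_G(P))` characterised by a uniqueness property
  restricts to a bijection between the `S`-invariant characters.
* `class_step`: `S`-invariant classes of `C_G(P)` ↔ `S`-invariant classes of `G`.
-/

open Cfsg

namespace Cfsg.Agent.H92

open Subgroup

variable {Γ : Type*} [Group Γ]


/-- If every Sylow subgroup of `D` (for every prime) lies in `Z`, then `D ≤ Z`. -/
theorem le_of_forall_sylow_le [Finite Γ] (D Z : Subgroup Γ)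
    (h : ∀ (p : ℕ) [Fact p.Prime] (Q : Sylow p ↥D), (Q : Subgroup ↥D) ≤ Z.subgroupOf D) : D ≤ Z := by
  have h1 : (Z.subgroupOf D).index = 1 := by
    by_contra hne
    obtain ⟨p, hp, hpd⟩ := Nat.exists_prime_and_dvd hne
    have : Fact p.Prime := ⟨hp⟩
    obtain ⟨Q⟩ : Nonempty (Sylow p ↥D) := inferInstance
    have h2 := Subgroup.index_dvd_of_le (h p Q)
    exact Q.not_dvd_index (hpd.trans h2)
  have h3 : Z.subgroupOf D = ⊤ := Subgroup.index_eq_one.mp h1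
  exact Subgroup.subgroupOf_eq_top.mp h3

/-- In a solvable group `S` normalising `G` and not centralising it, there is a `p`-subgroup `P` of
`S` not centralising `G` whose `S`-conjugates act on `G` like `P` itself. -/
theorem exists_pgroup_acting [Finite Γ] (S G : Subgroup Γ) (hsolv : Group.IsSolvable S)
    (hnt : ¬ S ≤ Subgroup.centralizer (G : Set Γ)) :
    ∃ (p : ℕ) (P : Subgroup Γ), p.Prime ∧ IsPGroup p P ∧ P ≤ S ∧
      ¬ P ≤ Subgroup.centralizer (G : Set Γ) ∧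
      ∀ s ∈ S, ∀ t ∈ P, ∃ k ∈ Subgroup.centralizer (G : Set Γ), ∃ t' ∈ P, s * t * s⁻¹ = k * t' := by
  classical
  set Z : Subgroup Γ := Subgroup.centralizer (G : Set Γ) with hZ
  let 𝒟 : Set (Subgroup Γ) := {D | D ≤ S ∧ (∀ s ∈ S, ∀ d ∈ D, s * d * s⁻¹ ∈ D) ∧ ¬ D ≤ Z}
  have hS𝒟 : S ∈ 𝒟 := ⟨le_rfl, fun s hs d hd => S.mul_mem (S.mul_mem hs hd) (S.inv_mem hs), hnt⟩
  obtain ⟨D, hD𝒟, hDmin⟩ := (wellFounded_lt (α := Subgroup Γ)).has_min 𝒟 ⟨S, hS𝒟⟩
  obtain ⟨hDS, hDn, hDZ⟩ := hD𝒟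
  -- the derived subgroup of D
  have hD'le : ⁅D, D⁆ ≤ D := Subgroup.commutator_le.mpr fun a ha b hb =>
    D.mul_mem (D.mul_mem (D.mul_mem ha hb) (D.inv_mem ha)) (D.inv_mem hb)
  haveI := hsolv
  haveI hDsolv : Group.IsSolvable ↥D :=
    Group.isSolvable_of_isSolvable_injective (f := Subgroup.inclusion hDS)
      (Subgroup.inclusion_injective hDS)
  have hDnt : Nontrivial ↥D := by
    rw [Subgroup.nontrivial_iff_ne_bot]
    rintro rfl
    exact hDZ bot_le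
  have hD'lt : ⁅D, D⁆ < D := by
    refine lt_of_le_of_ne hD'le fun heq => ?_
    have h1 : (_root_.commutator ↥D).map D.subtype = ⁅D, D⁆ := Subgroup.map_subtype_commutator D
    have h2 : (_root_.commutator ↥D) = ⊤ := by
      apply Subgroup.map_injective D.subtype_injective
      rw [h1, heq, ← MonoidHom.range_eq_map, Subgroup.range_subtype]
    exact (Group.IsSolvable.commutator_lt_top_of_nontrivial ↥D).ne h2
  have hD'n : ∀ s ∈ S, ∀ d ∈ ⁅D, D⁆, s * d * s⁻¹ ∈ ⁅D, D⁆ := by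
    intro s hs d hd
    have h1 : (⁅D, D⁆).map (MulAut.conj s).toMonoidHom ≤ ⁅D, D⁆ := by
      rw [Subgroup.map_commutator]
      have h2 : D.map (MulAut.conj s).toMonoidHom ≤ D := by
        rintro _ ⟨x, hx, rfl⟩
        exact hDn s hs x hx
      exact Subgroup.commutator_mono h2 h2
    exact h1 ⟨d, hd, rfl⟩
  have hD'Z : ⁅D, D⁆ ≤ Z := by
    by_contra hcon
    exact hDmin ⁅D, D⁆ ⟨hD'le.trans hDS, hD'n, hcon⟩ hD'lt
  -- a Sylow subgroup of D not inside Z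
  have hex : ∃ (p : ℕ) (_ : Fact p.Prime) (Q : Sylow p ↥D), ¬ (Q : Subgroup ↥D) ≤ Z.subgroupOf D := by
    by_contra hcon
    push Not at hcon
    exact hDZ (le_of_forall_sylow_le D Z fun p hpp Q => hcon p hpp Q)
  obtain ⟨p, hpF, Q, hQ⟩ := hex
  refine ⟨p, (Q : Subgroup ↥D).map D.subtype, hpF.out, Q.2.map D.subtype, ?_, ?_, ?_⟩
  · rintro _ ⟨x, -, rfl⟩
    exact hDS x.2
  · intro hle
    apply hQ
    intro x hx
    rw [Subgroup.mem_subgroupOf]
    exact hle ⟨x, hx, rfl⟩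
  · rintro s hs _ ⟨q, hq, rfl⟩
    -- conjugation by s on D
    let σ : MulAut ↥D :=
      { toFun := fun d => ⟨s * d * s⁻¹, hDn s hs d d.2⟩
        invFun := fun d => ⟨s⁻¹ * d * s, by
          have := hDn s⁻¹ (S.inv_mem hs) d d.2
          simpa using this⟩
        left_inv := fun d => by
          apply Subtype.ext
          simp [mul_assoc]
        right_inv := fun d => by
          apply Subtype.ext
          simp [mul_assoc]
        map_mul' := fun a b => by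
          apply Subtype.ext
          simp [mul_assoc] }
    obtain ⟨d, hd⟩ := MulAction.exists_smul_eq ↥D Q (σ • Q)
    have h1 : σ q ∈ ((σ • Q : Sylow p ↥D) : Subgroup ↥D) := by
      rw [Sylow.pointwise_smul_def]
      exact Subgroup.smul_mem_pointwise_smul q σ (Q : Subgroup ↥D) hq
    rw [← hd, Sylow.smul_def, Sylow.pointwise_smul_def,
      Subgroup.mem_pointwise_smul_iff_inv_smul_mem] at h1
    set q' : ↥D := (MulAut.conj d)⁻¹ • σ q with hq'
    have h2 : σ q = d * q' * d⁻¹ := by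
      rw [hq']
      simp [MulAut.smul_def, MulAut.inv_apply, MulAut.conj_symm_apply, mul_assoc]
    refine ⟨(d : Γ) * q' * (d : Γ)⁻¹ * (q' : Γ)⁻¹, ?_, (q' : Γ), ⟨q', h1, rfl⟩, ?_⟩
    · apply hD'Z
      exact Subgroup.commutator_mem_commutator d.2 q'.2
    · have h3 := congrArg (Subtype.val) h2
      simp only [Subgroup.coe_mul, Subgroup.coe_inv] at h3
      have h4 : ((σ q : ↥D) : Γ) = s * q * s⁻¹ := rfl
      rw [h4] at h3
      rw [Subgroup.coe_subtype, h3]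
      group



/-- `S` normalises `H`. -/
def Norms (S H : Subgroup Γ) : Prop := ∀ s ∈ S, ∀ h ∈ H, s * h * s⁻¹ ∈ H

/-- `f` is invariant under conjugation by `S` (the shape used in the statements). -/
def InvChar (S H : Subgroup Γ) (f : ↥H → ℂ) : Prop :=
  ∀ s ∈ S, ∀ g g' : ↥H, (g' : Γ) = s * g * s⁻¹ → f g' = f g

/-- The class `K` is invariant under conjugation by `S` (the shape used in the statements). -/
def InvClass (S H : Subgroup Γ) (K : ConjClasses ↥H) : Prop :=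
  ∀ s ∈ S, ∀ g g' : ↥H, (g' : Γ) = s * g * s⁻¹ → ConjClasses.mk g = K → ConjClasses.mk g' = K

/-- Conjugation by `s ∈ S` as an automorphism of a subgroup normalised by `S`. -/
def conjE (S H : Subgroup Γ) (hn : Norms S H) (s : ↥S) : ↥H ≃* ↥H where
  toFun h := ⟨s * h * (s : Γ)⁻¹, hn s s.2 h h.2⟩
  invFun h := ⟨(s : Γ)⁻¹ * h * s, by
    have := hn (s : Γ)⁻¹ (S.inv_mem s.2) h h.2
    simpa using this⟩
  left_inv h := by
    apply Subtype.ext
    simp [mul_assoc]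
  right_inv h := by
    apply Subtype.ext
    simp [mul_assoc]
  map_mul' a b := by
    apply Subtype.ext
    simp [mul_assoc]

@[simp] theorem coe_conjE (S H : Subgroup Γ) (hn : Norms S H) (s : ↥S) (h : ↥H) :
    ((conjE S H hn s h : ↥H) : Γ) = s * h * (s : Γ)⁻¹ := rfl

theorem invChar_iff (S H : Subgroup Γ) (hn : Norms S H) (f : ↥H → ℂ) :
    InvChar S H f ↔ ∀ (s : ↥S) (g : ↥H), f (conjE S H hn s g) = f g := by
  constructor
  · intro h s g
    exact h s s.2 g (conjE S H hn s g) rfl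
  · intro h s hs g g' hg'
    have : g' = conjE S H hn ⟨s, hs⟩ g := Subtype.ext hg'
    rw [this]
    exact h ⟨s, hs⟩ g

theorem InvChar.mono {S P H : Subgroup Γ} (hPS : P ≤ S) {f : ↥H → ℂ} (h : InvChar S H f) :
    InvChar P H f := fun s hs g g' hg => h s (hPS hs) g g' hg

/-- The `p`-group correspondence restricted to the `S`-invariant characters is a bijection onto
the `S`-invariant characters of the fixed-point subgroup. -/
theorem char_step [Finite Γ] (S P G G₁ : Subgroup Γ) (p : ℕ) (hPS : P ≤ S)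
    (hnG : Norms S G) (hnG₁ : Norms S G₁) (hG₁ : G₁ ≤ G)
    (hE5 : ∀ (f : ↥G → ℂ), InvChar P G f → ∀ s : ↥S,
      InvChar P G (fun g => f (conjE S G hnG s g)))
    [Fintype ↥G₁]
    (g1 : ∀ χ : IrrCharacter G, InvChar P G (χ : G → ℂ) → ∃! β : IrrCharacter G₁, ∃ m : ℕ,
      classInner (fun c : G₁ => (χ : G → ℂ) ⟨c, hG₁ c.2⟩) (β : G₁ → ℂ) = (m : ℂ) ∧ ¬ p ∣ m)
    (g3 : ∀ χ χ' : IrrCharacter G, InvChar P G (χ : G → ℂ) → InvChar P G (χ' : G → ℂ) →
      ∀ β : IrrCharacter G₁, ∀ m m' : ℕ,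
      classInner (fun c : G₁ => (χ : G → ℂ) ⟨c, hG₁ c.2⟩) (β : G₁ → ℂ) = (m : ℂ) → ¬ p ∣ m →
      classInner (fun c : G₁ => (χ' : G → ℂ) ⟨c, hG₁ c.2⟩) (β : G₁ → ℂ) = (m' : ℂ) → ¬ p ∣ m' →
      χ = χ')
    (g4 : ∀ β : IrrCharacter G₁, ∃ χ : IrrCharacter G, InvChar P G (χ : G → ℂ) ∧ ∃ m : ℕ,
      classInner (fun c : G₁ => (χ : G → ℂ) ⟨c, hG₁ c.2⟩) (β : G₁ → ℂ) = (m : ℂ) ∧ ¬ p ∣ m) :
    Nat.card {χ : IrrCharacter G // InvChar S G (χ : G → ℂ)} =
      Nat.card {β : IrrCharacter G₁ // InvChar S G₁ (β : G₁ → ℂ)} := by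
  classical
  -- compatibility of restriction with conjugation
  have hres : ∀ (f : ↥G → ℂ) (s : ↥S) (c : ↥G₁),
      (fun g => f (conjE S G hnG s g)) ⟨c, hG₁ c.2⟩ = f ⟨conjE S G₁ hnG₁ s c, hG₁ (conjE S G₁ hnG₁ s c).2⟩ := by
    intro f s c
    rfl
  -- inner products are preserved by simultaneous conjugation
  have hinner : ∀ (f : ↥G → ℂ) (b : ↥G₁ → ℂ) (s : ↥S),
      classInner (fun c : G₁ => (fun g => f (conjE S G hnG s g)) ⟨c, hG₁ c.2⟩)
        (fun c => b (conjE S G₁ hnG₁ s c)) = classInner (fun c : G₁ => f ⟨c, hG₁ c.2⟩) b := by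
    intro f b s
    exact Cfsg.Agent.Clifford.classInner_comp_equiv (conjE S G₁ hnG₁ s)
      (fun c : G₁ => f ⟨c, hG₁ c.2⟩) b
  -- the correspondent of an S-invariant character is S-invariant
  have hβinv : ∀ (χ : IrrCharacter G) (hχ : InvChar S G (χ : G → ℂ)) (β : IrrCharacter G₁) (m : ℕ),
      classInner (fun c : G₁ => (χ : G → ℂ) ⟨c, hG₁ c.2⟩) (β : G₁ → ℂ) = (m : ℂ) → ¬ p ∣ m →
      InvChar S G₁ (β : G₁ → ℂ) := by
    intro χ hχ β m hm hpm
    rw [invChar_iff S G₁ hnG₁]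
    intro s c
    let β' : IrrCharacter G₁ := ⟨fun c => (β : G₁ → ℂ) (conjE S G₁ hnG₁ s c),
      Cfsg.Agent.Clifford.isIrrCharacter_comp_equiv (conjE S G₁ hnG₁ s) β.2⟩
    have h1 : classInner (fun c : G₁ => (χ : G → ℂ) ⟨c, hG₁ c.2⟩) (β' : G₁ → ℂ) = (m : ℂ) := by
      have h2 := hinner (χ : G → ℂ) (β : G₁ → ℂ) s
      have h3 : (fun g => (χ : G → ℂ) (conjE S G hnG s g)) = (χ : G → ℂ) := by
        funext g
        exact (invChar_iff S G hnG _).mp hχ s g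
      rw [h3] at h2
      rw [← hm, ← h2]
    have h4 : β' = β := (g1 χ (hχ.mono hPS)).unique ⟨m, h1, hpm⟩ ⟨m, hm, hpm⟩
    have h5 := congrArg (fun b : IrrCharacter G₁ => (b : G₁ → ℂ) c) h4
    exact h5
  -- the map
  let F : {χ : IrrCharacter G // InvChar S G (χ : G → ℂ)} →
      {β : IrrCharacter G₁ // InvChar S G₁ (β : G₁ → ℂ)} := fun χ =>
    ⟨(g1 χ.1 (χ.2.mono hPS)).choose, by
      obtain ⟨m, hm, hpm⟩ := (g1 χ.1 (χ.2.mono hPS)).choose_spec.1
      exact hβinv χ.1 χ.2 _ m hm hpm⟩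
  have hFinj : Function.Injective F := by
    intro χ χ' h
    have h1 : (g1 χ.1 (χ.2.mono hPS)).choose = (g1 χ'.1 (χ'.2.mono hPS)).choose :=
      congrArg Subtype.val h
    obtain ⟨m, hm, hpm⟩ := (g1 χ.1 (χ.2.mono hPS)).choose_spec.1
    obtain ⟨m', hm', hpm'⟩ := (g1 χ'.1 (χ'.2.mono hPS)).choose_spec.1
    rw [← h1] at hm'
    exact Subtype.ext (g3 χ.1 χ'.1 (χ.2.mono hPS) (χ'.2.mono hPS) _ m m' hm hpm hm' hpm')
  have hFsurj : Function.Surjective F := by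
    intro β
    obtain ⟨χ, hχP, m, hm, hpm⟩ := g4 β.1
    have hχS : InvChar S G (χ : G → ℂ) := by
      rw [invChar_iff S G hnG]
      intro s g
      let χ' : IrrCharacter G := ⟨fun g => (χ : G → ℂ) (conjE S G hnG s g),
        Cfsg.Agent.Clifford.isIrrCharacter_comp_equiv (conjE S G hnG s) χ.2⟩
      have h1 : classInner (fun c : G₁ => (χ' : G → ℂ) ⟨c, hG₁ c.2⟩) (β.1 : G₁ → ℂ) = (m : ℂ) := by
        have h2 := hinner (χ : G → ℂ) (β.1 : G₁ → ℂ) s
        have h3 : (fun c => (β.1 : G₁ → ℂ) (conjE S G₁ hnG₁ s c)) = (β.1 : G₁ → ℂ) := by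
          funext c
          exact (invChar_iff S G₁ hnG₁ _).mp β.2 s c
        rw [h3] at h2
        rw [← hm, ← h2]
      have h4 : χ' = χ := g3 χ' χ (hE5 _ hχP s) hχP β.1 m m h1 hpm hm hpm
      exact congrArg (fun b : IrrCharacter G => (b : G → ℂ) g) h4
    refine ⟨⟨χ, hχS⟩, ?_⟩
    apply Subtype.ext
    exact ((g1 χ (hχS.mono hPS)).unique (g1 χ (hχS.mono hPS)).choose_spec.1 ⟨m, hm, hpm⟩)
  exact Nat.card_congr (Equiv.ofBijective F ⟨hFinj, hFsurj⟩)

/-- A `p`-group acting by conjugation on a set of size prime to `p` has a fixed point. -/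
theorem exists_fixed_of_pgroup [Finite Γ] (P : Subgroup Γ) (p : ℕ) [Fact p.Prime]
    (hP : IsPGroup p P) (X : Set Γ) (hX : ∀ t ∈ P, ∀ g ∈ X, t * g * t⁻¹ ∈ X)
    (hcard : ¬ p ∣ X.ncard) : ∃ g ∈ X, ∀ t ∈ P, t * g * t⁻¹ = g := by
  letI : MulAction ↥P ↥X :=
    { smul := fun t x => ⟨t * x * (t : Γ)⁻¹, hX t t.2 x x.2⟩
      one_smul := fun x => Subtype.ext (by
        show ((1 : ↥P) : Γ) * x * ((1 : ↥P) : Γ)⁻¹ = x
        simp)
      mul_smul := fun a b x => Subtype.ext (by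
        show ((a * b : ↥P) : Γ) * x * ((a * b : ↥P) : Γ)⁻¹ = a * (b * x * (b : Γ)⁻¹) * (a : Γ)⁻¹
        simp [mul_assoc]) }
  have h1 : ¬ p ∣ Nat.card ↥X := by rwa [Nat.card_coe_set_eq]
  obtain ⟨x, hx⟩ := hP.nonempty_fixed_point_of_prime_not_dvd_card ↥X h1
  refine ⟨x, x.2, fun t ht => ?_⟩
  have h2 := hx ⟨t, ht⟩
  exact congrArg Subtype.val h2

theorem norms_mono {S P H : Subgroup Γ} (hPS : P ≤ S) (h : Norms S H) : Norms P H :=
  fun s hs g hg => h s (hPS hs) g hg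

/-- Elements of `C_G(P)` that are conjugate in `G` are conjugate in `C_G(P)`. -/
theorem isConj_of_isConj_inclusion [Finite Γ] (P G G₁ : Subgroup Γ) (p : ℕ) [Fact p.Prime]
    (hP : IsPGroup p P) (hnG : Norms P G) (hcop : ¬ p ∣ Nat.card G)
    (hG₁ : G₁ = G ⊓ Subgroup.centralizer (P : Set Γ)) (hle : G₁ ≤ G) (c₁ c₂ : ↥G₁)
    (h : IsConj (Subgroup.inclusion hle c₁) (Subgroup.inclusion hle c₂)) : IsConj c₁ c₂ := by
  obtain ⟨g₀, hg₀⟩ := isConj_iff.mp h
  have hc₁ : ∀ t ∈ P, t * (c₁ : Γ) = c₁ * t := by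
    intro t ht
    have h1 : (c₁ : Γ) ∈ G ⊓ Subgroup.centralizer (P : Set Γ) := hG₁ ▸ c₁.2
    exact Subgroup.mem_centralizer_iff.mp h1.2 t ht
  have hc₂ : ∀ t ∈ P, t * (c₂ : Γ) = c₂ * t := by
    intro t ht
    have h1 : (c₂ : Γ) ∈ G ⊓ Subgroup.centralizer (P : Set Γ) := hG₁ ▸ c₂.2
    exact Subgroup.mem_centralizer_iff.mp h1.2 t ht
  let X : Set Γ := {g | g ∈ G ∧ g * c₁ * g⁻¹ = c₂}
  have hXinv : ∀ t ∈ P, ∀ g ∈ X, t * g * t⁻¹ ∈ X := by
    rintro t ht g ⟨hgG, hg⟩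
    refine ⟨hnG t ht g hgG, ?_⟩
    have e1 : t⁻¹ * (c₁ : Γ) * t = c₁ := by
      rw [mul_assoc, ← hc₁ t ht, inv_mul_cancel_left]
    have e2 : t * (c₂ : Γ) * t⁻¹ = c₂ := by
      rw [hc₂ t ht, mul_inv_cancel_right]
    calc t * g * t⁻¹ * (c₁ : Γ) * (t * g * t⁻¹)⁻¹
        = t * (g * (t⁻¹ * (c₁ : Γ) * t) * g⁻¹) * t⁻¹ := by group
      _ = t * (g * c₁ * g⁻¹) * t⁻¹ := by rw [e1]
      _ = c₂ := by rw [hg, e2]
  have hg₀' : (g₀ : Γ) * c₁ * (g₀ : Γ)⁻¹ = c₂ := by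
    have := congrArg Subtype.val hg₀
    simpa using this
  have hXcard : ¬ p ∣ X.ncard := by
    let H : Subgroup Γ := G ⊓ Subgroup.centralizer ({(c₁ : Γ)} : Set Γ)
    have hXeq : X = (fun h => (g₀ : Γ) * h) '' (H : Set Γ) := by
      ext g
      constructor
      · rintro ⟨hgG, hg⟩
        refine ⟨(g₀ : Γ)⁻¹ * g, ⟨G.mul_mem (G.inv_mem g₀.2) hgG, ?_⟩, by simp⟩
        show (g₀ : Γ)⁻¹ * g ∈ Subgroup.centralizer ({(c₁ : Γ)} : Set Γ)
        rw [Subgroup.mem_centralizer_iff]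
        intro x hx
        rw [Set.mem_singleton_iff] at hx
        subst hx
        have e3 : (c₁ : Γ) = (g₀ : Γ)⁻¹ * c₂ * g₀ := by
          rw [← hg₀']; group
        have e4 : (c₂ : Γ) = g * c₁ * g⁻¹ := hg.symm
        calc (c₁ : Γ) * ((g₀ : Γ)⁻¹ * g) = (g₀ : Γ)⁻¹ * c₂ * g₀ * ((g₀ : Γ)⁻¹ * g) := by rw [← e3]
          _ = (g₀ : Γ)⁻¹ * c₂ * g := by group
          _ = (g₀ : Γ)⁻¹ * (g * c₁ * g⁻¹) * g := by rw [← e4]
          _ = (g₀ : Γ)⁻¹ * g * c₁ := by group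
      · rintro ⟨h, ⟨hhG, hhc⟩, rfl⟩
        refine ⟨G.mul_mem g₀.2 hhG, ?_⟩
        have e5 : (c₁ : Γ) * h = h * c₁ :=
          Subgroup.mem_centralizer_iff.mp hhc _ (Set.mem_singleton _)
        calc (g₀ : Γ) * h * c₁ * ((g₀ : Γ) * h)⁻¹ = (g₀ : Γ) * (h * c₁) * h⁻¹ * (g₀ : Γ)⁻¹ := by group
          _ = (g₀ : Γ) * (c₁ * h) * h⁻¹ * (g₀ : Γ)⁻¹ := by rw [e5]
          _ = (g₀ : Γ) * c₁ * (g₀ : Γ)⁻¹ := by group
          _ = c₂ := hg₀'
    rw [hXeq, Set.ncard_image_of_injective _ (mul_right_injective _)]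
    have h1 : (H : Set Γ).ncard = Nat.card H := (Nat.card_coe_set_eq _).symm
    rw [h1]
    intro hdvd
    exact hcop (hdvd.trans (Subgroup.card_dvd_of_le inf_le_left))
  obtain ⟨g, ⟨hgG, hg⟩, hgfix⟩ := exists_fixed_of_pgroup P p hP X hXinv hXcard
  have hgG₁ : g ∈ G₁ := by
    rw [hG₁]
    refine ⟨hgG, ?_⟩
    show g ∈ Subgroup.centralizer (P : Set Γ)
    rw [Subgroup.mem_centralizer_iff]
    intro t ht
    have := hgfix t ht
    calc t * g = t * g * t⁻¹ * t := by group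
      _ = g * t := by rw [this]
  refine isConj_iff.mpr ⟨⟨g, hgG₁⟩, ?_⟩
  apply Subtype.ext
  simpa using hg

/-- Every `P`-invariant class of `G` meets `C_G(P)`. -/
theorem exists_mk_inclusion_eq [Finite Γ] (P G G₁ : Subgroup Γ) (p : ℕ) [Fact p.Prime]
    (hP : IsPGroup p P) (hnG : Norms P G) (hcop : ¬ p ∣ Nat.card G)
    (hG₁ : G₁ = G ⊓ Subgroup.centralizer (P : Set Γ)) (hle : G₁ ≤ G) (K : ConjClasses ↥G)
    (hK : InvClass P G K) : ∃ c : ↥G₁, ConjClasses.mk (Subgroup.inclusion hle c) = K := by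
  obtain ⟨x, hx⟩ := ConjClasses.exists_rep K
  let X : Set Γ := {g | ∃ h : g ∈ G, ConjClasses.mk (⟨g, h⟩ : ↥G) = K}
  have hXinv : ∀ t ∈ P, ∀ g ∈ X, t * g * t⁻¹ ∈ X := by
    rintro t ht g ⟨hgG, hg⟩
    exact ⟨hnG t ht g hgG, hK t ht ⟨g, hgG⟩ ⟨t * g * t⁻¹, hnG t ht g hgG⟩ rfl hg⟩
  have hXcard : ¬ p ∣ X.ncard := by
    have hXeq : X = Subtype.val '' (K.carrier : Set ↥G) := by
      ext g
      constructor
      · rintro ⟨hgG, hg⟩
        exact ⟨⟨g, hgG⟩, ConjClasses.mem_carrier_iff_mk_eq.mpr hg, rfl⟩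
      · rintro ⟨y, hy, rfl⟩
        exact ⟨y.2, ConjClasses.mem_carrier_iff_mk_eq.mp hy⟩
    rw [hXeq, Set.ncard_image_of_injective _ Subtype.val_injective, ← hx, ncard_carrier_eq_index]
    intro hdvd
    exact hcop (hdvd.trans (Subgroup.index_dvd_card _))
  obtain ⟨g, ⟨hgG, hg⟩, hgfix⟩ := exists_fixed_of_pgroup P p hP X hXinv hXcard
  have hgG₁ : g ∈ G₁ := by
    rw [hG₁]
    refine ⟨hgG, ?_⟩
    show g ∈ Subgroup.centralizer (P : Set Γ)
    rw [Subgroup.mem_centralizer_iff]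
    intro t ht
    have := hgfix t ht
    calc t * g = t * g * t⁻¹ * t := by group
      _ = g * t := by rw [this]
  exact ⟨⟨g, hgG₁⟩, hg⟩

/-- The `S`-invariant classes of `C_G(P)` correspond to the `S`-invariant classes of `G`. -/
theorem class_step [Finite Γ] (S P G G₁ : Subgroup Γ) (p : ℕ) [Fact p.Prime] (hP : IsPGroup p P)
    (hPS : P ≤ S) (hnG : Norms S G) (hnG₁ : Norms S G₁) (hcop : ¬ p ∣ Nat.card G)
    (hG₁ : G₁ = G ⊓ Subgroup.centralizer (P : Set Γ)) :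
    Nat.card {K : ConjClasses G₁ // InvClass S G₁ K} =
      Nat.card {K : ConjClasses G // InvClass S G K} := by
  have hle : G₁ ≤ G := hG₁ ▸ inf_le_left
  have hinj := isConj_of_isConj_inclusion P G G₁ p hP (norms_mono hPS hnG) hcop hG₁ hle
  have hsurj := exists_mk_inclusion_eq P G G₁ p hP (norms_mono hPS hnG) hcop hG₁ hle
  have hfwd : ∀ c : ↥G₁, InvClass S G₁ (ConjClasses.mk c) →
      InvClass S G (ConjClasses.mk (Subgroup.inclusion hle c)) := by
    intro c hc s hs g g' hg' hg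
    obtain ⟨h, hh⟩ := isConj_iff.mp (ConjClasses.mk_eq_mk_iff_isConj.mp hg)
    let c' : ↥G₁ := conjE S G₁ hnG₁ ⟨s, hs⟩ c
    have h1 : ConjClasses.mk c' = ConjClasses.mk c := hc s hs c c' rfl rfl
    have h2 : IsConj (Subgroup.inclusion hle c') (Subgroup.inclusion hle c) :=
      (Subgroup.inclusion hle).map_isConj (ConjClasses.mk_eq_mk_iff_isConj.mp h1)
    have h3 : IsConj g' (Subgroup.inclusion hle c') := by
      refine isConj_iff.mpr ⟨conjE S G hnG ⟨s, hs⟩ h, ?_⟩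
      apply Subtype.ext
      have e1 := congrArg Subtype.val hh
      simp only [Subgroup.coe_mul, Subgroup.coe_inv, Subgroup.coe_inclusion] at e1
      show (s * (h : Γ) * s⁻¹) * (g' : Γ) * (s * (h : Γ) * s⁻¹)⁻¹ = s * (c : Γ) * s⁻¹
      rw [hg', ← e1]
      group
    exact ConjClasses.mk_eq_mk_iff_isConj.mpr (h3.trans h2)
  let F : {K : ConjClasses G₁ // InvClass S G₁ K} → {K : ConjClasses G // InvClass S G K} :=
    fun K => ⟨ConjClasses.map (Subgroup.inclusion hle) K.1, by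
      obtain ⟨c, hc⟩ := ConjClasses.exists_rep K.1
      have := hfwd c (hc ▸ K.2)
      rw [← hc]
      exact this⟩
  have hFinj : Function.Injective F := by
    rintro ⟨K, hK⟩ ⟨K', hK'⟩ h
    obtain ⟨c, rfl⟩ := ConjClasses.exists_rep K
    obtain ⟨c', rfl⟩ := ConjClasses.exists_rep K'
    have h1 : ConjClasses.mk (Subgroup.inclusion hle c) = ConjClasses.mk (Subgroup.inclusion hle c') :=
      congrArg Subtype.val h
    apply Subtype.ext
    exact ConjClasses.mk_eq_mk_iff_isConj.mpr (hinj c c' (ConjClasses.mk_eq_mk_iff_isConj.mp h1))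
  have hFsurj : Function.Surjective F := by
    rintro ⟨K, hK⟩
    obtain ⟨c, hc⟩ := hsurj K (fun s hs => hK s (hPS hs))
    have hcinv : InvClass S G₁ (ConjClasses.mk c) := by
      intro s hs c₂ c₂' hc₂' hc₂
      have h1 : ConjClasses.mk (Subgroup.inclusion hle c₂) = K := by
        rw [← hc]
        exact ConjClasses.mk_eq_mk_iff_isConj.mpr
          ((Subgroup.inclusion hle).map_isConj (ConjClasses.mk_eq_mk_iff_isConj.mp hc₂))
      have h2 : ConjClasses.mk (Subgroup.inclusion hle c₂') = K :=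
        hK s hs (Subgroup.inclusion hle c₂) (Subgroup.inclusion hle c₂') hc₂' h1
      rw [← hc] at h2
      exact ConjClasses.mk_eq_mk_iff_isConj.mpr (hinj c₂' c (ConjClasses.mk_eq_mk_iff_isConj.mp h2))
    exact ⟨⟨ConjClasses.mk c, hcinv⟩, Subtype.ext hc⟩
  exact Nat.card_congr (Equiv.ofBijective F ⟨hFinj, hFsurj⟩)


end Cfsg.Agent.H92
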