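import Mathlib
import Cfsg.Prelude.Def_Characters
import Cfsg.Agent.H4.IrrCount
import Cfsg.Agent.H92.CoprimeAct

set_option autoImplicit false
set_option linter.style.haveILetI false

/-!
# Counting invariant characters under a coprime solvable operator group (helper92)

`count_inv_eq`: given the `p`-group Glauberman correspondence (`GlaubP Γ`, the statement of S4444
for the ambient group `Γ`), for a solvable `S ≤ Γ` normalising `G ≤ Γ` with coprime orders the
number of `S`-invariant irreducible characters of `G` equals the number of `S`-invariant classes.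
-/

open Cfsg

namespace Cfsg.Agent.H92

open Subgroup

variable {Γ : Type*} [Group Γ]


/-- The statement of the `p`-group Glauberman correspondence (S4444) for all pairs of subgroups
of a fixed ambient group. -/
def GlaubP (Γ : Type*) [Group Γ] : Prop :=
  ∀ (G S : Subgroup Γ) [Fintype G], (∀ s ∈ S, ∀ g ∈ G, s * g * s⁻¹ ∈ G) →
    (Nat.card G).Coprime (Nat.card S) → ∀ (p : ℕ), p.Prime → IsPGroup p S →
    ∀ (C : Subgroup Γ) [Fintype C], C = G ⊓ Subgroup.centralizer (S : Set Γ) → ∀ (hCG : C ≤ G),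
    (∀ χ : Cfsg.IrrCharacter G, (∀ s ∈ S, ∀ g g' : G, (g' : Γ) = s * g * s⁻¹ → (χ : G → ℂ) g' = (χ : G → ℂ) g) → ∃! β : Cfsg.IrrCharacter C, ∃ m : ℕ, Cfsg.classInner (fun c : C => (χ : G → ℂ) ⟨c, hCG c.2⟩) (β : C → ℂ) = (m : ℂ) ∧ ¬ p ∣ m) ∧ (∀ χ : Cfsg.IrrCharacter G, (∀ s ∈ S, ∀ g g' : G, (g' : Γ) = s * g * s⁻¹ → (χ : G → ℂ) g' = (χ : G → ℂ) g) → ∀ β : Cfsg.IrrCharacter C, ∀ m : ℕ, Cfsg.classInner (fun c : C => (χ : G → ℂ) ⟨c, hCG c.2⟩) (β : C → ℂ) = (m : ℂ) → ¬ p ∣ m → ((m : ℤ) ≡ 1 [ZMOD p] ∨ (m : ℤ) ≡ -1 [ZMOD p])) ∧ (∀ χ χ' : Cfsg.IrrCharacter G, (∀ s ∈ S, ∀ g g' : G, (g' : Γ) = s * g * s⁻¹ → (χ : G → ℂ) g' = (χ : G → ℂ) g) → (∀ s ∈ S, ∀ g g' : G, (g' : Γ) = s * g * s⁻¹ → (χ' : G → ℂ) g' = (χ' : G → ℂ) g) → ∀ β : Cfsg.IrrCharacter C, ∀ m m' : ℕ, Cfsg.classInner (fun c : C => (χ : G → ℂ) ⟨c, hCG c.2⟩) (β : C → ℂ) = (m : ℂ) → ¬ p ∣ m → Cfsg.classInner (fun c : C => (χ' : G → ℂ) ⟨c, hCG c.2⟩) (β : C → ℂ) = (m' : ℂ) → ¬ p ∣ m'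 → χ = χ') ∧ (∀ β : Cfsg.IrrCharacter C, ∃ χ : Cfsg.IrrCharacter G, (∀ s ∈ S, ∀ g g' : G, (g' : Γ) = s * g * s⁻¹ → (χ : G → ℂ) g' = (χ : G → ℂ) g) ∧ ∃ m : ℕ, Cfsg.classInner (fun c : C => (χ : G → ℂ) ⟨c, hCG c.2⟩) (β : C → ℂ) = (m : ℂ) ∧ ¬ p ∣ m)

/-- The data obtained from `exists_pgroup_acting`: `S` normalises `C_G(P)`. -/
theorem norms_fixed {S P G : Subgroup Γ} (hnG : Norms S G)
    (hP3 : ∀ s ∈ S, ∀ t ∈ P, ∃ k ∈ Subgroup.centralizer (G : Set Γ), ∃ t' ∈ P,
      s * t * s⁻¹ = k * t') :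
    Norms S (G ⊓ Subgroup.centralizer (P : Set Γ)) := by
  rintro s hs c ⟨hcG, hcP⟩
  refine ⟨hnG s hs c hcG, ?_⟩
  show s * c * s⁻¹ ∈ Subgroup.centralizer (P : Set Γ)
  rw [Subgroup.mem_centralizer_iff]
  intro t ht
  obtain ⟨k, hk, t', ht', e⟩ := hP3 s⁻¹ (S.inv_mem hs) t ht
  rw [inv_inv] at e
  have e1 : t = s * (k * t') * s⁻¹ := by rw [← e]; group
  have e2 : t' * c = c * t' := Subgroup.mem_centralizer_iff.mp hcP t' ht'
  have e3 : c * k = k * c := Subgroup.mem_centralizer_iff.mp hk c hcG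
  calc t * (s * c * s⁻¹) = s * (k * (t' * c)) * s⁻¹ := by rw [e1]; group
    _ = s * (k * c * t') * s⁻¹ := by rw [e2]; group
    _ = s * (c * k * t') * s⁻¹ := by rw [e3]
    _ = s * c * s⁻¹ * t := by rw [e1]; group

/-- Conjugating a `P`-invariant function by `s ∈ S` keeps it `P`-invariant. -/
theorem invChar_conj {S P G : Subgroup Γ} (hnG : Norms S G) (hPS : P ≤ S)
    (hP3 : ∀ s ∈ S, ∀ t ∈ P, ∃ k ∈ Subgroup.centralizer (G : Set Γ), ∃ t' ∈ P,
      s * t * s⁻¹ = k * t')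
    (f : ↥G → ℂ) (hf : InvChar P G f) (s : ↥S) :
    InvChar P G (fun g => f (conjE S G hnG s g)) := by
  intro t ht g g' hg'
  obtain ⟨k, hk, t', ht', e⟩ := hP3 s s.2 t ht
  set g₂ : ↥G := conjE S G hnG s g with hg₂
  have h1 : ((conjE S G hnG s g' : ↥G) : Γ) = t' * g₂ * t'⁻¹ := by
    have e0 : ((conjE S G hnG s g' : ↥G) : Γ) = (s * t * (s : Γ)⁻¹) * g₂ * (s * t * (s : Γ)⁻¹)⁻¹ := by
      rw [coe_conjE, hg', hg₂, coe_conjE]; group
    have hmem : t' * (g₂ : Γ) * t'⁻¹ ∈ G := hnG t' (hPS ht') g₂ g₂.2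
    have e3 : (t' * (g₂ : Γ) * t'⁻¹) * k = k * (t' * (g₂ : Γ) * t'⁻¹) :=
      Subgroup.mem_centralizer_iff.mp hk _ hmem
    rw [e0, e]
    calc k * t' * (g₂ : Γ) * (k * t')⁻¹ = k * (t' * (g₂ : Γ) * t'⁻¹) * k⁻¹ := by group
      _ = (t' * (g₂ : Γ) * t'⁻¹) * k * k⁻¹ := by rw [e3]
      _ = t' * (g₂ : Γ) * t'⁻¹ := by group
  exact hf t' ht' g₂ (conjE S G hnG s g') h1

/-- **Counting form of the Glauberman correspondence for solvable operator groups**: the number of
`S`-invariant irreducible characters equals the number of `S`-invariant classes. -/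
theorem count_inv_eq [Finite Γ] (hGl : GlaubP Γ) (S : Subgroup Γ) (hsolv : Group.IsSolvable S) :
    ∀ (n : ℕ) (G : Subgroup Γ), Nat.card G ≤ n → Norms S G →
      (Nat.card G).Coprime (Nat.card S) →
      Nat.card {χ : IrrCharacter G // InvChar S G (χ : G → ℂ)} =
        Nat.card {K : ConjClasses G // InvClass S G K} := by
  classical
  intro n
  induction n with
  | zero =>
    intro G hG
    exact absurd hG (by have := Nat.card_pos (α := ↥G); omega)
  | succ n ih =>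
    intro G hGn hnG hcop
    by_cases hc : S ≤ Subgroup.centralizer (G : Set Γ)
    · -- trivial action
      have hfix : ∀ s ∈ S, ∀ g g' : ↥G, (g' : Γ) = s * g * s⁻¹ → g' = g := by
        intro s hs g g' hg'
        apply Subtype.ext
        have h1 : (g : Γ) * s = s * g := Subgroup.mem_centralizer_iff.mp (hc hs) g g.2
        rw [hg', ← h1, mul_inv_cancel_right]
      have h1 : ∀ χ : IrrCharacter G, InvChar S G (χ : G → ℂ) := by
        intro χ s hs g g' hg'
        rw [hfix s hs g g' hg']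
      have h2 : ∀ K : ConjClasses G, InvClass S G K := by
        intro K s hs g g' hg' hK
        rw [hfix s hs g g' hg']
        exact hK
      rw [Nat.card_congr (Equiv.subtypeUnivEquiv h1), Nat.card_congr (Equiv.subtypeUnivEquiv h2)]
      exact Cfsg.Agent.H4.card_irr_eq_card_conjClasses
    · obtain ⟨p, P, hp, hP, hPS, hPZ, hP3⟩ := exists_pgroup_acting S G hsolv hc
      haveI : Fact p.Prime := ⟨hp⟩
      set G₁ : Subgroup Γ := G ⊓ Subgroup.centralizer (P : Set Γ) with hG₁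
      have hle : G₁ ≤ G := inf_le_left
      have hnG₁ : Norms S G₁ := norms_fixed hnG hP3
      have hcopP : (Nat.card G).Coprime (Nat.card P) :=
        Nat.Coprime.coprime_dvd_right (Subgroup.card_dvd_of_le hPS) hcop
      have hpG : ¬ p ∣ Nat.card G := by
        intro hdvd
        have hPnt : P ≠ ⊥ := by
          rintro rfl
          exact hPZ bot_le
        have hpP : p ∣ Nat.card P := by
          obtain ⟨k, hk⟩ := (IsPGroup.iff_card.mp hP)
          have hk0 : k ≠ 0 := by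
            rintro rfl
            rw [pow_zero] at hk
            exact hPnt (Subgroup.card_eq_one.mp hk)
          rw [hk]
          exact dvd_pow_self p hk0
        exact hp.one_lt.ne' (Nat.eq_one_of_dvd_coprimes hcopP hdvd hpP)
      have hlt : Nat.card G₁ < Nat.card G := by
        refine lt_of_le_of_ne (Subgroup.card_le_of_le hle) fun hcard => hPZ ?_
        have heq : G₁ = G := Subgroup.eq_of_le_of_card_ge hle hcard.ge
        intro t ht
        rw [Subgroup.mem_centralizer_iff]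
        intro g hg
        have h1 : g ∈ G₁ := heq ▸ hg
        exact (Subgroup.mem_centralizer_iff.mp h1.2 t ht).symm
      letI : Fintype ↥G := Fintype.ofFinite _
      letI : Fintype ↥G₁ := Fintype.ofFinite _
      obtain ⟨g1, -, g3, g4⟩ := hGl G P (norms_mono hPS hnG) hcopP p hp hP G₁ hG₁ hle
      have hstep1 := char_step S P G G₁ p hPS hnG hnG₁ hle
        (fun f hf s => invChar_conj hnG hPS hP3 f hf s) g1 g3 g4
      have hstep2 := class_step S P G G₁ p hP hPS hnG hnG₁ hpG hG₁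
      have hih := ih G₁ (by omega) hnG₁
        (Nat.Coprime.coprime_dvd_left (Subgroup.card_dvd_of_le hle) hcop)
      rw [hstep1, hih, hstep2]

end Cfsg.Agent.H92
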