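import Mathlib
import Cfsg.Prelude.Def_Characters
import Cfsg.Agent.H4.GlaubP
import Cfsg.Agent.Lib.Clifford

set_option autoImplicit false
set_option linter.style.haveILetI false
set_option linter.unusedSectionVars false

/-!
# Compatibility of the `p`-group Glauberman correspondence with normal subgroups (helper92)

`glaub_over`: a `p`-group `P` acts on `G` and on `N` (mapping equivariantly to `G` by `j`); `C`, `D`
map into `G`, `N` with `P`-fixed image in `N`.  If `β` is the only constituent of `χ|C` with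
multiplicity prime to `p` and `θ` the only `P`-invariant character of `N` whose restriction to `D`
contains `ϑ` with multiplicity prime to `p`, then
`[χ_C, β] [β_D, ϑ] ≡ [χ_N, θ] [θ_D, ϑ]` modulo `p`.
-/

open Cfsg

namespace Cfsg.Agent.H92

open Cfsg.Agent.H4

universe u v w x y

theorem isIntegral_classInner {H : Type u} [Group H] [Fintype H] {A B : H → ℂ}
    (hA : IsCharacter H A) (hB : IsCharacter H B) : IsIntegral ℤ (classInner A B) := by
  obtain ⟨n, hn⟩ := classInner_isCharacter_nat hA hB
  rw [hn]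
  exact isIntegral_natCast n

variable {G : Type u} [Group G] [Fintype G] {P : Type v} [Group P] [MulDistribMulAction P G]
  {N : Type w} [Group N] [Fintype N] [MulDistribMulAction P N]
  {C : Type x} [Group C] [Fintype C] {D : Type y} [Group D] [Fintype D] {p : ℕ}

theorem glaub_over (hp : p.Prime) (hP : IsPGroup p P)
    (j : N →* G) (ι : C →* G) (ι' : D →* C) (k : D →* N)
    (hcomm : ∀ d, ι (ι' d) = j (k d))
    (hj : ∀ (s : P) (n : N), j (s • n) = s • j n)
    (hk : ∀ (s : P) (d : D), s • k d = k d)
    (χ : IrrCharacter G) (hχ : ∀ (s : P) (g : G), χ.1 (s • g) = χ.1 g)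
    (β : IrrCharacter C) (θ : IrrCharacter N) (ϑ : IrrCharacter D)
    (h1 : ∀ γ : IrrCharacter C, γ ≠ β → PDiv p (classInner (fun c => χ.1 (ι c)) γ.1))
    (h3 : ∀ η : IrrCharacter N, (∀ (s : P) (n : N), η.1 (s • n) = η.1 n) → η ≠ θ →
      PDiv p (classInner (fun d => η.1 (k d)) ϑ.1))
    (hθ : ∀ (s : P) (n : N), θ.1 (s • n) = θ.1 n) :
    PDiv p (classInner (fun c => χ.1 (ι c)) β.1 * classInner (fun d => β.1 (ι' d)) ϑ.1 -
      classInner (fun n => χ.1 (j n)) θ.1 * classInner (fun d => θ.1 (k d)) ϑ.1) := by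
  classical
  letI := fintypeIrr C
  letI := fintypeIrr N
  letI := irrMulAction P N
  have hχc : IsCharacter G χ.1 := isCharacter_of_isIrrCharacter χ.2
  have hϑc : IsCharacter D ϑ.1 := isCharacter_of_isIrrCharacter ϑ.2
  set X := classInner (fun d => χ.1 (ι (ι' d))) ϑ.1 with hX
  -- expansion through `C`
  have e1 : X = ∑ γ : IrrCharacter C,
      classInner (fun c => χ.1 (ι c)) γ.1 * classInner (fun d => γ.1 (ι' d)) ϑ.1 := by
    have hf : (fun d => χ.1 (ι (ι' d))) = ∑ γ : IrrCharacter C,
        classInner (fun c => χ.1 (ι c)) γ.1 • (fun d => γ.1 (ι' d)) := by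
      funext d
      rw [res_eq_sum ι hχc (ι' d)]
      simp [Finset.sum_apply]
    rw [hX, hf, classInner_sum_left]
    refine Finset.sum_congr rfl fun γ _ => ?_
    rw [classInner_smul_left]
  -- expansion through `N`
  let f : IrrCharacter N → ℂ := fun η =>
    classInner (fun n => χ.1 (j n)) η.1 * classInner (fun d => η.1 (k d)) ϑ.1
  have e2 : X = ∑ η : IrrCharacter N, f η := by
    have hf : (fun d => χ.1 (ι (ι' d))) = ∑ η : IrrCharacter N,
        classInner (fun n => χ.1 (j n)) η.1 • (fun d => η.1 (k d)) := by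
      funext d
      rw [hcomm, res_eq_sum j hχc (k d)]
      simp [Finset.sum_apply]
    rw [hX, hf, classInner_sum_left]
    refine Finset.sum_congr rfl fun η _ => ?_
    rw [classInner_smul_left]
  have d1 : PDiv p (X - classInner (fun c => χ.1 (ι c)) β.1 *
      classInner (fun d => β.1 (ι' d)) ϑ.1) := by
    rw [e1, ← Finset.add_sum_erase Finset.univ _ (Finset.mem_univ β), add_sub_cancel_left]
    apply PDiv.sum
    intro γ hγ
    exact PDiv.mul_right _ (isIntegral_classInner
      (isCharacter_comp ι' (isCharacter_of_isIrrCharacter γ.2)) hϑc)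
      (h1 γ (Finset.ne_of_mem_erase hγ))
  have hfinv : ∀ (s : P) (η : IrrCharacter N), f (s • η) = f η := by
    intro s η
    have a1 : classInner (fun n => χ.1 (j n)) (s • η).1 =
        classInner (fun n => χ.1 (j n)) η.1 := by
      have h := Cfsg.Agent.Clifford.classInner_comp_equiv
        (MulDistribMulAction.toMulEquiv N (s⁻¹ : P)) (fun n => χ.1 (j n)) η.1
      rw [← h]
      congr 1
      funext n
      show χ.1 (j n) = χ.1 (j (s⁻¹ • n))
      rw [hj, hχ]
    have a2 : (fun d => (s • η).1 (k d)) = (fun d => η.1 (k d)) := by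
      funext d
      show η.1 (s⁻¹ • k d) = η.1 (k d)
      rw [hk]
    show classInner (fun n => χ.1 (j n)) (s • η).1 * classInner (fun d => (s • η).1 (k d)) ϑ.1 = _
    rw [a1, a2]
  have hfint : ∀ η : IrrCharacter N, IsIntegral ℤ (f η) := fun η =>
    (isIntegral_classInner (isCharacter_comp j hχc) (isCharacter_of_isIrrCharacter η.2)).mul
      (isIntegral_classInner (isCharacter_comp k (isCharacter_of_isIrrCharacter η.2)) hϑc)
  have d2 := pDiv_sum_sub_sum_fixed hp hP f hfinv hfint
  rw [← e2] at d2
  have hθfix : θ ∈ Finset.univ.filter (fun a : IrrCharacter N => ∀ s : P, s • a = a) := by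
    rw [Finset.mem_filter]
    refine ⟨Finset.mem_univ _, fun s => Subtype.ext ?_⟩
    funext n
    show θ.1 (s⁻¹ • n) = θ.1 n
    exact hθ s⁻¹ n
  have d3 : PDiv p (∑ a ∈ Finset.univ.filter (fun a : IrrCharacter N => ∀ s : P, s • a = a), f a
      - f θ) := by
    rw [← Finset.add_sum_erase _ _ hθfix, add_sub_cancel_left]
    apply PDiv.sum
    intro η hη
    have hη1 := Finset.ne_of_mem_erase hη
    have hη2 := (Finset.mem_filter.mp (Finset.mem_of_mem_erase hη)).2
    refine PDiv.mul_left _ (isIntegral_classInner (isCharacter_comp j hχc)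
      (isCharacter_of_isIrrCharacter η.2)) (h3 η ?_ hη1)
    intro s n
    have h := congrArg (fun a : IrrCharacter N => a.1 (s • n)) (hη2 s)
    have h' : η.1 (s⁻¹ • s • n) = η.1 (s • n) := h
    rw [inv_smul_smul] at h'
    exact h'.symm
  have d4 := (d2.add d3).sub d1
  have e : (X - ∑ a ∈ Finset.univ.filter (fun a : IrrCharacter N => ∀ s : P, s • a = a), f a +
      (∑ a ∈ Finset.univ.filter (fun a : IrrCharacter N => ∀ s : P, s • a = a), f a - f θ) -
      (X - classInner (fun c => χ.1 (ι c)) β.1 * classInner (fun d => β.1 (ι' d)) ϑ.1)) =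
      classInner (fun c => χ.1 (ι c)) β.1 * classInner (fun d => β.1 (ι' d)) ϑ.1 - f θ := by
    ring
  rw [e] at d4
  exact d4

end Cfsg.Agent.H92
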