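import Mathlib
import Cfsg.Prelude.Def_Characters
import Cfsg.Agent.H92.CoprimeCount
import Cfsg.Agent.H92.GlaubOver

set_option autoImplicit false
set_option linter.style.haveILetI false
set_option linter.unusedSectionVars false

/-!
# Invariant characters over invariant characters of a normal subgroup (helper92)

`exists_inv_over`: given the `p`-group Glauberman correspondence for the ambient group `Γ`, for a
solvable `S ≤ Γ` normalising `N ⊴ G` with `(|G|, |S|) = 1`, every `S`-invariant `θ ∈ Irr(N)` lies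
under an `S`-invariant `χ ∈ Irr(G)`.
-/

open Cfsg

namespace Cfsg.Agent.H92

open Subgroup Cfsg.Agent.H4

universe u x

section Abstract

/-- Every irreducible character of a group embedded in `G` lies under an irreducible character of
`G`. -/
theorem exists_irr_over_hom {G : Type u} [Group G] [Fintype G] {C : Type x} [Group C] [Fintype C]
    (ι : C →* G) (hι : Function.Injective ι) (θ : IrrCharacter C) :
    ∃ χ : IrrCharacter G, classInner (fun c => χ.1 (ι c)) θ.1 ≠ 0 := by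
  classical
  letI := fintypeIrr G
  by_contra hcon
  push Not at hcon
  have h1 : classInner (fun c => ∑ χ : IrrCharacter G, χ.1 1 * χ.1 (ι c)) θ.1 = 0 := by
    have : (fun c => ∑ χ : IrrCharacter G, χ.1 1 * χ.1 (ι c)) =
        ∑ χ : IrrCharacter G, χ.1 1 • (fun c => χ.1 (ι c)) := by
      funext c
      simp [Finset.sum_apply]
    rw [this, classInner_sum_left]
    exact Finset.sum_eq_zero fun χ _ => by rw [classInner_smul_left, hcon χ, mul_zero]
  have h2 : (fun c => ∑ χ : IrrCharacter G, χ.1 1 * χ.1 (ι c)) =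
      fun c => if c = 1 then (Nat.card G : ℂ) else 0 := by
    funext c
    rw [sum_deg_mul_irr]
    have : ι c = 1 ↔ c = 1 := by rw [← map_one ι]; exact hι.eq_iff
    simp [this]
  rw [h2] at h1
  obtain ⟨d, e, hde, hd, -⟩ := exists_codeg θ.2
  unfold classInner at h1
  have h3 : ∑ g : C, (if g = 1 then (Nat.card G : ℂ) else 0) * (starRingEnd ℂ) (θ.1 g) =
      (Nat.card G : ℂ) * d := by
    rw [Finset.sum_eq_single (1 : C)]
    · simp [hd]
    · intro b _ hb
      simp [hb]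
    · intro h
      exact absurd (Finset.mem_univ _) h
  rw [h3] at h1
  have hG : (Nat.card G : ℂ) ≠ 0 := by
    exact_mod_cast (Nat.card_pos (α := G)).ne'
  have hC : (Nat.card C : ℂ) ≠ 0 := by
    exact_mod_cast (Nat.card_pos (α := C)).ne'
  have hd0 : (d : ℂ) ≠ 0 := by
    have : d ≠ 0 := by
      rintro rfl
      rw [zero_mul] at hde
      exact (Nat.card_pos (α := C)).ne' hde.symm
    exact_mod_cast this
  exact mul_ne_zero (inv_ne_zero hC) (mul_ne_zero hG hd0) h1

/-- Clifford: the multiplicity of an irreducible constituent of the restriction to a normal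
subgroup divides the group order. -/
theorem mult_dvd_card {G : Type u} [Group G] [Fintype G] (N : Subgroup G) [N.Normal] [Fintype N]
    (χ : IrrCharacter G) (θ : IrrCharacter N) (b : ℕ)
    (hb : classInner (fun n : N => χ.1 n) θ.1 = b) (hb0 : b ≠ 0) : b ∣ Nat.card G := by
  classical
  have h1 : classInner (fun n : N => χ.1 n) θ.1 ≠ 0 := by
    rw [hb]
    exact_mod_cast hb0
  have hres := Cfsg.Agent.Clifford.clifford_res N χ.2 θ.2 h1
  have hfin : {ψ : N → ℂ | ∃ g : G, ψ = Cfsg.Agent.Clifford.conjChar N θ.1 g}.Finite := by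
    have : {ψ : N → ℂ | ∃ g : G, ψ = Cfsg.Agent.Clifford.conjChar N θ.1 g} =
        Set.range (fun g : G => Cfsg.Agent.Clifford.conjChar N θ.1 g) := by
      ext ψ; constructor
      · rintro ⟨g, rfl⟩; exact ⟨g, rfl⟩
      · rintro ⟨g, rfl⟩; exact ⟨g, rfl⟩
    rw [this]; exact Set.finite_range _
  rw [finsum_mem_eq_finite_toFinset_sum _ hfin, hb] at hres
  have h2 := congrFun hres 1
  simp only [Pi.smul_apply, Finset.sum_apply, smul_eq_mul] at h2
  obtain ⟨dθ, eθ, -, hdθ, -⟩ := exists_codeg θ.2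
  obtain ⟨dχ, eχ, hdeχ, hdχ, -⟩ := exists_codeg χ.2
  have h3 : ∀ ψ ∈ hfin.toFinset, ψ 1 = (dθ : ℂ) := by
    intro ψ hψ
    obtain ⟨g, rfl⟩ : ∃ g : G, ψ = Cfsg.Agent.Clifford.conjChar N θ.1 g := by simpa using hψ
    rw [Cfsg.Agent.Clifford.conjChar_apply, ← hdθ]
    have e1 : (⟨g * ((1 : N) : G) * g⁻¹, ‹N.Normal›.conj_mem ((1 : N) : G) (1 : N).2 g⟩ : N) = 1 := by
      apply Subtype.ext
      simp
    rw [e1]
  rw [Finset.sum_congr rfl h3, Finset.sum_const, nsmul_eq_mul] at h2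
  have h4 : χ.1 ((1 : N) : G) = dχ := by
    rw [← hdχ]; rfl
  rw [h4] at h2
  have h5 : dχ = b * (hfin.toFinset.card * dθ) := by exact_mod_cast h2
  rw [← hdeχ, h5]
  exact ⟨hfin.toFinset.card * dθ * eχ, by ring⟩

end Abstract

variable {Γ : Type*} [Group Γ]

/-- `exists_irr_over_hom` for subgroups of an ambient group. -/
theorem exists_irr_over_sub (G N : Subgroup Γ) [Fintype G] [Fintype N] (hNG : N ≤ G)
    (θ : IrrCharacter N) :
    ∃ χ : IrrCharacter G, classInner (fun n : N => (χ : G → ℂ) ⟨n, hNG n.2⟩) (θ : N → ℂ) ≠ 0 :=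
  exists_irr_over_hom (Subgroup.inclusion hNG) (Subgroup.inclusion_injective hNG) θ

/-- `mult_dvd_card` for subgroups of an ambient group. -/
theorem mult_dvd_card_sub (G N : Subgroup Γ) [Fintype G] [Fintype N] (hNG : N ≤ G)
    (hn : ∀ g ∈ G, ∀ n ∈ N, g * n * g⁻¹ ∈ N) (χ : IrrCharacter G) (θ : IrrCharacter N) (b : ℕ)
    (hb : classInner (fun n : N => (χ : G → ℂ) ⟨n, hNG n.2⟩) (θ : N → ℂ) = b) (hb0 : b ≠ 0) :
    b ∣ Nat.card G := by
  classical
  haveI : (N.subgroupOf G).Normal := by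
    constructor
    intro n hn' g
    rw [Subgroup.mem_subgroupOf] at hn' ⊢
    exact hn g g.2 n hn'
  letI : Fintype ↥(N.subgroupOf G) := Fintype.ofFinite _
  let e : ↥(N.subgroupOf G) ≃* ↥N := Subgroup.subgroupOfEquivOfLe hNG
  let θ' : IrrCharacter ↥(N.subgroupOf G) := ⟨fun n' => (θ : N → ℂ) (e n'),
    Cfsg.Agent.Clifford.isIrrCharacter_comp_equiv e θ.2⟩
  have h1 : classInner (fun n' : ↥(N.subgroupOf G) => (χ : G → ℂ) n') (θ' : _ → ℂ) = b := by
    rw [← hb]
    exact Cfsg.Agent.Clifford.classInner_comp_equiv e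
      (fun n : N => (χ : G → ℂ) ⟨n, hNG n.2⟩) (θ : N → ℂ)
  exact mult_dvd_card (N.subgroupOf G) χ θ' b h1 hb0

/-- The correspondent of an `S`-invariant character is `S`-invariant. -/
theorem corr_inv_down [Finite Γ] (S P G G₁ : Subgroup Γ) (p : ℕ) (hPS : P ≤ S)
    (hnG : Norms S G) (hnG₁ : Norms S G₁) (hG₁ : G₁ ≤ G) [Fintype ↥G₁]
    (g1 : ∀ χ : IrrCharacter G, InvChar P G (χ : G → ℂ) → ∃! β : IrrCharacter G₁, ∃ m : ℕ,
      classInner (fun c : G₁ => (χ : G → ℂ) ⟨c, hG₁ c.2⟩) (β : G₁ → ℂ) = (m : ℂ) ∧ ¬ p ∣ m)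
    (χ : IrrCharacter G) (hχ : InvChar S G (χ : G → ℂ)) (β : IrrCharacter G₁) (m : ℕ)
    (hm : classInner (fun c : G₁ => (χ : G → ℂ) ⟨c, hG₁ c.2⟩) (β : G₁ → ℂ) = (m : ℂ))
    (hpm : ¬ p ∣ m) : InvChar S G₁ (β : G₁ → ℂ) := by
  classical
  rw [invChar_iff S G₁ hnG₁]
  intro s c
  let β' : IrrCharacter G₁ := ⟨fun c => (β : G₁ → ℂ) (conjE S G₁ hnG₁ s c),
    Cfsg.Agent.Clifford.isIrrCharacter_comp_equiv (conjE S G₁ hnG₁ s) β.2⟩
  have h1 : classInner (fun c : G₁ => (χ : G → ℂ) ⟨c, hG₁ c.2⟩) (β' : G₁ → ℂ) = (m : ℂ) := by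
    have h2 : classInner (fun c : G₁ => (fun g => (χ : G → ℂ) (conjE S G hnG s g)) ⟨c, hG₁ c.2⟩)
        (fun c => (β : G₁ → ℂ) (conjE S G₁ hnG₁ s c)) =
        classInner (fun c : G₁ => (χ : G → ℂ) ⟨c, hG₁ c.2⟩) (β : G₁ → ℂ) :=
      Cfsg.Agent.Clifford.classInner_comp_equiv (conjE S G₁ hnG₁ s)
        (fun c : G₁ => (χ : G → ℂ) ⟨c, hG₁ c.2⟩) (β : G₁ → ℂ)
    have h3 : (fun g => (χ : G → ℂ) (conjE S G hnG s g)) = (χ : G → ℂ) := by
      funext g
      exact (invChar_iff S G hnG _).mp hχ s g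
    rw [h3] at h2
    rw [← hm, ← h2]
  have h4 : β' = β := (g1 χ (hχ.mono hPS)).unique ⟨m, h1, hpm⟩ ⟨m, hm, hpm⟩
  have h5 := congrArg (fun b : IrrCharacter G₁ => (b : G₁ → ℂ) c) h4
  exact h5

/-- The `P`-invariant character corresponding to an `S`-invariant character is `S`-invariant. -/
theorem corr_inv_up [Finite Γ] (S P G G₁ : Subgroup Γ) (p : ℕ)
    (hnG : Norms S G) (hnG₁ : Norms S G₁) (hG₁ : G₁ ≤ G)
    (hE5 : ∀ (f : ↥G → ℂ), InvChar P G f → ∀ s : ↥S,
      InvChar P G (fun g => f (conjE S G hnG s g)))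
    [Fintype ↥G₁]
    (g3 : ∀ χ χ' : IrrCharacter G, InvChar P G (χ : G → ℂ) → InvChar P G (χ' : G → ℂ) →
      ∀ β : IrrCharacter G₁, ∀ m m' : ℕ,
      classInner (fun c : G₁ => (χ : G → ℂ) ⟨c, hG₁ c.2⟩) (β : G₁ → ℂ) = (m : ℂ) → ¬ p ∣ m →
      classInner (fun c : G₁ => (χ' : G → ℂ) ⟨c, hG₁ c.2⟩) (β : G₁ → ℂ) = (m' : ℂ) → ¬ p ∣ m' →
      χ = χ')
    (χ : IrrCharacter G) (hχP : InvChar P G (χ : G → ℂ)) (β : IrrCharacter G₁)
    (hβ : InvChar S G₁ (β : G₁ → ℂ)) (m : ℕ)
    (hm : classInner (fun c : G₁ => (χ : G → ℂ) ⟨c, hG₁ c.2⟩) (β : G₁ → ℂ) = (m : ℂ))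
    (hpm : ¬ p ∣ m) : InvChar S G (χ : G → ℂ) := by
  classical
  rw [invChar_iff S G hnG]
  intro s g
  let χ' : IrrCharacter G := ⟨fun g => (χ : G → ℂ) (conjE S G hnG s g),
    Cfsg.Agent.Clifford.isIrrCharacter_comp_equiv (conjE S G hnG s) χ.2⟩
  have h1 : classInner (fun c : G₁ => (χ' : G → ℂ) ⟨c, hG₁ c.2⟩) (β : G₁ → ℂ) = (m : ℂ) := by
    have h2 : classInner (fun c : G₁ => (fun g => (χ : G → ℂ) (conjE S G hnG s g)) ⟨c, hG₁ c.2⟩)
        (fun c => (β : G₁ → ℂ) (conjE S G₁ hnG₁ s c)) =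
        classInner (fun c : G₁ => (χ : G → ℂ) ⟨c, hG₁ c.2⟩) (β : G₁ → ℂ) :=
      Cfsg.Agent.Clifford.classInner_comp_equiv (conjE S G₁ hnG₁ s)
        (fun c : G₁ => (χ : G → ℂ) ⟨c, hG₁ c.2⟩) (β : G₁ → ℂ)
    have h3 : (fun c => (β : G₁ → ℂ) (conjE S G₁ hnG₁ s c)) = (β : G₁ → ℂ) := by
      funext c
      exact (invChar_iff S G₁ hnG₁ _).mp hβ s c
    rw [h3] at h2
    rw [← hm, ← h2]
  have h4 : χ' = χ := g3 χ' χ (hE5 _ hχP s) hχP β m m h1 hpm hm hpm
  exact congrArg (fun b : IrrCharacter G => (b : G → ℂ) g) h4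

/-- Every `S`-invariant irreducible character of a normal `S`-invariant subgroup `N` of `G` lies
under an `S`-invariant irreducible character of `G` (`S` solvable, acting coprimely). -/
theorem exists_inv_over [Finite Γ] (hGl : GlaubP Γ) (S : Subgroup Γ) (hsolv : Group.IsSolvable S) :
    ∀ (n : ℕ) (G N : Subgroup Γ) [Fintype G] [Fintype N], Nat.card G ≤ n → Norms S G → Norms S N →
      ∀ (hNG : N ≤ G), (∀ g ∈ G, ∀ n ∈ N, g * n * g⁻¹ ∈ N) →
      (Nat.card G).Coprime (Nat.card S) → ∀ θ : IrrCharacter N, InvChar S N (θ : N → ℂ) →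
      ∃ χ : IrrCharacter G,
        classInner (fun n : N => (χ : G → ℂ) ⟨n, hNG n.2⟩) (θ : N → ℂ) ≠ 0 ∧
        InvChar S G (χ : G → ℂ) := by
  classical
  intro n
  induction n with
  | zero =>
    intro G N _ _ hG
    exact absurd hG (by have := Nat.card_pos (α := ↥G); omega)
  | succ n ih =>
    intro G N _ _ hGn hnG hnN hNG hnorm hcop θ hθ
    by_cases hc : S ≤ Subgroup.centralizer (G : Set Γ)
    · -- trivial action
      have hfix : ∀ s ∈ S, ∀ g g' : ↥G, (g' : Γ) = s * g * s⁻¹ → g' = g := by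
        intro s hs g g' hg'
        apply Subtype.ext
        have h1 : (g : Γ) * s = s * g := Subgroup.mem_centralizer_iff.mp (hc hs) g g.2
        rw [hg', ← h1, mul_inv_cancel_right]
      obtain ⟨χ, hχ⟩ := exists_irr_over_sub G N hNG θ
      refine ⟨χ, hχ, ?_⟩
      intro s hs g g' hg'
      rw [hfix s hs g g' hg']
    · obtain ⟨p, P, hp, hP, hPS, hPZ, hP3⟩ := exists_pgroup_acting S G hsolv hc
      haveI : Fact p.Prime := ⟨hp⟩
      set G₁ : Subgroup Γ := G ⊓ Subgroup.centralizer (P : Set Γ) with hG₁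
      set N₁ : Subgroup Γ := N ⊓ Subgroup.centralizer (P : Set Γ) with hN₁
      have hle : G₁ ≤ G := inf_le_left
      have hleN : N₁ ≤ N := inf_le_left
      have hN₁G₁ : N₁ ≤ G₁ := inf_le_inf_right _ hNG
      have hP3N : ∀ s ∈ S, ∀ t ∈ P, ∃ k ∈ Subgroup.centralizer (N : Set Γ), ∃ t' ∈ P,
          s * t * s⁻¹ = k * t' := by
        intro s hs t ht
        obtain ⟨k, hk, t', ht', e⟩ := hP3 s hs t ht
        exact ⟨k, Subgroup.centralizer_le (by exact_mod_cast hNG) hk, t', ht', e⟩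
      have hnG₁ : Norms S G₁ := norms_fixed hnG hP3
      have hnN₁ : Norms S N₁ := norms_fixed hnN hP3N
      have hnorm₁ : ∀ g ∈ G₁, ∀ n ∈ N₁, g * n * g⁻¹ ∈ N₁ := by
        rintro g ⟨hgG, hgP⟩ n ⟨hnN', hnP⟩
        exact ⟨hnorm g hgG n hnN', Subgroup.mul_mem _ (Subgroup.mul_mem _ hgP hnP)
          (Subgroup.inv_mem _ hgP)⟩
      have hcopP : (Nat.card G).Coprime (Nat.card P) :=
        Nat.Coprime.coprime_dvd_right (Subgroup.card_dvd_of_le hPS) hcop
      have hcopNP : (Nat.card N).Coprime (Nat.card P) :=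
        Nat.Coprime.coprime_dvd_left (Subgroup.card_dvd_of_le hNG) hcopP
      have hpG : ¬ p ∣ Nat.card G := by
        intro hdvd
        have hPnt : P ≠ ⊥ := by
          rintro rfl
          exact hPZ bot_le
        have hpP : p ∣ Nat.card P := by
          obtain ⟨k, hk⟩ := (IsPGroup.iff_card.mp hP)
          have hk0 : k ≠ 0 := by
            rintro rfl
            rw [pow_zero] at hk
            exact hPnt (Subgroup.card_eq_one.mp hk)
          rw [hk]
          exact dvd_pow_self p hk0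
        exact hp.one_lt.ne' (Nat.eq_one_of_dvd_coprimes hcopP hdvd hpP)
      have hlt : Nat.card G₁ < Nat.card G := by
        refine lt_of_le_of_ne (Subgroup.card_le_of_le hle) fun hcard => hPZ ?_
        have heq : G₁ = G := Subgroup.eq_of_le_of_card_ge hle hcard.ge
        intro t ht
        rw [Subgroup.mem_centralizer_iff]
        intro g hg
        have h1 : g ∈ G₁ := heq ▸ hg
        exact (Subgroup.mem_centralizer_iff.mp h1.2 t ht).symm
      letI : Fintype ↥G₁ := Fintype.ofFinite _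
      letI : Fintype ↥N₁ := Fintype.ofFinite _
      obtain ⟨g1, -, g3, g4⟩ := hGl G P (norms_mono hPS hnG) hcopP p hp hP G₁ hG₁ hle
      obtain ⟨n1, -, n3, -⟩ := hGl N P (norms_mono hPS hnN) hcopNP p hp hP N₁ hN₁ hleN
      -- the correspondent of θ
      obtain ⟨ϑ, ⟨k, hk, hpk⟩, -⟩ := n1 θ (hθ.mono hPS)
      have hϑS : InvChar S N₁ (ϑ : N₁ → ℂ) :=
        corr_inv_down S P N N₁ p hPS hnN hnN₁ hleN n1 θ hθ ϑ k hk hpk
      -- induction
      obtain ⟨β, hβ0, hβS⟩ := ih G₁ N₁ (by omega) hnG₁ hnN₁ hN₁G₁ hnorm₁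
        (Nat.Coprime.coprime_dvd_left (Subgroup.card_dvd_of_le hle) hcop) ϑ hϑS
      obtain ⟨b, hb⟩ := classInner_isCharacter_nat
        (χ := fun n : N₁ => (β : G₁ → ℂ) ⟨n, hN₁G₁ n.2⟩) (ψ := (ϑ : N₁ → ℂ))
        (isCharacter_comp (Subgroup.inclusion hN₁G₁) (isCharacter_of_isIrrCharacter β.2))
        (isCharacter_of_isIrrCharacter ϑ.2)
      have hb0 : b ≠ 0 := by
        rintro rfl
        exact hβ0 (by rw [hb]; simp)
      have hpb : ¬ p ∣ b := by
        intro hdvd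
        have h1 := mult_dvd_card_sub G₁ N₁ hN₁G₁ hnorm₁ β ϑ b hb hb0
        exact hpG ((hdvd.trans h1).trans (Subgroup.card_dvd_of_le hle))
      obtain ⟨χ, hχP, m, hm, hpm⟩ := g4 β
      have hχS : InvChar S G (χ : G → ℂ) :=
        corr_inv_up S P G G₁ p hnG hnG₁ hle (fun f hf s => invChar_conj hnG hPS hP3 f hf s) g3
          χ hχP β hβS m hm hpm
      refine ⟨χ, ?_, hχS⟩
      letI actG : MulDistribMulAction P G := conjAct G P (norms_mono hPS hnG)
      letI actN : MulDistribMulAction P N := conjAct N P (norms_mono hPS hnN)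
      have h1' : ∀ γ : IrrCharacter G₁, γ ≠ β →
          PDiv p (classInner (fun c => χ.1 (Subgroup.inclusion hle c)) γ.1) := by
        intro γ hγ
        obtain ⟨mγ, hmγ⟩ := classInner_isCharacter_nat
          (χ := fun c : G₁ => χ.1 (Subgroup.inclusion hle c)) (ψ := γ.1)
          (isCharacter_comp (Subgroup.inclusion hle) (isCharacter_of_isIrrCharacter χ.2))
          (isCharacter_of_isIrrCharacter γ.2)
        rw [hmγ]
        by_cases hd : p ∣ mγ
        · have : (p : ℤ) ∣ (mγ : ℤ) := by exact_mod_cast hd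
          have h := PDiv.of_dvd this
          simpa using h
        · exact absurd ((g1 χ hχP).unique ⟨mγ, hmγ, hd⟩ ⟨m, hm, hpm⟩) hγ
      have h3' : ∀ η : IrrCharacter N, (∀ (s : P) (n : N), η.1 (s • n) = η.1 n) → η ≠ θ →
          PDiv p (classInner (fun d => η.1 (Subgroup.inclusion hleN d)) ϑ.1) := by
        intro η hηinv hη
        obtain ⟨kη, hkη⟩ := classInner_isCharacter_nat
          (χ := fun d : N₁ => η.1 (Subgroup.inclusion hleN d)) (ψ := ϑ.1)
          (isCharacter_comp (Subgroup.inclusion hleN) (isCharacter_of_isIrrCharacter η.2))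
          (isCharacter_of_isIrrCharacter ϑ.2)
        rw [hkη]
        by_cases hd : p ∣ kη
        · have : (p : ℤ) ∣ (kη : ℤ) := by exact_mod_cast hd
          have h := PDiv.of_dvd this
          simpa using h
        · have hηP : InvChar P N (η : N → ℂ) :=
            (conjAct_inv_iff N P (norms_mono hPS hnN) η.1).mpr hηinv
          exact absurd (n3 η θ hηP (hθ.mono hPS) ϑ kη k hkη hd hk hpk) hη
      have key := glaub_over hp hP (Subgroup.inclusion hNG) (Subgroup.inclusion hle)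
        (Subgroup.inclusion hN₁G₁) (Subgroup.inclusion hleN) (fun d => rfl) (fun s n => rfl)
        (fun s d => by
          apply Subtype.ext
          have hd : (d : Γ) ∈ Subgroup.centralizer (P : Set Γ) := d.2.2
          have e1 : (s : Γ) * d = d * s := Subgroup.mem_centralizer_iff.mp hd s s.2
          show (s : Γ) * (d : Γ) * (s : Γ)⁻¹ = d
          rw [e1, mul_inv_cancel_right])
        χ ((conjAct_inv_iff G P (norms_mono hPS hnG) χ.1).mp hχP) β θ ϑ h1' h3'
        ((conjAct_inv_iff N P (norms_mono hPS hnN) θ.1).mp (hθ.mono hPS))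
      intro h0
      have e1 : classInner (fun c => χ.1 (Subgroup.inclusion hle c)) β.1 = m := hm
      have e2 : classInner (fun d => β.1 (Subgroup.inclusion hN₁G₁ d)) ϑ.1 = b := hb
      have e3 : classInner (fun n => χ.1 (Subgroup.inclusion hNG n)) θ.1 = 0 := h0
      rw [e1, e2, e3, zero_mul, sub_zero] at key
      have e4 : ((m : ℂ) * (b : ℂ)) = (((m * b : ℕ) : ℤ) : ℂ) := by push_cast; ring
      rw [e4] at key
      have h5 := PDiv.dvd_int hp.pos key
      have h6 : p ∣ m * b := by exact_mod_cast h5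
      rcases (Nat.Prime.dvd_mul hp).mp h6 with h | h
      · exact hpm h
      · exact hpb h

end Cfsg.Agent.H92
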