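import Mathlib
import Cfsg.Prelude.Def_MonsterType
set_option autoImplicit false
open Cfsg
open scoped Pointwise commutatorElement

namespace Cfsg.Agent.H92

/-- The p-core is a p-group. -/
theorem pCore_isPGroup {G : Type*} [Group G] (p : ℕ) [Fact p.Prime] :
    IsPGroup p (Cfsg.pCore p G) := 
  Sylow.sSup_of_normal _ (fun _ h => h.2) (fun _ h => h.1)

/-- A 2-subgroup and a finite subgroup of odd order meet trivially. -/
theorem inf_eq_bot_of_two_odd {G : Type*} [Group G] (H K : Subgroup G) [Finite K]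
    (hH : IsPGroup 2 H) (hK : Odd (Nat.card K)) : H ⊓ K = ⊥ := by
  rw [eq_bot_iff]
  intro x hx
  obtain ⟨hxH, hxK⟩ := hx
  obtain ⟨k, hk⟩ := hH ⟨x, hxH⟩
  have h1 : x ^ 2 ^ k = 1 := by simpa [Subtype.ext_iff] using hk
  have h2 : x ^ Nat.card K = 1 := by
    have h2 : (⟨x, hxK⟩ : K) ^ Nat.card K = 1 := pow_card_eq_one'
    have := Subtype.ext_iff.mp h2
    simpa only [Subgroup.coe_pow, Subgroup.coe_one] using this
  have hcop : Nat.Coprime (2 ^ k) (Nat.card K) := by
    apply Nat.Coprime.pow_left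
    exact (Nat.coprime_two_left.mpr hK)
  have : x ^ Nat.gcd (2 ^ k) (Nat.card K) = 1 := by
    rw [pow_gcd_eq_one]
    exact ⟨h1, h2⟩
  rw [hcop] at this
  simpa using this

/-- Membership in the image in `G` of the centre of a subgroup `Q`. -/
theorem mem_centerMap_iff {G : Type*} [Group G] (Q : Subgroup G) (x : G) :
    x ∈ (Subgroup.center ↥Q).map Q.subtype ↔ x ∈ Q ∧ ∀ q ∈ Q, q * x = x * q := by
  constructor
  · rintro ⟨y, hy, rfl⟩
    refine ⟨y.2, fun q hq => ?_⟩
    have := Subgroup.mem_center_iff.mp hy ⟨q, hq⟩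
    exact congrArg Subtype.val this
  · rintro ⟨hx, hc⟩
    refine ⟨⟨x, hx⟩, ?_, rfl⟩
    show (⟨x, hx⟩ : ↥Q) ∈ Subgroup.center ↥Q
    rw [Subgroup.mem_center_iff]
    intro q
    exact Subtype.ext (hc q q.2)

/-- The centre of an extraspecial 2-subgroup `Q` of `G` is `{1, z}` for an involution `z`. -/
theorem extraspecial_center_gen {G : Type*} [Group G] (Q : Subgroup G)
    (hQ : Cfsg.IsExtraspecial 2 ↥Q) :
    ∃ z : G, z ∈ Q ∧ z ≠ 1 ∧ z * z = 1 ∧ (∀ q ∈ Q, q * z = z * q) ∧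
      (∀ x, x ∈ (Subgroup.center ↥Q).map Q.subtype ↔ x = 1 ∨ x = z) := by
  have hcard : Nat.card (Subgroup.center ↥Q) = 2 := hQ.2
  obtain ⟨z, hz, hzu⟩ := (Nat.card_eq_two_iff' (1 : Subgroup.center ↥Q)).mp hcard
  have hzG : ((z : ↥Q) : G) ≠ 1 := by
    intro h
    apply hz
    apply Subtype.ext
    apply Subtype.ext
    simpa using h
  have hmem : ((z : ↥Q) : G) ∈ (Subgroup.center ↥Q).map Q.subtype := ⟨z, z.2, rfl⟩
  have hall : ∀ x, x ∈ (Subgroup.center ↥Q).map Q.subtype ↔ x = 1 ∨ x = ((z : ↥Q) : G) := by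
    intro x
    constructor
    · rintro ⟨y, hy, rfl⟩
      by_cases h1 : (⟨y, hy⟩ : Subgroup.center ↥Q) = 1
      · left
        have := congrArg (fun t : Subgroup.center ↥Q => ((t : ↥Q) : G)) h1
        simpa using this
      · right
        have := hzu ⟨y, hy⟩ h1
        have := congrArg (fun t : Subgroup.center ↥Q => ((t : ↥Q) : G)) this
        simpa using this
    · rintro (rfl | rfl)
      · exact Subgroup.one_mem _
      · exact hmem
  refine ⟨((z : ↥Q) : G), (z : ↥Q).2, hzG, ?_, ((mem_centerMap_iff Q _).mp hmem).2, hall⟩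
  have h2 : ((z : ↥Q) : G) * ((z : ↥Q) : G) ∈ (Subgroup.center ↥Q).map Q.subtype :=
    Subgroup.mul_mem _ hmem hmem
  rcases (hall _).mp h2 with h | h
  · exact h
  · exfalso
    apply hzG
    have := congrArg (fun t => ((z : ↥Q) : G)⁻¹ * t) h
    simpa using this

/-- A nontrivial finite `p`-subgroup has a nontrivial central element. -/
theorem exists_central_ne_one {G : Type*} [Group G] {p : ℕ} [Fact p.Prime] (P : Subgroup G)
    [Finite P] (hP : IsPGroup p P) (hne : P ≠ ⊥) :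
    ∃ c ∈ P, c ≠ 1 ∧ ∀ x ∈ P, x * c = c * x := by
  have : Nontrivial P := (Subgroup.nontrivial_iff_ne_bot P).mpr hne
  have hnt := hP.center_nontrivial
  obtain ⟨c, hc⟩ := exists_ne (1 : Subgroup.center ↥P)
  refine ⟨((c : ↥P) : G), (c : ↥P).2, ?_, ?_⟩
  · intro h
    apply hc
    apply Subtype.ext
    apply Subtype.ext
    simpa using h
  · intro x hx
    have := Subgroup.mem_center_iff.mp c.2 ⟨x, hx⟩
    exact congrArg Subtype.val this

/-- `x` fixes the coset `gH` iff `g⁻¹ x g ∈ H`. -/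
theorem smul_coset_eq_iff {G : Type*} [Group G] (H : Subgroup G) (x g : G) :
    x • (g : G ⧸ H) = (g : G ⧸ H) ↔ g⁻¹ * x * g ∈ H := by
  rw [MulAction.Quotient.smul_mk, QuotientGroup.eq, smul_eq_mul]
  rw [← H.inv_mem_iff]
  simp [mul_assoc]

/-- membership in a conjugate subgroup -/
theorem mem_map_conj_iff {G : Type*} [Group G] (H : Subgroup G) (g x : G) :
    x ∈ H.map (MulAut.conj g).toMonoidHom ↔ g⁻¹ * x * g ∈ H := by
  constructor
  · rintro ⟨y, hy, rfl⟩
    simpa [mul_assoc] using hy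
  · intro h
    exact ⟨g⁻¹ * x * g, h, by simp [mul_assoc]⟩

/-- Conjugation preserves the order of an element. -/
theorem orderOf_conj' {G : Type*} [Group G] (g x : G) : orderOf (g * x * g⁻¹) = orderOf x :=
  orderOf_injective (MulAut.conj g).toMonoidHom (MulAut.conj g).injective x

/-- Sylow: a `p`-subgroup of a finite group is conjugate into any given Sylow `p`-subgroup. -/
theorem conj_le_sylow {K : Type*} [Group K] [Finite K] {p : ℕ} [Fact p.Prime] (P : Sylow p K)
    (T : Subgroup K) (hT : IsPGroup p T) : ∃ u : K, ∀ t ∈ T, u * t * u⁻¹ ∈ P := by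
  obtain ⟨P', hP'⟩ := hT.exists_le_sylow
  obtain ⟨u, hu⟩ := MulAction.exists_smul_eq K P' P
  refine ⟨u, fun t ht => ?_⟩
  have h1 : t ∈ (P' : Subgroup K) := hP' ht
  have h2 : MulAut.conj u • t ∈ MulAut.conj u • (P' : Subgroup K) :=
    Subgroup.smul_mem_pointwise_smul _ _ _ h1
  rw [← Sylow.coe_subgroup_smul, hu] at h2
  have h3 : u * t * u⁻¹ ∈ (P : Subgroup K) := by simpa [MulAut.smul_def] using h2
  exact h3

/-- Sylow: a `p`-element of a finite group is conjugate into any given Sylow `p`-subgroup. -/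
theorem conj_mem_sylow {K : Type*} [Group K] [Finite K] {p : ℕ} [Fact p.Prime] (P : Sylow p K)
    (x : K) (k : ℕ) (hx : orderOf x = p ^ k) : ∃ u : K, u * x * u⁻¹ ∈ P := by
  have hT : IsPGroup p (Subgroup.zpowers x) := by
    apply IsPGroup.of_card (n := k)
    rw [Nat.card_zpowers, hx]
  obtain ⟨u, hu⟩ := conj_le_sylow P _ hT
  exact ⟨u, hu x (Subgroup.mem_zpowers x)⟩

/-- Two `p`-elements of a finite group: after conjugating the first, both lie in a common Sylow
`p`-subgroup. -/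
theorem exists_common_sylow {K : Type*} [Group K] [Finite K] {p : ℕ} [Fact p.Prime]
    (a b : K) (k l : ℕ) (ha : orderOf a = p ^ k) (hb : orderOf b = p ^ l) :
    ∃ (c : K) (T : Sylow p K), c * a * c⁻¹ ∈ T ∧ b ∈ T := by
  have hT : IsPGroup p (Subgroup.zpowers b) := by
    apply IsPGroup.of_card (n := l)
    rw [Nat.card_zpowers, hb]
  obtain ⟨T, hT'⟩ := hT.exists_le_sylow
  obtain ⟨c, hc⟩ := conj_mem_sylow T a k ha
  exact ⟨c, T, hc, hT' (Subgroup.mem_zpowers b)⟩

/-- For involutions `a`, `b`: `a (ab)^(n+2)` is conjugate to `a (ab)^n`. -/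
theorem dihedral_conj_step {G : Type*} [Group G] (a b : G) (ha : a * a = 1) (hb : b * b = 1) (n : ℕ) :
    (a * b)⁻¹ * (a * (a * b) ^ n) * (a * b) = a * (a * b) ^ (n + 2) := by
  have h1 : (a * b)⁻¹ = b * a := by
    rw [inv_eq_iff_mul_eq_one]
    calc a * b * (b * a) = a * (b * b) * a := by simp [mul_assoc]
      _ = 1 := by rw [hb, mul_one, ha]
  rw [h1, pow_succ, pow_succ]
  have h2 : b * a * (a * (a * b) ^ n) = a * (a * b) * (a * b) ^ n := by
    calc b * a * (a * (a * b) ^ n) = b * (a * a) * (a * b) ^ n := by simp [mul_assoc]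
      _ = b * (a * b) ^ n := by rw [ha, mul_one]
      _ = (a * a) * b * (a * b) ^ n := by rw [ha, one_mul]
      _ = a * (a * b) * (a * b) ^ n := by simp [mul_assoc]
  rw [h2]
  have h3 : Commute (a * b) ((a * b) ^ n) := Commute.pow_right (Commute.refl _) n
  calc a * (a * b) * (a * b) ^ n * (a * b) = a * ((a * b) * (a * b) ^ n) * (a * b) := by
        simp [mul_assoc]
    _ = a * ((a * b) ^ n * (a * b)) * (a * b) := by rw [h3.eq]
    _ = a * ((a * b) ^ n * (a * b) * (a * b)) := by simp [mul_assoc]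

/-- For involutions `a`, `b`: `a (ab)^(2j)` is conjugate to `a` and `a (ab)^(2j+1)` to `b`. -/
theorem dihedral_conj {G : Type*} [Group G] (a b : G) (ha : a * a = 1) (hb : b * b = 1) (j : ℕ) :
    IsConj a (a * (a * b) ^ (2 * j)) ∧ IsConj b (a * (a * b) ^ (2 * j + 1)) := by
  induction j with
  | zero =>
    refine ⟨by simpa using IsConj.refl a, ?_⟩
    have : a * (a * b) ^ (2 * 0 + 1) = b := by
      simp only [mul_zero, zero_add, pow_one]
      rw [← mul_assoc, ha, one_mul]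
    rw [this]
  | succ j ih =>
    obtain ⟨h1, h2⟩ := ih
    constructor
    · have e : 2 * (j + 1) = 2 * j + 2 := by ring
      rw [e, ← dihedral_conj_step a b ha hb]
      refine h1.trans ?_
      rw [isConj_iff]
      exact ⟨(a * b)⁻¹, by simp⟩
    · have e : 2 * (j + 1) + 1 = (2 * j + 1) + 2 := by ring
      rw [e, ← dihedral_conj_step a b ha hb]
      refine h2.trans ?_
      rw [isConj_iff]
      exact ⟨(a * b)⁻¹, by simp⟩

/-- An involution normalizing a finite subgroup `K` and having no nontrivial fixed point in `K`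
inverts every element of `K`. -/
theorem inverts_of_fixedPointFree {G : Type*} [Group G] (K : Subgroup G) [Finite K] (t : G)
    (ht : t * t = 1) (hn : ∀ k ∈ K, t * k * t⁻¹ ∈ K) (hfix : ∀ k ∈ K, t * k = k * t → k = 1) :
    ∀ k ∈ K, t * k * t⁻¹ = k⁻¹ := by
  have htinv : t⁻¹ = t := inv_eq_of_mul_eq_one_left ht
  let φ : K → K := fun k => ⟨(k : G)⁻¹ * (t * k * t⁻¹), K.mul_mem (K.inv_mem k.2) (hn k k.2)⟩
  have hinj : Function.Injective φ := by
    intro k l hkl
    have h1 : (k : G)⁻¹ * (t * k * t⁻¹) = (l : G)⁻¹ * (t * l * t⁻¹) := congrArg Subtype.val hkl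
    have h2 : t * ((l : G) * (k : G)⁻¹) = ((l : G) * (k : G)⁻¹) * t := by
      rw [htinv] at h1
      calc t * ((l : G) * (k : G)⁻¹) = (l : G) * ((l : G)⁻¹ * (t * l * t)) * t * (k : G)⁻¹ := by
            simp [mul_assoc, ht]
        _ = (l : G) * ((k : G)⁻¹ * (t * k * t)) * t * (k : G)⁻¹ := by rw [h1]
        _ = ((l : G) * (k : G)⁻¹) * t := by simp [mul_assoc, ht]
    have h3 := hfix _ (K.mul_mem l.2 (K.inv_mem k.2)) h2
    have h4 : (l : G) = k := by
      have := congrArg (fun x => x * (k : G)) h3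
      simpa using this
    exact Subtype.ext h4.symm
  have hsurj : Function.Surjective φ := Finite.surjective_of_injective hinj
  intro k hk
  obtain ⟨l, hl⟩ := hsurj ⟨k, hk⟩
  have hl' : (l : G)⁻¹ * (t * l * t⁻¹) = k := congrArg Subtype.val hl
  rw [← hl', htinv]
  calc t * ((l : G)⁻¹ * (t * l * t)) * t = t * (l : G)⁻¹ * t * l * (t * t) := by
        simp only [mul_assoc]
    _ = t * (l : G)⁻¹ * t * l := by rw [ht, mul_one]
    _ = ((l : G)⁻¹ * (t * l * t))⁻¹ := by simp only [mul_inv_rev, inv_inv, htinv, mul_assoc]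

/-- In an extraspecial 2-subgroup, commutators lie in `{1, z}`. -/
theorem extraspecial_comm {G : Type*} [Group G] (Q : Subgroup G)
    (hQ : Cfsg.IsExtraspecial 2 ↥Q) (z : G)
    (hZ : ∀ x, x ∈ (Subgroup.center ↥Q).map Q.subtype ↔ x = 1 ∨ x = z) :
    ∀ x ∈ Q, ∀ y ∈ Q, x * y * x⁻¹ * y⁻¹ = 1 ∨ x * y * x⁻¹ * y⁻¹ = z := by
  intro x hx y hy
  have hcomm : commutator ↥Q = Subgroup.center ↥Q := hQ.1.2.2
  have h1 : ⁅(⟨x, hx⟩ : ↥Q), (⟨y, hy⟩ : ↥Q)⁆ ∈ commutator ↥Q :=
    Subgroup.commutator_mem_commutator (Subgroup.mem_top _) (Subgroup.mem_top _)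
  rw [hcomm] at h1
  have h2 : x * y * x⁻¹ * y⁻¹ ∈ (Subgroup.center ↥Q).map Q.subtype :=
    ⟨_, h1, by simp [commutatorElement_def]⟩
  exact (hZ _).mp h2

end Cfsg.Agent.H92
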