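import Mathlib
import Cfsg.Prelude.Def_Characters
import Cfsg.Agent.S0867
import Cfsg.Agent.S0154
import Cfsg.Agent.H82.CanonExt
import Cfsg.Agent.H82.CoprimeExt
import Cfsg.Agent.Lib.ItoConv

set_option autoImplicit false
set_option linter.style.haveILetI false
set_option linter.unusedSectionVars false

/-!
# Characters of degree prime to the index of a normal Hall subgroup (helper92)

`card_coprime_deg`: for a normal subgroup `M` of `X` with `(|M|, [X:M]) = 1`, the irreducible
characters of `X` of degree prime to `[X:M]` are the products `β · θ̂` of a linear character `β` of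
`X / M` and an extension `θ̂` of an `X`-invariant `θ ∈ Irr(M)`; so their number is
`|Irr_X(M)| · |Lin(X/M)|`.
-/

open Cfsg

namespace Cfsg.Agent.H92

open Cfsg.Agent.H4 Cfsg.Agent.Clifford Cfsg.Agent.H82
open scoped ComplexConjugate

universe u

variable {X : Type u} [Group X] [Finite X] (M : Subgroup X) [hM : M.Normal]

/-- An invariant irreducible character of a normal Hall subgroup extends. -/
theorem exists_ext_of_hall (hcop : (Nat.card M).Coprime M.index) (θ : IrrCharacter M)
    (hinv : ∀ g : X, conjChar M θ.1 g = θ.1) :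
    ∃ χ : X → ℂ, IsIrrCharacter X χ ∧ ∀ n : M, χ n = θ.1 n := by
  have hinv' : ∀ (g : X) (n : M), θ.1 ⟨g * n * g⁻¹, hM.conj_mem (n : X) n.2 g⟩ = θ.1 n :=
    fun g n => congrFun (hinv g) n
  have hd := irr_one_eq_charDegree θ
  have hc : Nat.Coprime M.index (detOrder θ.1 * charDegree θ.1) := by
    apply Nat.Coprime.mul_right
    · exact (Nat.Coprime.coprime_dvd_left (detOrder_dvd_card θ.1) hcop).symm
    · exact (Nat.Coprime.coprime_dvd_left (charDegree_dvd_card θ) hcop).symm
  obtain ⟨χ, ⟨hχ, hext, -⟩, -⟩ :=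
    Cfsg.Agent.S0867.result M θ.1 θ.2 hinv' (charDegree θ.1) hd hc
  exact ⟨χ, hχ, hext⟩

theorem classInner_one_const {A : Type*} [Group A] [Fintype A] (c : ℂ) :
    classInner (1 : A → ℂ) (fun _ => c) = conj c := by
  unfold classInner
  have hA : (Nat.card A : ℂ) ≠ 0 := by exact_mod_cast (Nat.card_pos (α := A)).ne'
  simp only [Pi.one_apply, one_mul, Finset.sum_const, Finset.card_univ, nsmul_eq_mul]
  rw [← Nat.card_eq_fintype_card, ← mul_assoc, inv_mul_cancel₀ hA, one_mul]

/-- The irreducible characters of `X` of degree prime to the index of the normal Hall subgroup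
`M`. -/
theorem card_coprime_deg (hcop : (Nat.card M).Coprime M.index) :
    Nat.card {χ : IrrCharacter X // (charDegree χ.1).Coprime M.index} =
      Nat.card {θ : IrrCharacter M // ∀ g : X, conjChar M θ.1 g = θ.1} *
      Nat.card {β : IrrCharacter (X ⧸ M) // charDegree β.1 = 1} := by
  classical
  haveI : Fintype X := Fintype.ofFinite X
  haveI : Fintype M := Fintype.ofFinite M
  rw [← Nat.card_prod]
  symm
  choose ext hext_irr hext using
    fun θ : {θ : IrrCharacter M // ∀ g : X, conjChar M θ.1 g = θ.1} =>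
      exists_ext_of_hall M hcop θ.1 θ.2
  have hG := fun θ : {θ : IrrCharacter M // ∀ g : X, conjChar M θ.1 g = θ.1} =>
    gallagher M (isIrrCharacter_one M) θ.1.2 (fun g => rfl) θ.2
      (by rw [one_mul]; exact θ.1.2) (isCharacter_of_isIrrCharacter (hext_irr θ)) (hext θ)
  have hcf : ∀ χ : IrrCharacter X, IsClassFunction X χ.1 := fun χ =>
    isClassFunction_of_isCharacter (isCharacter_of_isIrrCharacter χ.2)
  -- inflated characters lie over the trivial character
  have hover : ∀ β : IrrCharacter (X ⧸ M),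
      classInner (indFun M (1 : M → ℂ)) (inflate M β).1 ≠ 0 := by
    intro β
    rw [frobenius_reciprocity M 1 _ (hcf _)]
    have : (fun h : M => (inflate M β).1 h) = fun _ => (inflate M β).1 1 := by
      funext h
      exact inflate_mem M β h h.2
    rw [this, classInner_one_const]
    exact (map_ne_zero _).mpr (H82.irr_one_ne_zero _)
  have hlin1 : ∀ β : {β : IrrCharacter (X ⧸ M) // charDegree β.1 = 1}, β.1.1 1 = 1 := by
    intro β
    rw [irr_one_eq_charDegree, β.2]
    simp
  have hinfl : ∀ (β : {β : IrrCharacter (X ⧸ M) // charDegree β.1 = 1}) (n : M),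
      (inflate M β.1).1 n = 1 := by
    intro β n
    rw [inflate_mem M β.1 n n.2, inflate_apply, QuotientGroup.mk_one]
    exact hlin1 β
  have hdegθ : ∀ θ : IrrCharacter M, (charDegree θ.1).Coprime M.index := fun θ =>
    Nat.Coprime.coprime_dvd_left (charDegree_dvd_card θ) hcop
  have hext1 : ∀ θ : {θ : IrrCharacter M // ∀ g : X, conjChar M θ.1 g = θ.1},
      ext θ 1 = θ.1.1 1 := fun θ => hext θ 1
  let Ψ : {θ : IrrCharacter M // ∀ g : X, conjChar M θ.1 g = θ.1} ×
      {β : IrrCharacter (X ⧸ M) // charDegree β.1 = 1} →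
      {χ : IrrCharacter X // (charDegree χ.1).Coprime M.index} := fun q =>
    ⟨⟨(inflate M q.2.1).1 * ext q.1, ((hG q.1).1 _ (inflate M q.2.1).2 (hover q.2.1)).1⟩, by
      have h1 : ((inflate M q.2.1).1 * ext q.1) 1 = q.1.1.1 1 := by
        rw [Pi.mul_apply, hext1, inflate_apply, QuotientGroup.mk_one, hlin1, one_mul]
      show (charDegree ((inflate M q.2.1).1 * ext q.1)).Coprime M.index
      rw [charDegree_eq_of_one_eq h1]
      exact hdegθ q.1.1⟩
  have hΨ : ∀ q, ((Ψ q).1.1 : X → ℂ) = (inflate M q.2.1).1 * ext q.1 := fun q => rfl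
  have hinj : Function.Injective Ψ := by
    rintro ⟨θ₁, β₁⟩ ⟨θ₂, β₂⟩ h
    have h1 : (inflate M β₁.1).1 * ext θ₁ = (inflate M β₂.1).1 * ext θ₂ := by
      have := congrArg (fun χ => (χ.1.1 : X → ℂ)) h
      simpa only [hΨ] using this
    have hθ : θ₁ = θ₂ := by
      apply Subtype.ext
      apply Subtype.ext
      funext n
      have h2 := congrFun h1 (n : X)
      rw [Pi.mul_apply, Pi.mul_apply, hinfl, hinfl, one_mul, one_mul, hext, hext] at h2
      exact h2
    subst hθ
    have h3 := (hG θ₁).2.1 _ _ (inflate M β₁.1).2 (hover β₁.1) (inflate M β₂.1).2 (hover β₂.1) h1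
    have h4 : β₁ = β₂ := Subtype.ext (inflate_injective M (Subtype.ext h3))
    rw [h4]
  have hsurj : Function.Surjective Ψ := by
    rintro ⟨χ, hχ⟩
    obtain ⟨θ, hθ, hθχ⟩ := exists_constituent_res' M χ.2
    obtain ⟨f, hf⟩ := Cfsg.Agent.ItoConv.degree_over M ⟨θ, hθ⟩ χ hθχ
    have hθcf : IsClassFunction M θ := isClassFunction_of_isCharacter (isCharacter_of_isIrrCharacter hθ)
    have hidx : (Clifford.inertia M θ).index ∣ M.index := Subgroup.index_dvd_of_le (Clifford.le_inertia M hθcf)
    have hidx1 : (Clifford.inertia M θ).index = 1 := by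
      refine Nat.eq_one_of_dvd_coprimes hχ ?_ hidx
      rw [hf, mul_assoc]
      exact Dvd.intro _ rfl
    have htop : Clifford.inertia M θ = ⊤ := Subgroup.index_eq_one.mp hidx1
    have hinvθ : ∀ g : X, conjChar M θ g = θ := fun g =>
      (Clifford.mem_inertia M).mp (htop ▸ Subgroup.mem_top g)
    let θ' : {θ : IrrCharacter M // ∀ g : X, conjChar M θ.1 g = θ.1} := ⟨⟨θ, hθ⟩, hinvθ⟩
    have h3 : classInner (indFun M ((1 : M → ℂ) * θ)) χ.1 ≠ 0 := by
      rw [one_mul, frobenius_reciprocity M θ χ.1 (hcf χ), ← classInner_conj_symm]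
      exact (map_ne_zero _).mpr hθχ
    obtain ⟨β, hβ, hβ1, hβχ⟩ := (hG θ').2.2 χ.1 χ.2 h3
    have hβ1' : classInner (fun n : M => β n) (1 : M → ℂ) ≠ 0 := by
      rw [frobenius_reciprocity M 1 β (hcf ⟨β, hβ⟩), ← classInner_conj_symm] at hβ1
      exact (map_ne_zero _).mp hβ1
    have hconst := const_of_over_one M hβ hβ1'
    obtain ⟨βq, hβq⟩ := exists_deflate M ⟨β, hβ⟩ (fun x hx => hconst ⟨x, hx⟩)
    have hβq' : (inflate M βq).1 = β := congrArg Subtype.val hβq
    have hdegχ : charDegree χ.1 = charDegree βq.1 * charDegree θ := by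
      have e1 : χ.1 1 = βq.1 1 * θ 1 := by
        rw [← hβχ, Pi.mul_apply, ← hβq', inflate_apply, QuotientGroup.mk_one]
        congr 1
        exact hext1 θ'
      have e2 : ((charDegree χ.1 : ℕ) : ℂ) = ((charDegree βq.1 * charDegree θ : ℕ) : ℂ) := by
        have e3 : θ 1 = (charDegree θ : ℂ) := irr_one_eq_charDegree ⟨θ, hθ⟩
        rw [← irr_one_eq_charDegree χ, e1, irr_one_eq_charDegree βq, e3]
        push_cast
        rfl
      exact_mod_cast e2
    have hβq1 : charDegree βq.1 = 1 := by
      refine Nat.eq_one_of_dvd_coprimes hχ (by rw [hdegχ]; exact Dvd.intro _ rfl) ?_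
      rw [Subgroup.index_eq_card]
      exact charDegree_dvd_card βq
    refine ⟨(θ', ⟨βq, hβq1⟩), ?_⟩
    apply Subtype.ext
    apply Subtype.ext
    show (inflate M βq).1 * ext θ' = χ.1
    rw [hβq']
    exact hβχ
  exact Nat.card_congr (Equiv.ofBijective Ψ ⟨hinj, hsurj⟩)

end Cfsg.Agent.H92
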