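import Mathlib
import Cfsg.Prelude.Def_Characters
import Cfsg.Agent.H92.CoprimeCount
import Cfsg.Agent.H92.CoprimeDeg

set_option autoImplicit false
set_option linter.style.haveILetI false
set_option linter.unusedSectionVars false

/-!
# Characters of degree prime to `|H|` in `G = K ⋊ H` and in `N_G(H)` (helper92)

* `count_class_eq` : the number of `S`-invariant classes of `G` is the class number of `C_G(S)`
  (`S` solvable, coprime action).
* `card_coprime_deg_compl` : for `X = M ⋊ H` with `(|M|, |H|) = 1`, the number of irreducible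
  characters of degree prime to `|H|` is `|Irr_X(M)| · |Lin(H)|`.
* `card_coprime_deg_normalizer` : `G = K H`, `K ⊴ G`, `(|K|, |H|) = 1`, `H` solvable: `G` and
  `N_G(H)` have equally many irreducible characters of degree prime to `|H|`.
-/

open Cfsg

namespace Cfsg.Agent.H92

open Subgroup Cfsg.Agent.H4

section ClassCount

variable {Γ : Type*} [Group Γ]

/-- The number of `S`-invariant classes of `G` is the class number of `C_G(S)`. -/
theorem count_class_eq [Finite Γ] (S : Subgroup Γ) (hsolv : Group.IsSolvable S) :
    ∀ (n : ℕ) (G : Subgroup Γ), Nat.card G ≤ n → Norms S G →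
      (Nat.card G).Coprime (Nat.card S) →
      Nat.card {K : ConjClasses G // InvClass S G K} =
        Nat.card (ConjClasses ↥(G ⊓ Subgroup.centralizer (S : Set Γ))) := by
  classical
  intro n
  induction n with
  | zero =>
    intro G hG
    exact absurd hG (by have := Nat.card_pos (α := ↥G); omega)
  | succ n ih =>
    intro G hGn hnG hcop
    by_cases hc : S ≤ Subgroup.centralizer (G : Set Γ)
    · have hfix : ∀ s ∈ S, ∀ g g' : ↥G, (g' : Γ) = s * g * s⁻¹ → g' = g := by
        intro s hs g g' hg'
        apply Subtype.ext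
        have h1 : (g : Γ) * s = s * g := Subgroup.mem_centralizer_iff.mp (hc hs) g g.2
        rw [hg', ← h1, mul_inv_cancel_right]
      have h2 : ∀ K : ConjClasses G, InvClass S G K := by
        intro K s hs g g' hg' hK
        rw [hfix s hs g g' hg']
        exact hK
      have hG : G ⊓ Subgroup.centralizer (S : Set Γ) = G :=
        inf_eq_left.mpr (Subgroup.le_centralizer_iff.mp hc)
      rw [Nat.card_congr (Equiv.subtypeUnivEquiv h2), hG]
    · obtain ⟨p, P, hp, hP, hPS, hPZ, hP3⟩ := exists_pgroup_acting S G hsolv hc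
      haveI : Fact p.Prime := ⟨hp⟩
      set G₁ : Subgroup Γ := G ⊓ Subgroup.centralizer (P : Set Γ) with hG₁
      have hle : G₁ ≤ G := inf_le_left
      have hnG₁ : Norms S G₁ := norms_fixed hnG hP3
      have hcopP : (Nat.card G).Coprime (Nat.card P) :=
        Nat.Coprime.coprime_dvd_right (Subgroup.card_dvd_of_le hPS) hcop
      have hpG : ¬ p ∣ Nat.card G := by
        intro hdvd
        have hPnt : P ≠ ⊥ := by
          rintro rfl
          exact hPZ bot_le
        have hpP : p ∣ Nat.card P := by
          obtain ⟨k, hk⟩ := (IsPGroup.iff_card.mp hP)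
          have hk0 : k ≠ 0 := by
            rintro rfl
            rw [pow_zero] at hk
            exact hPnt (Subgroup.card_eq_one.mp hk)
          rw [hk]
          exact dvd_pow_self p hk0
        exact hp.one_lt.ne' (Nat.eq_one_of_dvd_coprimes hcopP hdvd hpP)
      have hlt : Nat.card G₁ < Nat.card G := by
        refine lt_of_le_of_ne (Subgroup.card_le_of_le hle) fun hcard => hPZ ?_
        have heq : G₁ = G := Subgroup.eq_of_le_of_card_ge hle hcard.ge
        intro t ht
        rw [Subgroup.mem_centralizer_iff]
        intro g hg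
        have h1 : g ∈ G₁ := heq ▸ hg
        exact (Subgroup.mem_centralizer_iff.mp h1.2 t ht).symm
      have hstep2 := class_step S P G G₁ p hP hPS hnG hnG₁ hpG hG₁
      have hih := ih G₁ (by omega) hnG₁
        (Nat.Coprime.coprime_dvd_left (Subgroup.card_dvd_of_le hle) hcop)
      have e : G₁ ⊓ Subgroup.centralizer (S : Set Γ) = G ⊓ Subgroup.centralizer (S : Set Γ) := by
        rw [hG₁, inf_assoc,
          inf_eq_right.mpr (Subgroup.centralizer_le (by exact_mod_cast hPS))]
      rw [← hstep2, hih, e]

end ClassCount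

section Transport

/-- Transport of irreducible characters along an isomorphism. -/
noncomputable def irrCongr {A B : Type*} [Group A] [Group B] (e : A ≃* B) :
    IrrCharacter B ≃ IrrCharacter A where
  toFun β := ⟨fun a => β.1 (e a), Cfsg.Agent.Clifford.isIrrCharacter_comp_equiv e β.2⟩
  invFun α := ⟨fun b => α.1 (e.symm b), Cfsg.Agent.Clifford.isIrrCharacter_comp_equiv e.symm α.2⟩
  left_inv β := Subtype.ext (funext fun b => by simp)
  right_inv α := Subtype.ext (funext fun a => by simp)

theorem card_linear_congr {A B : Type*} [Group A] [Group B] (e : A ≃* B) :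
    Nat.card {β : IrrCharacter A // charDegree β.1 = 1} =
      Nat.card {β : IrrCharacter B // charDegree β.1 = 1} := by
  refine Nat.card_congr ((irrCongr e).symm.subtypeEquiv fun β => ?_)
  have h : ((irrCongr e).symm β).1 1 = β.1 1 := by
    show β.1 (e.symm 1) = β.1 1
    rw [map_one]
  rw [Cfsg.Agent.H82.charDegree_eq_of_one_eq h]

end Transport

section Hall

open Cfsg.Agent.Clifford

variable {X : Type*} [Group X] [Finite X]

/-- `X = M ⋊ H` with `(|M|, |H|) = 1`: the irreducible characters of degree prime to `|H|`. -/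
theorem card_coprime_deg_compl (M H : Subgroup X) [M.Normal] (hc : H.IsComplement' M)
    (hcop : (Nat.card M).Coprime (Nat.card H)) :
    Nat.card {χ : IrrCharacter X // (charDegree χ.1).Coprime (Nat.card H)} =
      Nat.card {θ : IrrCharacter M // ∀ g : X, conjChar M θ.1 g = θ.1} *
      Nat.card {β : IrrCharacter H // charDegree β.1 = 1} := by
  have hidx : M.index = Nat.card H := hc.index_eq_card
  have h := card_coprime_deg M (by rw [hidx]; exact hcop)
  rw [hidx] at h
  rw [h, card_linear_congr hc.QuotientMulEquiv]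

theorem isComplement'_of_sup_eq_top (K H : Subgroup X) [K.Normal] (hKH : K ⊔ H = ⊤)
    (hcop : (Nat.card K).Coprime (Nat.card H)) : H.IsComplement' K := by
  apply isComplement'_of_disjoint_and_mul_eq_univ
  · exact Subgroup.disjoint_of_coprime_natCard hcop.symm
  · rw [← Subgroup.mul_normal H K, sup_comm, hKH]
    rfl

end Hall

section Normalizer

open Cfsg.Agent.Clifford

variable {G : Type*} [Group G] [Finite G]

/-- `G = K H`, `K ⊴ G`, `(|K|, |H|) = 1`, `H` solvable: `G` and `N_G(H)` have equally many
irreducible characters of degree prime to `|H|`. -/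
theorem card_coprime_deg_normalizer (hGl : GlaubP G) (K H : Subgroup G) [hK : K.Normal]
    (hKH : K ⊔ H = ⊤) (hcop : (Nat.card K).Coprime (Nat.card H)) (hsolv : Group.IsSolvable H) :
    Nat.card {χ : IrrCharacter G // (charDegree χ.1).Coprime (Nat.card H)} =
      Nat.card {η : IrrCharacter (Subgroup.normalizer (H : Set G)) //
        (charDegree η.1).Coprime (Nat.card H)} := by
  classical
  set N : Subgroup G := Subgroup.normalizer (H : Set G) with hN
  have hHN : H ≤ N := Subgroup.le_normalizer
  have hcompl : H.IsComplement' K := isComplement'_of_sup_eq_top K H hKH hcop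
  have hdisj : Disjoint H K := hcompl.disjoint
  -- elements of `K ∩ N_G(H)` centralise `H`
  have hcomm : ∀ c ∈ K, c ∈ N → ∀ h ∈ H, h * c = c * h := by
    intro c hcK hcN h hh
    have h1 : c * h * c⁻¹ ∈ H := (Subgroup.mem_set_normalizer_iff.mp hcN h).mp hh
    have h2 : c * h * c⁻¹ * h⁻¹ ∈ H := H.mul_mem h1 (H.inv_mem hh)
    have h3 : c * h * c⁻¹ * h⁻¹ ∈ K := by
      have : c * h * c⁻¹ * h⁻¹ = c * (h * c⁻¹ * h⁻¹) := by group
      rw [this]
      exact K.mul_mem hcK (hK.conj_mem c⁻¹ (K.inv_mem hcK) h)
    have h4 : c * h * c⁻¹ * h⁻¹ = 1 := Subgroup.disjoint_def.mp hdisj h2 h3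
    have h5 : c * h * c⁻¹ = h := mul_inv_eq_one.mp h4
    calc h * c = c * h * c⁻¹ * c := by rw [h5]
      _ = c * h := by group
  -- the left side
  have hL := card_coprime_deg_compl K H hcompl hcop
  have hnK : Norms H K := fun s _ k hk => hK.conj_mem k hk s
  have e1 : Nat.card {θ : IrrCharacter K // ∀ g : G, conjChar K θ.1 g = θ.1} =
      Nat.card {θ : IrrCharacter K // InvChar H K (θ : K → ℂ)} := by
    refine Nat.card_congr (Equiv.subtypeEquivRight fun θ => ?_)
    constructor
    · intro h s hs g g' hg'
      have h1 := congrFun (h s) g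
      rw [conjChar_apply] at h1
      rw [← h1]
      exact congrArg θ.1 (Subtype.ext hg')
    · intro h g
      have hH : H ≤ Clifford.inertia K θ.1 := by
        intro s hs
        rw [Clifford.mem_inertia]
        funext k
        rw [conjChar_apply]
        exact h s hs k _ rfl
      have hK' : K ≤ Clifford.inertia K θ.1 := Clifford.le_inertia K
        (isClassFunction_of_isCharacter (isCharacter_of_isIrrCharacter θ.2))
      have htop : Clifford.inertia K θ.1 = ⊤ := top_le_iff.mp (hKH ▸ sup_le hK' hH)
      exact (Clifford.mem_inertia K).mp (htop ▸ Subgroup.mem_top g)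
  have e2 := count_inv_eq hGl H hsolv (Nat.card K) K le_rfl hnK hcop
  have e3 := count_class_eq H hsolv (Nat.card K) K le_rfl hnK hcop
  -- the right side
  set C : Subgroup ↥N := K.subgroupOf N with hC
  set H' : Subgroup ↥N := H.subgroupOf N with hH'
  have hcardH' : Nat.card H' = Nat.card H :=
    Nat.card_congr (Subgroup.subgroupOfEquivOfLe hHN).toEquiv
  have hcardC : Nat.card C ∣ Nat.card K := by
    let f : ↥C →* ↥K := (N.subtype.comp C.subtype).codRestrict K
      (fun c => Subgroup.mem_subgroupOf.mp c.2)
    have hf : Function.Injective f := by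
      intro a b hab
      have := congrArg (fun k : ↥K => (k : G)) hab
      exact Subtype.ext (Subtype.ext this)
    exact Subgroup.card_dvd_of_injective f hf
  have hcopC : (Nat.card C).Coprime (Nat.card H') := by
    rw [hcardH']
    exact Nat.Coprime.coprime_dvd_left hcardC hcop
  have hcomplN : H'.IsComplement' C := by
    apply isComplement'_of_disjoint_and_mul_eq_univ
    · exact Subgroup.disjoint_of_coprime_natCard hcopC.symm
    · rw [Set.eq_univ_iff_forall]
      intro n
      obtain ⟨⟨h, k⟩, hhk⟩ := hcompl.2 (n : G)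
      have hhk' : (h : G) * (k : G) = n := hhk
      have hkN : (k : G) ∈ N := by
        have : (k : G) = (h : G)⁻¹ * n := by rw [← hhk']; group
        rw [this]
        exact N.mul_mem (N.inv_mem (hHN h.2)) n.2
      refine ⟨⟨h, hHN h.2⟩, Subgroup.mem_subgroupOf.mpr h.2, ⟨k, hkN⟩,
        Subgroup.mem_subgroupOf.mpr k.2, ?_⟩
      exact Subtype.ext hhk'
  have hR := card_coprime_deg_compl C H' hcomplN hcopC
  rw [hcardH'] at hR
  have e4 : Nat.card {θ : IrrCharacter C // ∀ n : ↥N, conjChar C θ.1 n = θ.1} =
      Nat.card (IrrCharacter C) := by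
    refine Nat.card_congr (Equiv.subtypeUnivEquiv fun θ n => ?_)
    have hH'' : H' ≤ Clifford.inertia C θ.1 := by
      intro s hs
      rw [Clifford.mem_inertia]
      funext c
      rw [conjChar_apply]
      refine congrArg θ.1 (Subtype.ext (Subtype.ext ?_))
      show ((s : ↥N) : G) * ((c : ↥N) : G) * ((s : ↥N) : G)⁻¹ = ((c : ↥N) : G)
      have h1 := hcomm ((c : ↥N) : G) (Subgroup.mem_subgroupOf.mp c.2) (c : ↥N).2 (s : G)
        (Subgroup.mem_subgroupOf.mp hs)
      rw [h1]
      group
    have hC' : C ≤ Clifford.inertia C θ.1 := Clifford.le_inertia C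
      (isClassFunction_of_isCharacter (isCharacter_of_isIrrCharacter θ.2))
    have htop : Clifford.inertia C θ.1 = ⊤ :=
      top_le_iff.mp (hcomplN.sup_eq_top ▸ sup_le hH'' hC')
    exact (Clifford.mem_inertia C).mp (htop ▸ Subgroup.mem_top n)
  let eC : ↥C ≃* ↥(K ⊓ Subgroup.centralizer (H : Set G)) :=
    { toFun := fun c => ⟨((c : ↥N) : G), ⟨Subgroup.mem_subgroupOf.mp c.2, by
          show ((c : ↥N) : G) ∈ Subgroup.centralizer (H : Set G)
          rw [Subgroup.mem_centralizer_iff]
          intro h hh
          exact hcomm _ (Subgroup.mem_subgroupOf.mp c.2) (c : ↥N).2 h hh⟩⟩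
      invFun := fun x => ⟨⟨(x : G), Subgroup.centralizer_le_normalizer (H : Set G) x.2.2⟩,
        Subgroup.mem_subgroupOf.mpr x.2.1⟩
      left_inv := fun c => rfl
      right_inv := fun x => rfl
      map_mul' := fun a b => rfl }
  have e5 : Nat.card (IrrCharacter C) =
      Nat.card (IrrCharacter ↥(K ⊓ Subgroup.centralizer (H : Set G))) :=
    Nat.card_congr (irrCongr eC).symm
  have e6 := card_irr_eq_card_conjClasses (G := ↥(K ⊓ Subgroup.centralizer (H : Set G)))
  have e7 := card_linear_congr (Subgroup.subgroupOfEquivOfLe hHN)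
  rw [hL, hR, e1, e2, e3, e4, e5, e6, e7]

end Normalizer

end Cfsg.Agent.H92
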