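import Mathlib
import Cfsg.Prelude.Def_Characters
import Cfsg.Agent.H92.CoprimeHall
import Cfsg.Agent.H4.GlaubP
import Cfsg.Agent.H4.TwoTrans
import Cfsg.Agent.H82.Codeg
import Cfsg.Agent.H82.Perfect
import Cfsg.Agent.H92.Basic
import Cfsg.Agent.Lib.ThompsonDeg
import Cfsg.Agent.Lib.Helper96.DadeExt

set_option autoImplicit false
set_option linter.style.haveILetI false
set_option linter.unusedSectionVars false

/-!
# The kernel of the characters of degree prime to `p` (helper92)

General lemmas: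
* `constituent_ker` : a constituent of a character `A` is trivial where `A` is.
* `exists_ppdeg_constituent` : a character of degree prime to `p` has an irreducible constituent
  of degree prime to `p` (after restriction along a homomorphism).
* `exists_pinv_constituent` : for `χ` of degree prime to `p` and `M ⊴ G`, the restriction `χ_M` has
  a `P`-invariant irreducible constituent (`P` a `p`-subgroup).
* `coprime_of_fixed_trivial` : a normal subgroup with `C_N(P) = 1` (`P` a `p`-group) has order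
  prime to `p`.
-/

open Cfsg

namespace Cfsg.Agent.H92

open Subgroup Cfsg.Agent.H4 Cfsg.Agent.Clifford Cfsg.Agent.H82
open scoped commutatorElement

universe u v

section General

variable {G : Type u} [Group G] [Fintype G]

/-- The value of a character is bounded by its degree. -/
theorem isCharacter_norm_le {A : G → ℂ} (hA : IsCharacter G A) (x : G) :
    ∃ n : ℕ, A 1 = n ∧ ‖A x‖ ≤ n := by
  obtain ⟨n, ρ, rfl⟩ := hA
  refine ⟨Module.finrank ℂ (Fin n → ℂ), Representation.char_one ρ, ?_⟩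
  exact Cfsg.Agent.H4.character_norm_le ρ x

/-- An irreducible constituent `χ` of a character `A` satisfies `χ x = χ 1` whenever
`A x = A 1`. -/
theorem constituent_ker {A : G → ℂ} (hA : IsCharacter G A) (χ : IrrCharacter G)
    (h : classInner A χ.1 ≠ 0) (x : G) (hx : A x = A 1) : χ.1 x = χ.1 1 := by
  classical
  have hB : IsCharacter G (A - χ.1) := isCharacter_sub_irr hA χ h
  obtain ⟨n, hn1, hnx⟩ := isCharacter_norm_le hB x
  obtain ⟨m, hm1, hmx⟩ := isCharacter_norm_le (isCharacter_of_isIrrCharacter χ.2) x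
  have e1 : χ.1 x + (A - χ.1) x = (m : ℂ) + n := by
    rw [← hm1, ← hn1, Pi.sub_apply, Pi.sub_apply, hx]
    ring
  have r1 : (χ.1 x).re ≤ m := le_trans (Complex.re_le_norm _) hmx
  have r2 : ((A - χ.1) x).re ≤ n := le_trans (Complex.re_le_norm _) hnx
  have r3 : (χ.1 x).re + ((A - χ.1) x).re = (m : ℝ) + n := by
    have := congrArg Complex.re e1
    simpa using this
  have r4 : (χ.1 x).re = m := by linarith
  have r5 : (χ.1 x).im = 0 := by
    have h1 : ‖χ.1 x‖ ^ 2 ≤ (m : ℝ) ^ 2 := by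
      have h0 : (0 : ℝ) ≤ ‖χ.1 x‖ := norm_nonneg _
      nlinarith
    rw [Complex.sq_norm, Complex.normSq_apply, r4] at h1
    nlinarith [sq_nonneg (χ.1 x).im]
  rw [hm1]
  apply Complex.ext
  · simpa using r4
  · simpa using r5

/-- Restricting a character whose degree is prime to `p` along a homomorphism gives some
irreducible constituent of degree prime to `p`. -/
theorem exists_ppdeg_constituent {C : Type v} [Group C] [Fintype C] (ι : C →* G) {A : G → ℂ}
    (hA : IsCharacter G A) (p d : ℕ) (hd : A 1 = d) (hpd : ¬ p ∣ d) :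
    ∃ β : IrrCharacter C, classInner (fun c => A (ι c)) β.1 ≠ 0 ∧ ¬ p ∣ charDegree β.1 := by
  classical
  letI := fintypeIrr C
  by_contra hcon
  push Not at hcon
  choose a ha using fun β : IrrCharacter C => classInner_isCharacter_nat
    (isCharacter_comp ι hA) (isCharacter_of_isIrrCharacter β.2)
  have h1 := res_eq_sum ι hA (1 : C)
  rw [map_one, hd] at h1
  have h2 : d = ∑ β : IrrCharacter C, a β * charDegree β.1 := by
    have : (d : ℂ) = ((∑ β : IrrCharacter C, a β * charDegree β.1 : ℕ) : ℂ) := by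
      rw [h1]
      push_cast
      refine Finset.sum_congr rfl fun β _ => by rw [ha β, irr_one_eq_charDegree β]
    exact_mod_cast this
  apply hpd
  rw [h2]
  refine Finset.dvd_sum fun β _ => ?_
  by_cases h0 : a β = 0
  · rw [h0, zero_mul]; exact dvd_zero p
  · refine Dvd.dvd.mul_left (hcon β ?_) _
    rw [ha β]
    exact_mod_cast h0

/-- `constituent_ker` for a restriction along a homomorphism. -/
theorem constituent_ker_hom {C : Type v} [Group C] [Fintype C] (ι : C →* G) {A : G → ℂ}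
    (hA : IsCharacter G A) (β : IrrCharacter C) (h : classInner (fun c => A (ι c)) β.1 ≠ 0)
    (x : C) (hx : A (ι x) = A 1) : β.1 x = β.1 1 := by
  refine constituent_ker (isCharacter_comp ι hA) β h x ?_
  show A (ι x) = A (ι 1)
  rw [hx, map_one]

/-- For `χ` of degree prime to `p` and `M ⊴ G`, the restriction `χ_M` has a `P`-invariant
irreducible constituent. -/
theorem exists_pinv_constituent {p : ℕ} [Fact p.Prime] (P : Subgroup G) (hP : IsPGroup p P)
    (M : Subgroup G) [M.Normal] [Fintype M] (χ : IrrCharacter G) (hχ : ¬ p ∣ charDegree χ.1) :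
    ∃ θ : IrrCharacter M, classInner (fun m : M => χ.1 m) θ.1 ≠ 0 ∧
      ∀ x ∈ P, conjChar M θ.1 x = θ.1 := by
  classical
  obtain ⟨θ₀, hθ₀, h0⟩ := exists_constituent_res' M χ.2
  obtain ⟨f, hf⟩ := Cfsg.Agent.ItoConv.degree_over M ⟨θ₀, hθ₀⟩ χ h0
  set I : Subgroup G := Clifford.inertia M θ₀ with hI
  have hpI : ¬ p ∣ Nat.card (G ⧸ I) := by
    rw [← Subgroup.index_eq_card]
    intro hdvd
    apply hχ
    rw [hf, mul_assoc]
    exact Dvd.dvd.mul_right hdvd _
  obtain ⟨q, hq⟩ := hP.nonempty_fixed_point_of_prime_not_dvd_card (G ⧸ I) hpI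
  obtain ⟨g, rfl⟩ := QuotientGroup.mk_surjective q
  have hmem : ∀ x ∈ P, g⁻¹ * x * g ∈ I := by
    intro x hx
    have h1 := hq ⟨x⁻¹, P.inv_mem hx⟩
    have h2 : ((x⁻¹ * g : G) : G ⧸ I) = (g : G ⧸ I) := h1
    have h3 := QuotientGroup.eq.mp h2
    have h4 : (x⁻¹ * g)⁻¹ * g = g⁻¹ * x * g := by group
    rwa [h4] at h3
  refine ⟨⟨conjChar M θ₀ g⁻¹, isIrrCharacter_conjChar M hθ₀ g⁻¹⟩, ?_, ?_⟩
  · show classInner (fun m : M => χ.1 m) (conjChar M θ₀ g⁻¹) ≠ 0
    rw [classInner_res_conjChar M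
      (isClassFunction_of_isCharacter (isCharacter_of_isIrrCharacter χ.2)) θ₀ g⁻¹]
    exact h0
  · intro x hx
    show conjChar M (conjChar M θ₀ g⁻¹) x = conjChar M θ₀ g⁻¹
    have h1 : g⁻¹ * x = (g⁻¹ * x * g) * g⁻¹ := by group
    rw [conjChar_conjChar, h1, ← conjChar_conjChar,
      (Clifford.mem_inertia M).mp (hmem x hx)]

end General

section Fin

variable {G : Type u} [Group G] [Finite G]

/-- An element whose order is prime to the index of a normal subgroup lies in it. -/
theorem mem_of_coprime_index (K : Subgroup G) [K.Normal] (y : G)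
    (h : (orderOf y).Coprime K.index) : y ∈ K := by
  obtain ⟨m, hm⟩ := exists_pow_eq_self_of_coprime h.symm
  rw [← hm]
  exact K.pow_mem (Subgroup.pow_index_mem K y) m

/-- A normal subgroup `N` with `C_N(P) = 1` for a `p`-subgroup `P` has order prime to `p`. -/
theorem coprime_of_fixed_trivial {p : ℕ} [Fact p.Prime] (P : Subgroup G) (hP : IsPGroup p P)
    (N : Subgroup G) [hN : N.Normal]
    (h : N ⊓ Subgroup.centralizer (P : Set G) = ⊥) : (Nat.card N).Coprime p := by
  have hnorm : ∀ s ∈ P, ∀ g ∈ N, s * g * s⁻¹ ∈ N := fun s _ g hg => hN.conj_mem g hg s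
  letI := conjAct N P hnorm
  have h1 := hP.card_modEq_card_fixedPoints ↥N
  have h2 : Nat.card (MulAction.fixedPoints ↥P ↥N) = 1 := by
    rw [Nat.card_eq_one_iff_unique]
    refine ⟨⟨fun a b => ?_⟩, ⟨⟨1, fun s => smul_one s⟩⟩⟩
    have key : ∀ c : MulAction.fixedPoints ↥P ↥N, c = ⟨1, fun s => smul_one s⟩ := by
      intro c
      apply Subtype.ext
      have hc : ((c : ↥N) : G) ∈ N ⊓ Subgroup.centralizer (P : Set G) := by
        refine ⟨(c : ↥N).2, ?_⟩
        show ((c : ↥N) : G) ∈ Subgroup.centralizer (P : Set G)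
        rw [Subgroup.mem_centralizer_iff]
        intro t ht
        have h3 := congrArg (fun n : ↥N => (n : G)) (c.2 ⟨t, ht⟩)
        have h4 : t * ((c : ↥N) : G) * t⁻¹ = ((c : ↥N) : G) := h3
        calc t * ((c : ↥N) : G) = t * ((c : ↥N) : G) * t⁻¹ * t := by group
          _ = ((c : ↥N) : G) * t := by rw [h4]
      rw [h] at hc
      exact Subtype.ext (Subgroup.mem_bot.mp hc)
    rw [key a, key b]
  rw [h2] at h1
  rw [Nat.coprime_comm, Nat.Prime.coprime_iff_not_dvd (Fact.out : p.Prime)]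
  intro hdvd
  have h5 : Nat.card ↥N % p = 1 % p := h1
  rw [Nat.mod_eq_zero_of_dvd hdvd, Nat.mod_eq_of_lt (Fact.out : p.Prime).one_lt] at h5
  exact absurd h5 (by norm_num)

end Fin

section Main

variable {G : Type*} [Group G] [Finite G]

/-- The intersection of the kernels of the irreducible characters of degree prime to `p`. -/
def kerPPrime (p : ℕ) (G : Type*) [Group G] [Finite G] : Subgroup G :=
  ⨅ χ : {χ : IrrCharacter G // ¬ p ∣ charDegree χ.1}, Cfsg.Agent.H82.irrKer χ.1

theorem mem_kerPPrime {p : ℕ} {g : G} : g ∈ kerPPrime p G ↔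
    ∀ χ : IrrCharacter G, ¬ p ∣ charDegree χ.1 → χ.1 g = χ.1 1 := by
  unfold kerPPrime
  rw [Subgroup.mem_iInf]
  constructor
  · intro h χ hχ; exact h ⟨χ, hχ⟩
  · intro h χ; exact h χ.1 χ.2

theorem kerPPrime_normal (p : ℕ) : (kerPPrime p G).Normal := by
  unfold kerPPrime
  exact Subgroup.normal_iInf_normal (fun χ => Cfsg.Agent.H82.irrKer_normal χ.1)

/-- Characters of degree prime to `p` of a subgroup containing a Sylow `p`-subgroup are trivial on
the kernel of the `p'`-degree characters of `G`. -/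
theorem ppdeg_ker_of_le {p : ℕ} [hp : Fact p.Prime] (P : Sylow p G) (H : Subgroup G)
    (hPH : (P : Subgroup G) ≤ H) (ψ : IrrCharacter H) (hψ : ¬ p ∣ charDegree ψ.1) (x : H)
    (hx : (x : G) ∈ kerPPrime p G) : ψ.1 x = ψ.1 1 := by
  classical
  haveI : Fintype G := Fintype.ofFinite G
  haveI : Fintype H := Fintype.ofFinite H
  have hA : IsCharacter G (indFun H ψ.1) :=
    isCharacter_indFun H ψ.1 (isCharacter_of_isIrrCharacter ψ.2)
  have hA1 : indFun H ψ.1 1 = ((H.index * charDegree ψ.1 : ℕ) : ℂ) := by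
    rw [indFun_one_eq, irr_one_eq_charDegree ψ]
    push_cast
    rfl
  have hpd : ¬ p ∣ H.index * charDegree ψ.1 := by
    intro hdvd
    rcases (Nat.Prime.dvd_mul hp.out).mp hdvd with h | h
    · exact P.not_dvd_index (h.trans (Subgroup.index_dvd_of_le hPH))
    · exact hψ h
  obtain ⟨χ, hχ0, hχp⟩ := exists_ppdeg_constituent (MonoidHom.id G) hA p _ hA1 hpd
  have hχ0' : classInner (indFun H ψ.1) χ.1 ≠ 0 := hχ0
  rw [frobenius_reciprocity H ψ.1 χ.1
    (isClassFunction_of_isCharacter (isCharacter_of_isIrrCharacter χ.2)),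
    ← classInner_conj_symm] at hχ0'
  have h2 : classInner (fun h : H => χ.1 h) ψ.1 ≠ 0 := (map_ne_zero _).mp hχ0'
  exact constituent_ker_hom H.subtype (isCharacter_of_isIrrCharacter χ.2) ψ h2 x
    (mem_kerPPrime.mp hx χ hχp)

theorem index_subgroupOf_sup {p : ℕ} [hp : Fact p.Prime] (M P : Subgroup G) [M.Normal] (n : ℕ)
    (hn : Nat.card P = p ^ n) : ∃ j, (M.subgroupOf (M ⊔ P)).index = p ^ j := by
  have h1 : (M.subgroupOf (M ⊔ P)).index = M.relIndex P := by
    show M.relIndex (M ⊔ P) = _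
    rw [Subgroup.relIndex_sup_left]
  have h2 : M.relIndex P ∣ Nat.card P := Subgroup.index_dvd_card _
  rw [hn] at h2
  rw [h1]
  obtain ⟨j, -, hj⟩ := (Nat.dvd_prime_pow hp.out).mp h2
  exact ⟨j, hj⟩

theorem eq_one_of_dvd_pow_of_not_dvd {p : ℕ} (hp : p.Prime) {d j : ℕ} (h1 : d ∣ p ^ j)
    (h2 : ¬ p ∣ d) : d = 1 := by
  obtain ⟨i, -, hi⟩ := (Nat.dvd_prime_pow hp).mp h1
  rcases Nat.eq_zero_or_pos i with h0 | hpos
  · rw [h0, pow_zero] at hi; exact hi
  · exact absurd (hi ▸ dvd_pow_self p hpos.ne') h2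

theorem isSolvable_of_sylow {p : ℕ} [hp : Fact p.Prime] (P : Sylow p G) :
    Group.IsSolvable (P : Subgroup G) := by
  haveI : Group.IsNilpotent (P : Subgroup G) := P.isPGroup'.isNilpotent
  infer_instance

theorem kerPPrime_le {p : ℕ} [hp : Fact p.Prime] (hGl : GlaubP G) (P : Sylow p G)
    (N : Subgroup G)
    (hmax : ∀ L : Subgroup G, L.Normal →
      L ⊓ Subgroup.centralizer ((P : Subgroup G) : Set G) = ⊥ → L ≤ N) :
    kerPPrime p G ≤ N ⊔ ⁅(P : Subgroup G), (P : Subgroup G)⁆ := by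
  classical
  haveI hMn : (kerPPrime p G).Normal := kerPPrime_normal p
  set M := kerPPrime p G with hM
  set H : Subgroup G := M ⊔ (P : Subgroup G) with hH
  have hPH : (P : Subgroup G) ≤ H := le_sup_right
  have hMH : M ≤ H := le_sup_left
  obtain ⟨n, hn⟩ := IsPGroup.iff_card.mp P.isPGroup'
  obtain ⟨j, hj⟩ := index_subgroupOf_sup M (P : Subgroup G) n hn
  -- every nonlinear irreducible character of `H` has degree divisible by `p`
  have hdeg : ∀ ψ : IrrCharacter H, charDegree ψ.1 ≠ 1 → p ∣ charDegree ψ.1 := by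
    intro ψ hψ1
    by_contra hpψ
    have hker : M.subgroupOf H ≤ Cfsg.Agent.H82.irrKer ψ := by
      intro x hx
      rw [Cfsg.Agent.H82.mem_irrKer]
      exact ppdeg_ker_of_le P H hPH ψ hpψ x (Subgroup.mem_subgroupOf.mp hx)
    have h1 : charDegree ψ.1 ∣ p ^ j := by
      rw [← hj]
      exact (charDegree_dvd_index_irrKer ψ).trans (Subgroup.index_dvd_of_le hker)
    exact hψ1 (eq_one_of_dvd_pow_of_not_dvd hp.out h1 hpψ)
  obtain ⟨L₀, hL₀n, hL₀cop, k, hk⟩ := Cfsg.Agent.ThompsonDeg.thompson p hp.out hdeg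
  haveI := hL₀n
  have hhall : ∀ y : H, (orderOf y).Coprime p → y ∈ L₀ := by
    intro y hy
    apply mem_of_coprime_index L₀ y
    rw [hk]
    exact Nat.Coprime.pow_right k hy
  have hL₀ord : ∀ l ∈ L₀, (orderOf l).Coprime p := by
    intro l hl
    have h1 : orderOf l ∣ Nat.card L₀ := by
      have := orderOf_dvd_natCard (⟨l, hl⟩ : L₀)
      rwa [Subgroup.orderOf_mk] at this
    exact Nat.Coprime.coprime_dvd_left h1 hL₀cop
  set L : Subgroup G := L₀.map H.subtype with hL
  have hLM : L ≤ M := by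
    rintro _ ⟨l, hl, rfl⟩
    have h1 : l ∈ M.subgroupOf H := by
      apply mem_of_coprime_index (M.subgroupOf H) l
      rw [hj]
      exact Nat.Coprime.pow_right j (hL₀ord l hl)
    exact Subgroup.mem_subgroupOf.mp h1
  have hLn : L.Normal := by
    constructor
    rintro _ ⟨l, hl, rfl⟩ g
    have h1 : g * (l : G) * g⁻¹ ∈ M := hMn.conj_mem _ (hLM ⟨l, hl, rfl⟩) g
    refine ⟨⟨g * (l : G) * g⁻¹, hMH h1⟩, hhall _ ?_, rfl⟩
    have h2 : orderOf (⟨g * (l : G) * g⁻¹, hMH h1⟩ : H) = orderOf l := by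
      rw [← Subgroup.orderOf_coe, ← Subgroup.orderOf_coe l]
      exact orderOf_conj' g (l : G)
    rw [h2]
    exact hL₀ord l hl
  -- `H = P L₀`
  set PH : Subgroup H := (P : Subgroup G).subgroupOf H with hPHdef
  have hcardPH : Nat.card PH = p ^ n := by
    rw [← hn]
    exact Nat.card_congr (Subgroup.subgroupOfEquivOfLe hPH).toEquiv
  have hcardH : Nat.card L₀ * p ^ k = Nat.card H := by
    rw [← hk]
    exact Subgroup.card_mul_index L₀
  have hkn : k = n := by
    have h2 : p ^ n ∣ Nat.card H := by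
      rw [← hcardPH]
      exact Subgroup.card_subgroup_dvd_card PH
    have h3 : p ^ n ∣ p ^ k := by
      rw [← hcardH] at h2
      exact (Nat.Coprime.dvd_mul_left (Nat.Coprime.pow_left n hL₀cop.symm)).mp h2
    have h4 : n ≤ k := (Nat.pow_dvd_pow_iff_le_right hp.out.one_lt).mp h3
    have h5 : p ^ k ∣ Nat.card G := by
      have : p ^ k ∣ Nat.card H := Dvd.intro_left _ hcardH
      exact this.trans (Subgroup.card_subgroup_dvd_card H)
    have h6 : p ^ k ∣ Nat.card (P : Subgroup G) := P.pow_dvd_card_of_pow_dvd_card h5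
    rw [hn] at h6
    have h7 : k ≤ n := (Nat.pow_dvd_pow_iff_le_right hp.out.one_lt).mp h6
    omega
  have hcompl : PH.IsComplement' L₀ := by
    apply isComplement'_of_coprime
    · rw [hcardPH, ← hkn, mul_comm]
      exact hcardH
    · rw [hcardPH]
      exact (Nat.Coprime.pow_right n hL₀cop).symm
  -- `C_L(P) = 1`
  have hnL : Norms (P : Subgroup G) L := fun s _ l hl => hLn.conj_mem l hl s
  have hcardL : Nat.card L = Nat.card L₀ :=
    (Nat.card_congr (Subgroup.equivMapOfInjective L₀ H.subtype H.subtype_injective).toEquiv).symm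
  have hcopL : (Nat.card L).Coprime (Nat.card (P : Subgroup G)) := by
    rw [hcardL, hn]
    exact Nat.Coprime.pow_right n hL₀cop
  have hsolvP : Group.IsSolvable (P : Subgroup G) := isSolvable_of_sylow P
  have hLP : L ⊓ Subgroup.centralizer ((P : Subgroup G) : Set G) = ⊥ := by
    by_contra hne
    haveI : Fintype L := Fintype.ofFinite L
    haveI : Finite (IrrCharacter L) := (fintypeIrr L).finite
    have e2 := count_inv_eq hGl (P : Subgroup G) hsolvP (Nat.card L) L le_rfl hnL hcopL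
    have e3 := count_class_eq (P : Subgroup G) hsolvP (Nat.card L) L le_rfl hnL hcopL
    have hnt : Nontrivial ↥(L ⊓ Subgroup.centralizer ((P : Subgroup G) : Set G)) :=
      (Subgroup.nontrivial_iff_ne_bot _).mpr hne
    have h1 : 1 < Nat.card (ConjClasses ↥(L ⊓ Subgroup.centralizer ((P : Subgroup G) : Set G))) := by
      rw [Finite.one_lt_card_iff_nontrivial]
      obtain ⟨c, hc⟩ := exists_ne (1 : ↥(L ⊓ Subgroup.centralizer ((P : Subgroup G) : Set G)))
      refine ⟨⟨ConjClasses.mk c, ConjClasses.mk 1, ?_⟩⟩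
      intro h
      rw [ConjClasses.mk_eq_mk_iff_isConj, isConj_one_left] at h
      exact hc h
    rw [← e3, ← e2, Finite.one_lt_card_iff_nontrivial] at h1
    obtain ⟨⟨θ, hθinv⟩, hθne⟩ : ∃ θ : {χ : IrrCharacter L // InvChar (P : Subgroup G) L χ.1},
        θ.1 ≠ trivChar L := by
      obtain ⟨a, b, hab⟩ := h1
      by_cases ha : a.1 = trivChar L
      · exact ⟨b, fun hb => hab (Subtype.ext (ha.trans hb.symm))⟩
      · exact ⟨a, ha⟩
    let eL : ↥L₀ ≃* ↥L := Subgroup.equivMapOfInjective L₀ H.subtype H.subtype_injective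
    let θ' : IrrCharacter ↥L₀ := irrCongr eL θ
    have hθ' : ∀ l : L₀, θ'.1 l = θ.1 (eL l) := fun l => rfl
    have hinv : ∀ h : H, conjChar L₀ θ'.1 h = θ'.1 := by
      have hP' : PH ≤ Clifford.inertia L₀ θ'.1 := by
        intro x hx
        rw [Clifford.mem_inertia]
        funext l
        rw [conjChar_apply, hθ', hθ']
        exact hθinv (x : G) (Subgroup.mem_subgroupOf.mp hx) (eL l) (eL ⟨x * l * x⁻¹, _⟩) rfl
      have hL' : L₀ ≤ Clifford.inertia L₀ θ'.1 := Clifford.le_inertia L₀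
        (isClassFunction_of_isCharacter (isCharacter_of_isIrrCharacter θ'.2))
      have htop : Clifford.inertia L₀ θ'.1 = ⊤ :=
        top_le_iff.mp (hcompl.sup_eq_top ▸ sup_le hP' hL')
      intro h
      exact (Clifford.mem_inertia L₀).mp (htop ▸ Subgroup.mem_top h)
    have hcop' : (Nat.card L₀).Coprime L₀.index := by
      rw [hk]
      exact Nat.Coprime.pow_right k hL₀cop
    obtain ⟨ψ, hψirr, hψext⟩ := exists_ext_of_hall L₀ hcop' θ' hinv
    have hψdeg : ¬ p ∣ charDegree ψ := by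
      have h1 : ψ 1 = θ'.1 1 := hψext 1
      rw [charDegree_eq_of_one_eq h1]
      intro hdvd
      have h2 : p ∣ Nat.card L₀ := hdvd.trans (charDegree_dvd_card θ')
      exact hp.out.one_lt.ne' (Nat.Coprime.eq_one_of_dvd hL₀cop.symm h2)
    have hθ'ker : Cfsg.Agent.H82.irrKer θ' = ⊤ := by
      rw [eq_top_iff]
      intro l _
      rw [Cfsg.Agent.H82.mem_irrKer, ← hψext l, ← hψext 1]
      exact ppdeg_ker_of_le P H hPH ⟨ψ, hψirr⟩ hψdeg (l : H) (hLM ⟨l, l.2, rfl⟩)
    have hθ't := irr_eq_trivChar_of_irrKer_eq_top θ' hθ'ker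
    apply hθne
    apply Subtype.ext
    funext g
    have h1 : θ.1 g = θ'.1 (eL.symm g) := by
      rw [hθ']
      simp
    rw [h1, hθ't, trivChar_apply, trivChar_apply]
  have hLN : L ≤ N := hmax L hLn hLP
  -- `M ∩ P ≤ P'`
  have hMP : M ⊓ (P : Subgroup G) ≤ ⁅(P : Subgroup G), (P : Subgroup G)⁆ := by
    rintro x ⟨hxM, hxP⟩
    by_contra hx
    have hx' : (⟨x, hxP⟩ : (P : Subgroup G)) ∉ commutator (P : Subgroup G) := by
      intro hc
      apply hx
      rw [← Subgroup.map_subtype_commutator]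
      exact ⟨⟨x, hxP⟩, hc, rfl⟩
    have ha : (Abelianization.of ⟨x, hxP⟩ : Abelianization (P : Subgroup G)) ≠ 1 := by
      intro h
      apply hx'
      exact (QuotientGroup.eq_one_iff _).mp h
    obtain ⟨f, hf⟩ := Cfsg.Agent.Lib.Helper96.exists_hom_ne_one
      (A := Abelianization (P : Subgroup G)) (fun a b => mul_comm a b) ha
    let ψ : IrrCharacter (P : Subgroup G) := linChar (f.comp Abelianization.of)
    have hψdeg : ¬ p ∣ charDegree ψ.1 := by
      rw [charDegree_linChar]
      exact fun h => hp.out.one_lt.ne' (Nat.dvd_one.mp h)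
    have h1 := ppdeg_ker_of_le P (P : Subgroup G) le_rfl ψ hψdeg ⟨x, hxP⟩ hxM
    rw [linChar_apply, linChar_apply, map_one] at h1
    apply hf
    exact Units.ext (by simpa using h1)
  -- conclusion
  intro m hm
  obtain ⟨⟨x, l⟩, hxl⟩ := hcompl.2 (⟨m, hMH hm⟩ : H)
  have hxl' : ((x : H) : G) * ((l : H) : G) = m := congrArg (fun h : H => (h : G)) hxl
  have hlL : ((l : H) : G) ∈ L := ⟨l, l.2, rfl⟩
  have hxP : ((x : H) : G) ∈ (P : Subgroup G) := Subgroup.mem_subgroupOf.mp x.2
  have hxM : ((x : H) : G) ∈ M := by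
    have : ((x : H) : G) = m * ((l : H) : G)⁻¹ := by rw [← hxl']; group
    rw [this]
    exact M.mul_mem hm (M.inv_mem (hLM hlL))
  rw [← hxl']
  exact Subgroup.mul_mem _ (Subgroup.mem_sup_right (hMP ⟨hxM, hxP⟩))
    (Subgroup.mem_sup_left (hLN hlL))

theorem normalCore_le_kerPPrime {p : ℕ} [hp : Fact p.Prime] (hGl : GlaubP G) (P : Sylow p G)
    (N : Subgroup G) [hNn : N.Normal]
    (hN : N ⊓ Subgroup.centralizer ((P : Subgroup G) : Set G) = ⊥) :
    (N ⊔ ⁅(P : Subgroup G), (P : Subgroup G)⁆).normalCore ≤ kerPPrime p G := by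
  classical
  haveI : Fintype G := Fintype.ofFinite G
  intro g hg
  rw [mem_kerPPrime]
  intro χ hχ
  obtain ⟨n, hn⟩ := IsPGroup.iff_card.mp P.isPGroup'
  have hχc : IsCharacter G χ.1 := isCharacter_of_isIrrCharacter χ.2
  -- `N` lies in the kernel of `χ`
  have hnN : Norms (P : Subgroup G) N := fun s _ l hl => hNn.conj_mem l hl s
  have hcopN : (Nat.card N).Coprime (Nat.card (P : Subgroup G)) := by
    rw [hn]
    exact Nat.Coprime.pow_right n (coprime_of_fixed_trivial (P : Subgroup G) P.isPGroup' N hN)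
  have hsolvP : Group.IsSolvable (P : Subgroup G) := isSolvable_of_sylow P
  have hNker : ∀ x : N, χ.1 x = χ.1 1 := by
    haveI : Fintype N := Fintype.ofFinite N
    obtain ⟨θ, hθ0, hθinv⟩ := exists_pinv_constituent (P : Subgroup G) P.isPGroup' N χ hχ
    have e2 := count_inv_eq hGl (P : Subgroup G) hsolvP (Nat.card N) N le_rfl hnN hcopN
    have e3 := count_class_eq (P : Subgroup G) hsolvP (Nat.card N) N le_rfl hnN hcopN
    have e4 : Nat.card (ConjClasses ↥(N ⊓ Subgroup.centralizer ((P : Subgroup G) : Set G))) = 1 := by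
      rw [hN, Nat.card_eq_one_iff_unique]
      refine ⟨⟨fun a b => ?_⟩, ⟨ConjClasses.mk 1⟩⟩
      obtain ⟨x, rfl⟩ := ConjClasses.exists_rep a
      obtain ⟨y, rfl⟩ := ConjClasses.exists_rep b
      have hx : x = y :=
        Subtype.ext ((Subgroup.mem_bot.mp x.2).trans (Subgroup.mem_bot.mp y.2).symm)
      rw [hx]
    rw [e3, e4] at e2
    have hsub : Subsingleton {χ : IrrCharacter N // InvChar (P : Subgroup G) N χ.1} :=
      (Nat.card_eq_one_iff_unique.mp e2).1
    have hθ1 : θ = trivChar N := by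
      have h1 : InvChar (P : Subgroup G) N θ.1 := by
        intro s hs a a' ha'
        have h2 := congrFun (hθinv s hs) a
        rw [conjChar_apply] at h2
        rw [← h2]
        exact congrArg θ.1 (Subtype.ext ha')
      have h2 : InvChar (P : Subgroup G) N (trivChar N).1 := by
        intro s hs a a' ha'
        rw [trivChar_apply, trivChar_apply]
      exact congrArg Subtype.val (hsub.elim ⟨θ, h1⟩ ⟨trivChar N, h2⟩)
    have h3 : classInner (fun m : N => χ.1 m) (1 : N → ℂ) ≠ 0 := by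
      have : (1 : N → ℂ) = (trivChar N).1 := by
        funext a
        rw [trivChar_apply]
        rfl
      rw [this, ← hθ1]
      exact hθ0
    exact const_of_over_one N χ.2 h3
  -- a linear constituent of the restriction to `N P`
  set H : Subgroup G := N ⊔ (P : Subgroup G) with hH
  haveI : Fintype H := Fintype.ofFinite H
  obtain ⟨μ, hμ0, hμp⟩ := exists_ppdeg_constituent H.subtype hχc p (charDegree χ.1)
    (irr_one_eq_charDegree χ) hχ
  have hNμ : N.subgroupOf H ≤ Cfsg.Agent.H82.irrKer μ := by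
    intro x hx
    rw [Cfsg.Agent.H82.mem_irrKer]
    exact constituent_ker_hom H.subtype hχc μ hμ0 x
      (hNker ⟨(x : G), Subgroup.mem_subgroupOf.mp hx⟩)
  obtain ⟨j, hj⟩ := index_subgroupOf_sup N (P : Subgroup G) n hn
  have hμ1 : charDegree μ.1 = 1 := by
    refine eq_one_of_dvd_pow_of_not_dvd hp.out (j := j) ?_ hμp
    rw [← hj]
    exact (charDegree_dvd_index_irrKer μ).trans (Subgroup.index_dvd_of_le hNμ)
  have hμ1' : μ.1 1 = 1 := by
    rw [irr_one_eq_charDegree, hμ1]
    simp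
  have hcomm := Cfsg.Agent.ThompsonDeg.commutator_le_irrKer μ hμ1'
  have hR : ∀ y : H, (y : G) ∈ N ⊔ ⁅(P : Subgroup G), (P : Subgroup G)⁆ → μ.1 y = μ.1 1 := by
    have hle : N ⊔ ⁅(P : Subgroup G), (P : Subgroup G)⁆ ≤
        (Cfsg.Agent.H82.irrKer μ).map H.subtype := by
      apply sup_le
      · intro x hx
        exact ⟨⟨x, le_sup_left (a := N) hx⟩, hNμ (Subgroup.mem_subgroupOf.mpr hx), rfl⟩
      · rw [Subgroup.commutator_le]
        intro a ha b hb
        refine ⟨⁅(⟨a, le_sup_right (a := N) ha⟩ : H), (⟨b, le_sup_right (a := N) hb⟩ : H)⁆,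
          hcomm ?_, rfl⟩
        rw [commutator_def]
        exact Subgroup.commutator_mem_commutator (Subgroup.mem_top _) (Subgroup.mem_top _)
    intro y hy
    obtain ⟨z, hz, hzy⟩ := hle hy
    have : z = y := Subtype.ext hzy
    rw [← this]
    exact (Cfsg.Agent.H82.mem_irrKer μ z).mp hz
  -- the induced character
  have hA : IsCharacter G (indFun H μ.1) :=
    isCharacter_indFun H μ.1 (isCharacter_of_isIrrCharacter μ.2)
  have hAχ : classInner (indFun H μ.1) χ.1 ≠ 0 := by
    rw [frobenius_reciprocity H μ.1 χ.1 (isClassFunction_of_isCharacter hχc),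
      ← classInner_conj_symm]
    exact (map_ne_zero _).mpr hμ0
  have hcore_le := Subgroup.normalCore_le (N ⊔ ⁅(P : Subgroup G), (P : Subgroup G)⁆)
  have hP'le : ⁅(P : Subgroup G), (P : Subgroup G)⁆ ≤ (P : Subgroup G) :=
    Subgroup.commutator_le.mpr fun a ha b hb =>
      Subgroup.mul_mem _ (Subgroup.mul_mem _ (Subgroup.mul_mem _ ha hb) (Subgroup.inv_mem _ ha))
        (Subgroup.inv_mem _ hb)
  have hRH : N ⊔ ⁅(P : Subgroup G), (P : Subgroup G)⁆ ≤ H :=
    sup_le le_sup_left (hP'le.trans le_sup_right)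
  have hAg : indFun H μ.1 g = indFun H μ.1 1 := by
    rw [indFun_apply, indFun_apply]
    congr 1
    refine Finset.sum_congr rfl fun x _ => ?_
    have h1 : x⁻¹ * g * x ∈ (N ⊔ ⁅(P : Subgroup G), (P : Subgroup G)⁆).normalCore := by
      have := (Subgroup.normalCore_normal _).conj_mem g hg x⁻¹
      simpa using this
    have h2 : x⁻¹ * g * x ∈ H := hRH (hcore_le h1)
    have h3 : x⁻¹ * 1 * x ∈ H := by simp
    rw [extendByZero_of_mem H μ.1 h2, extendByZero_of_mem H μ.1 h3, hR ⟨_, h2⟩ (hcore_le h1)]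
    exact congrArg μ.1 (Subtype.ext (by simp))
  exact constituent_ker hA χ hAχ g hAg

/-- The intersection of the kernels of the irreducible characters of degree prime to `p` is the
normal core of `N P'`, `N` the largest normal subgroup with `C_N(P) = 1`. -/
theorem kerPPrime_eq {p : ℕ} [hp : Fact p.Prime] (hGl : GlaubP G) (P : Sylow p G)
    (N : Subgroup G) [hNn : N.Normal]
    (hN : N ⊓ Subgroup.centralizer ((P : Subgroup G) : Set G) = ⊥)
    (hmax : ∀ L : Subgroup G, L.Normal →
      L ⊓ Subgroup.centralizer ((P : Subgroup G) : Set G) = ⊥ → L ≤ N) :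
    {g : G | ∀ χ : IrrCharacter G, ¬ p ∣ charDegree (χ : G → ℂ) → (χ : G → ℂ) g = (χ : G → ℂ) 1} =
      ((N ⊔ ⁅(P : Subgroup G), (P : Subgroup G)⁆).normalCore : Set G) := by
  haveI := kerPPrime_normal (G := G) p
  ext g
  constructor
  · intro hg
    have h1 : g ∈ kerPPrime p G := mem_kerPPrime.mpr hg
    exact (Subgroup.normal_le_normalCore.mpr (kerPPrime_le hGl P N hmax)) h1
  · intro hg
    exact mem_kerPPrime.mp (normalCore_le_kerPPrime hGl P N hN hg)

end Main

end Cfsg.Agent.H92
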