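/-
helper92 library: the principal `p`-block of a normal subgroup `H` of `G` versus that of `G`.

* `sum_weight_conjChar` : a conjugation-invariant weighted sum does not see conjugation of `θ`.
* `sum_weight_res` : for `χ` irreducible over `θ`, invariant weighted sums of `χ|H` are a fixed
  multiple `c` of those of `θ`.
* `cover_down` : every irreducible constituent of `χ|H`, `χ` in the principal block of `G`,
  lies in the principal block of `H`.
* `cover_up` : every member of the principal block of `H` lies under a member of the principal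
  block of `G`.
-/
import Mathlib
import Cfsg.Prelude.Def_Blocks
import Cfsg.Agent.H84.ThirdMain
import Cfsg.Agent.Lib.Clifford
import Cfsg.Agent.H81.Reg

set_option autoImplicit false
set_option linter.style.haveILetI false
set_option linter.unusedSectionVars false
set_option linter.unusedVariables false

namespace Cfsg.Agent.H92.PrincCover

open Cfsg Cfsg.Agent.H4 Cfsg.Agent.H20 Cfsg.Agent.H84 Cfsg.Agent.Clifford
open scoped ComplexConjugate

universe u

variable {G : Type u} [Group G] [Fintype G] (H : Subgroup G) [hHn : H.Normal] [Fintype H]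

/-- A weight on `H` invariant under conjugation by `G`. -/
def InvWeight (w : H → ℂ) : Prop :=
  ∀ (g : G) (h : H), w (MulAut.conjNormal g h) = w h

theorem sum_weight_conjChar {w : H → ℂ} (hw : InvWeight H w) (θ : H → ℂ) (g : G) :
    ∑ h : H, w h * conjChar H θ g h = ∑ h : H, w h * θ h := by
  rw [conjChar_eq_comp]
  rw [← Equiv.sum_comp (MulAut.conjNormal g : H ≃* H).toEquiv (fun h => w h * θ h)]
  refine Finset.sum_congr rfl fun h _ => ?_
  show w h * θ (MulAut.conjNormal g h) = w (MulAut.conjNormal g h) * θ (MulAut.conjNormal g h)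
  rw [hw g h]

/-- Invariant weighted sums of `χ|H` are `c` times those of a constituent `θ`. -/
theorem sum_weight_res {χ : G → ℂ} (hχ : IsIrrCharacter G χ) {θ : H → ℂ}
    (hθ : IsIrrCharacter H θ) (h1 : classInner (fun n : H => χ n) θ ≠ 0)
    {w : H → ℂ} (hw : InvWeight H w) :
    ∑ h : H, w h * χ h =
      (@Finset.sum _ _ _ (@Finset.univ _ (fintypeIrr H))
        (fun ψ : IrrCharacter H => classInner (fun n : H => χ n) ψ.1)) * ∑ h : H, w h * θ h := by
  classical
  letI := fintypeIrr H
  have hres : IsCharacter H (fun n : H => χ n) :=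
    isCharacter_restrict H (isCharacter_of_isIrrCharacter hχ)
  have hexp := classFunction_eq_finsum (isClassFunction_of_isCharacter hres)
  rw [finsum_irr_eq_sum] at hexp
  have e1 : ∀ h : H, χ h = ∑ ψ : IrrCharacter H, classInner (fun n : H => χ n) ψ.1 * ψ.1 h := by
    intro h
    have := congrFun hexp h
    simp only [Finset.sum_apply, Pi.smul_apply, smul_eq_mul] at this
    exact this
  calc ∑ h : H, w h * χ h
      = ∑ h : H, ∑ ψ : IrrCharacter H, classInner (fun n : H => χ n) ψ.1 * (w h * ψ.1 h) := by
        refine Finset.sum_congr rfl fun h _ => ?_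
        rw [e1 h, Finset.mul_sum]
        refine Finset.sum_congr rfl fun ψ _ => ?_
        ring
    _ = ∑ ψ : IrrCharacter H, classInner (fun n : H => χ n) ψ.1 * ∑ h : H, w h * ψ.1 h := by
        rw [Finset.sum_comm]
        refine Finset.sum_congr rfl fun ψ _ => ?_
        rw [Finset.mul_sum]
    _ = ∑ ψ : IrrCharacter H, classInner (fun n : H => χ n) ψ.1 * ∑ h : H, w h * θ h := by
        refine Finset.sum_congr rfl fun ψ _ => ?_
        by_cases hψ : classInner (fun n : H => χ n) ψ.1 = 0
        · rw [hψ, zero_mul, zero_mul]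
        · obtain ⟨g, hg⟩ := clifford_conj H hχ hθ ψ.2 h1 hψ
          rw [hg, sum_weight_conjChar H hw θ g]
    _ = _ := by rw [Finset.sum_mul]

/-- The weight selecting the `p`-regular elements of `H` is invariant. -/
theorem invWeight_reg (p : ℕ) :
    InvWeight H (fun h : H => pRegularPart p (fun _ : H => (1 : ℂ)) h) := by
  classical
  intro g h
  have ho : orderOf (MulAut.conjNormal g h : H) = orderOf h :=
    (MulAut.conjNormal g : H ≃* H).orderOf_eq h
  show pRegularPart p (fun _ : H => (1 : ℂ)) (MulAut.conjNormal g h)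
    = pRegularPart p (fun _ : H => (1 : ℂ)) h
  rw [Cfsg.Agent.H81.pRegularPart_apply, Cfsg.Agent.H81.pRegularPart_apply, ho]

open scoped Classical in
/-- The weight selecting the identity is invariant. -/
theorem invWeight_one :
    InvWeight H (fun h : H => if h = 1 then (1 : ℂ) else 0) := by
  classical
  intro g h
  have : (MulAut.conjNormal g h : H) = 1 ↔ h = 1 := by
    constructor
    · intro hh
      have := (MulAut.conjNormal g : H ≃* H).injective (hh.trans (map_one _).symm)
      exact this
    · intro hh; rw [hh, map_one]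
  show (if (MulAut.conjNormal g h : H) = 1 then (1 : ℂ) else 0) = if h = 1 then (1 : ℂ) else 0
  simp only [this]

theorem reg_weight_mul (p : ℕ) (f : H → ℂ) (h : H) :
    pRegularPart p (fun _ : H => (1 : ℂ)) h * f h = pRegularPart p f h := by
  classical
  rw [Cfsg.Agent.H81.pRegularPart_apply, Cfsg.Agent.H81.pRegularPart_apply]
  split_ifs <;> simp

variable {M : Ideal AlgInt}

/-- **Covering, downwards**: an irreducible constituent of the restriction to the normal subgroup
`H` of a character in the principal block of `G` lies in the principal block of `H`. -/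
theorem cover_down {p : ℕ} [Fact p.Prime] (hM : IsPModular p M) (χ : IrrCharacter G)
    (hχ : χ ∈ principalBlock M G) (θ : IrrCharacter H)
    (h1 : classInner (fun n : H => (χ : G → ℂ) n) θ.1 ≠ 0) : θ ∈ principalBlock M H := by
  classical
  letI := fintypeIrr H
  have hMp := isPrime_of_isPModular hM
  apply mem_principalBlock_of_regSum hM θ
  intro h0
  set c : ℂ := ∑ ψ : IrrCharacter H, classInner (fun n : H => (χ : G → ℂ) n) ψ.1 with hc
  have hcf : IsClassFunction G (χ : G → ℂ) := irr_isClassFunction χ
  -- degrees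
  have hdeg : (χ : G → ℂ) 1 = c * θ.1 1 := by
    have := sum_weight_res H χ.2 θ.2 h1 (invWeight_one H)
    have e : ∀ f : H → ℂ, ∑ h : H, (if h = 1 then (1 : ℂ) else 0) * f h = f 1 := by
      intro f
      rw [Finset.sum_eq_single (1 : H)]
      · simp
      · intro b _ hb; simp [hb]
      · intro hb; exact absurd (Finset.mem_univ _) hb
    rw [e (fun n : H => (χ : G → ℂ) n), e θ.1] at this
    exact this
  -- regular sums
  have hreg : ∑ h : H, pRegularPart p (fun n : H => (χ : G → ℂ) n) h = c * regSum p θ.1 := by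
    have := sum_weight_res H χ.2 θ.2 h1 (invWeight_reg H p)
    rw [Finset.sum_congr rfl (fun h _ => reg_weight_mul H p (fun n : H => (χ : G → ℂ) n) h),
      Finset.sum_congr rfl (fun h _ => reg_weight_mul H p θ.1 h)] at this
    exact this
  rw [h0, mul_zero] at hreg
  have hχ1 : (χ : G → ℂ) 1 ≠ 0 := by
    obtain ⟨n, hn, h⟩ := irr_one_eq_natCast χ
    rw [h]; exact_mod_cast hn.ne'
  -- the class-sum argument
  have key := sum_mem_of_class_sums (localIdeal M hMp)
    (extendByZero H (fun h : H => pRegularPart p (fun _ : H => (1 : ℂ)) h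
      - pRegularPart p (fun n : H => (χ : G → ℂ) n) h / (χ : G → ℂ) 1)) (by
    intro h
    by_cases hh : h ∈ H ∧ ¬ p ∣ orderOf h
    · have : ∀ y ∈ Finset.univ.filter (fun y => IsConj h y),
          extendByZero H (fun h : H => pRegularPart p (fun _ : H => (1 : ℂ)) h
            - pRegularPart p (fun n : H => (χ : G → ℂ) n) h / (χ : G → ℂ) 1) y
          = (fun _ : G => (1 : ℂ)) y - (χ : G → ℂ) y / (χ : G → ℂ) 1 := by
        intro y hy
        rw [Finset.mem_filter] at hy
        obtain ⟨x, hx⟩ := isConj_iff.mp hy.2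
        have hyH : y ∈ H := by rw [← hx]; exact hHn.conj_mem h hh.1 x
        have hy' : ¬ p ∣ orderOf (⟨y, hyH⟩ : H) := by
          rw [Subgroup.orderOf_mk, orderOf_eq_of_isConj hy.2]; exact hh.2
        rw [extendByZero_of_mem H _ hyH, Cfsg.Agent.H81.pRegularPart_of_not_dvd p _ hy',
          Cfsg.Agent.H81.pRegularPart_of_not_dvd p _ hy']
      rw [Finset.sum_congr rfl this, Finset.sum_sub_distrib, ← Finset.sum_div,
        sum_conj_class hcf, Finset.sum_const, nsmul_eq_mul, card_conj_eq_index, mul_one]
      have h2 := hχ h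
      rw [Cfsg.Agent.H80.centralChar_const_one] at h2
      unfold centralChar at h2
      exact h2
    · have : ∀ y ∈ Finset.univ.filter (fun y => IsConj h y),
          extendByZero H (fun h : H => pRegularPart p (fun _ : H => (1 : ℂ)) h
            - pRegularPart p (fun n : H => (χ : G → ℂ) n) h / (χ : G → ℂ) 1) y = 0 := by
        intro y hy
        rw [Finset.mem_filter] at hy
        obtain ⟨x, hx⟩ := isConj_iff.mp hy.2
        by_cases hyH : y ∈ H
        · have hhH : h ∈ H := by
            have : h = x⁻¹ * y * x⁻¹⁻¹ := by rw [← hx]; group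
            rw [this]; exact hHn.conj_mem y hyH x⁻¹
          have hy' : p ∣ orderOf (⟨y, hyH⟩ : H) := by
            rw [Subgroup.orderOf_mk, orderOf_eq_of_isConj hy.2]
            by_contra hcon
            exact hh ⟨hhH, hcon⟩
          rw [extendByZero_of_mem H _ hyH, Cfsg.Agent.H81.pRegularPart_of_dvd p _ hy',
            Cfsg.Agent.H81.pRegularPart_of_dvd p _ hy']
          simp
        · rw [extendByZero_of_not_mem H _ hyH]
      rw [Finset.sum_congr rfl this, Finset.sum_const_zero]
      exact (localIdeal M hMp).zero_mem) Finset.univ (fun _ _ _ => Finset.mem_univ _)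
  rw [Cfsg.Agent.H4.sum_extendByZero, Finset.sum_sub_distrib, ← Finset.sum_div, hreg, zero_div, sub_zero] at key
  have h3 : ∑ h : H, pRegularPart p (fun _ : H => (1 : ℂ)) h
      = (Nat.card {g : H // ¬ p ∣ orderOf g} : ℂ) := regSum_one (G := H) p
  rw [h3] at key
  exact not_dvd_card_pRegular p H ((memLocalIdeal_natCast_iff hM _).mp key)

/-- The indicator of the `p`-regular elements of `G` is a class function. -/
theorem isClassFunction_regInd (p : ℕ) :
    IsClassFunction G (pRegularPart p (fun _ : G => (1 : ℂ))) := by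
  classical
  intro g x
  have ho : orderOf (x * g * x⁻¹) = orderOf g := by
    have := (MulAut.conj x).orderOf_eq g
    simpa using this
  rw [Cfsg.Agent.H81.pRegularPart_apply, Cfsg.Agent.H81.pRegularPart_apply, ho]

theorem conj_regInd (p : ℕ) (g : G) :
    conj (pRegularPart p (fun _ : G => (1 : ℂ)) g) = pRegularPart p (fun _ : G => (1 : ℂ)) g := by
  classical
  rw [Cfsg.Agent.H81.pRegularPart_apply]
  split_ifs <;> simp

/-- The inner product with the indicator of the `p`-regular elements is the regular sum. -/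
theorem classInner_regInd (p : ℕ) (f : G → ℂ) :
    classInner f (pRegularPart p (fun _ : G => (1 : ℂ))) = (Nat.card G : ℂ)⁻¹ * regSum p f := by
  classical
  unfold classInner regSum
  congr 1
  refine Finset.sum_congr rfl fun g _ => ?_
  rw [conj_regInd, Cfsg.Agent.H81.pRegularPart_apply, Cfsg.Agent.H81.pRegularPart_apply]
  split_ifs <;> simp

theorem regInd_coe (p : ℕ) (h : H) :
    pRegularPart p (fun _ : G => (1 : ℂ)) (h : G) = pRegularPart p (fun _ : H => (1 : ℂ)) h := by
  classical
  rw [Cfsg.Agent.H81.pRegularPart_apply, Cfsg.Agent.H81.pRegularPart_apply, Subgroup.orderOf_coe]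

/-- **Covering, upwards**: every member of the principal block of the normal subgroup `H` is a
constituent of the restriction of some member of the principal block of `G`. -/
theorem cover_up {p : ℕ} [Fact p.Prime] (hM : IsPModular p M) (θ : IrrCharacter H)
    (hθ : θ ∈ principalBlock M H) :
    ∃ χ : IrrCharacter G, χ ∈ principalBlock M G ∧
      classInner (fun n : H => (χ : G → ℂ) n) θ.1 ≠ 0 := by
  classical
  letI := fintypeIrr G
  have hMp := isPrime_of_isPModular hM
  have hθ0 : regSum p θ.1 ≠ 0 := by
    intro h0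
    apply regSum_principal_not_mem hM θ hθ
    rw [h0, zero_div]
    exact memLocalIdeal_zero hMp
  have hG : (Nat.card G : ℂ) ≠ 0 := (neZero_card_complex G).out
  have hH : (Nat.card H : ℂ) ≠ 0 := (neZero_card_complex H).out
  have hW := isClassFunction_regInd (G := G) p
  have e1 : classInner (indFun H θ.1) (pRegularPart p (fun _ : G => (1 : ℂ)))
      = (Nat.card H : ℂ)⁻¹ * regSum p θ.1 := by
    rw [frobenius_reciprocity H θ.1 _ hW]
    have : (fun h : H => pRegularPart p (fun _ : G => (1 : ℂ)) (h : G))
        = pRegularPart p (fun _ : H => (1 : ℂ)) := funext (regInd_coe H p)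
    rw [this, classInner_regInd]
  have e2 := classInner_eq_sum_irr (indFun_isClassFunction H θ.1)
    (pRegularPart p (fun _ : G => (1 : ℂ)))
  rw [finsum_irr_eq_sum, e1] at e2
  have hne : ∑ ψ : IrrCharacter G, classInner (indFun H θ.1) ψ.1 *
      classInner ψ.1 (pRegularPart p (fun _ : G => (1 : ℂ))) ≠ 0 := by
    rw [← e2]
    exact mul_ne_zero (inv_ne_zero hH) hθ0
  obtain ⟨χ, -, hχ⟩ := Finset.exists_ne_zero_of_sum_ne_zero hne
  have h1 : classInner (indFun H θ.1) χ.1 ≠ 0 := left_ne_zero_of_mul hχ
  have h2 : classInner χ.1 (pRegularPart p (fun _ : G => (1 : ℂ))) ≠ 0 := right_ne_zero_of_mul hχ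
  refine ⟨χ, ?_, ?_⟩
  · apply mem_principalBlock_of_regSum hM χ
    intro h0
    apply h2
    rw [classInner_regInd, h0, mul_zero]
  · rw [frobenius_reciprocity H θ.1 _ (irr_isClassFunction χ)] at h1
    intro h0
    apply h1
    rw [← classInner_conj_symm, h0, map_zero]

open scoped Classical in
/-- A finsum of natural numbers over a set of irreducible characters, as a filtered sum. -/
theorem finsum_mem_irr_nat {K : Type u} [Group K] [Finite K] (A : Set (IrrCharacter K))
    (f : IrrCharacter K → ℕ) :
    ∑ᶠ χ ∈ A, f χ =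
      @Finset.sum _ _ _ ((@Finset.univ _ (fintypeIrr K)).filter (fun χ => χ ∈ A)) f := by
  letI := fintypeIrr K
  rw [finsum_mem_eq_finite_toFinset_sum f (Set.toFinite A)]
  refine Finset.sum_congr ?_ (fun _ _ => rfl)
  ext χ
  simp

/-- `λ(H) ≤ λ(G) ≤ [G:H] λ(H)` for the sums of squared degrees over the principal blocks. -/
theorem lambda_bounds {p : ℕ} [Fact p.Prime] (hM : IsPModular p M) :
    (∑ᶠ θ ∈ principalBlock M H, charDegree (θ : H → ℂ) ^ 2)
        ≤ (∑ᶠ χ ∈ principalBlock M G, charDegree (χ : G → ℂ) ^ 2) ∧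
      (∑ᶠ χ ∈ principalBlock M G, charDegree (χ : G → ℂ) ^ 2)
        ≤ H.index * ∑ᶠ θ ∈ principalBlock M H, charDegree (θ : H → ℂ) ^ 2 := by
  classical
  letI := fintypeIrr G
  letI := fintypeIrr H
  rw [finsum_mem_irr_nat, finsum_mem_irr_nat]
  -- multiplicities
  have hm : ∀ (χ : IrrCharacter G) (θ : IrrCharacter H), ∃ n : ℕ,
      classInner (fun n : H => (χ : G → ℂ) n) θ.1 = n := fun χ θ =>
    classInner_isCharacter_nat (isCharacter_restrict H (isCharacter_of_isIrrCharacter χ.2))
      (isCharacter_of_isIrrCharacter θ.2)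
  choose m hm using hm
  set dG : IrrCharacter G → ℕ := fun χ => charDegree (χ : G → ℂ) with hdG
  set dH : IrrCharacter H → ℕ := fun θ => charDegree (θ : H → ℂ) with hdH
  have hdGc : ∀ χ : IrrCharacter G, (χ : G → ℂ) 1 = (dG χ : ℂ) := fun χ =>
    (Cfsg.Agent.H81.irr_charDegree χ).1
  have hdHc : ∀ θ : IrrCharacter H, (θ : H → ℂ) 1 = (dH θ : ℂ) := fun θ =>
    (Cfsg.Agent.H81.irr_charDegree θ).1
  -- F1 : restriction degrees
  have F1 : ∀ χ : IrrCharacter G, dG χ = ∑ θ : IrrCharacter H, m χ θ * dH θ := by
    intro χ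
    have hres : IsCharacter H (fun n : H => (χ : G → ℂ) n) :=
      isCharacter_restrict H (isCharacter_of_isIrrCharacter χ.2)
    have hexp := classFunction_eq_finsum (isClassFunction_of_isCharacter hres)
    rw [finsum_irr_eq_sum] at hexp
    have := congrFun hexp 1
    simp only [Finset.sum_apply, Pi.smul_apply, smul_eq_mul] at this
    have h2 : (χ : G → ℂ) ((1 : H) : G) = (dG χ : ℂ) := by
      rw [OneMemClass.coe_one]; exact hdGc χ
    rw [h2] at this
    have h3 : ((dG χ : ℕ) : ℂ) = ((∑ θ : IrrCharacter H, m χ θ * dH θ : ℕ) : ℂ) := by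
      rw [this]
      push_cast
      refine Finset.sum_congr rfl fun θ _ => ?_
      rw [hm χ θ, hdHc θ]
    exact_mod_cast h3
  -- F2 : induction degrees
  have F2 : ∀ θ : IrrCharacter H, ∑ χ : IrrCharacter G, m χ θ * dG χ = H.index * dH θ := by
    intro θ
    have hexp := classFunction_eq_finsum (indFun_isClassFunction H θ.1)
    rw [finsum_irr_eq_sum] at hexp
    have := congrFun hexp 1
    simp only [Finset.sum_apply, Pi.smul_apply, smul_eq_mul] at this
    have h1 : indFun H θ.1 1 = (H.index : ℂ) * (dH θ : ℂ) := by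
      rw [indFun_apply]
      have : ∀ x : G, extendByZero H θ.1 (x⁻¹ * 1 * x) = (dH θ : ℂ) := by
        intro x
        have hx : x⁻¹ * 1 * x = ((1 : H) : G) := by simp
        rw [hx, extendByZero_coe, hdHc θ]
      rw [Finset.sum_congr rfl (fun x _ => this x), Finset.sum_const, nsmul_eq_mul,
        Finset.card_univ]
      have hcard : (Fintype.card G : ℂ) = (H.index : ℂ) * (Nat.card H : ℂ) := by
        rw [← Nat.card_eq_fintype_card, ← Subgroup.index_mul_card H]
        push_cast; ring
      have hH : (Nat.card H : ℂ) ≠ 0 := (neZero_card_complex H).out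
      rw [hcard]
      field_simp
    rw [h1] at this
    have h3 : ((∑ χ : IrrCharacter G, m χ θ * dG χ : ℕ) : ℂ) = ((H.index * dH θ : ℕ) : ℂ) := by
      push_cast
      rw [this]
      refine Finset.sum_congr rfl fun χ _ => ?_
      rw [frobenius_reciprocity H θ.1 _ (irr_isClassFunction χ), ← classInner_conj_symm,
        hm χ θ, hdGc χ]
      simp
    exact_mod_cast h3
  -- covering
  have hA : ∀ χ : IrrCharacter G, χ ∈ principalBlock M G → ∀ θ : IrrCharacter H,
      θ ∉ principalBlock M H → m χ θ = 0 := by
    intro χ hχ θ hθ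
    by_contra hne
    apply hθ
    apply cover_down H hM χ hχ θ
    rw [hm χ θ]
    exact_mod_cast hne
  have hB : ∀ θ : IrrCharacter H, θ ∈ principalBlock M H →
      ∃ χ : IrrCharacter G, χ ∈ principalBlock M G ∧ m χ θ ≠ 0 := by
    intro θ hθ
    obtain ⟨χ, hχ, h⟩ := cover_up H hM θ hθ
    refine ⟨χ, hχ, ?_⟩
    intro h0
    apply h
    rw [hm χ θ, h0]; simp
  constructor
  · -- lower bound
    haveI : Nonempty (IrrCharacter G) := ⟨Cfsg.Agent.H80.trivChar G⟩
    have hf : ∀ θ : IrrCharacter H, ∃ χ : IrrCharacter G,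
        θ ∈ principalBlock M H → (χ ∈ principalBlock M G ∧ m χ θ ≠ 0) := by
      intro θ
      by_cases hθ : θ ∈ principalBlock M H
      · obtain ⟨χ, h⟩ := hB θ hθ
        exact ⟨χ, fun _ => h⟩
      · exact ⟨Classical.arbitrary _, fun h => absurd h hθ⟩
    choose f hf using hf
    rw [← Finset.sum_fiberwise_of_maps_to (g := f)
      (t := Finset.univ.filter (fun χ => χ ∈ principalBlock M G))
      (fun θ hθ => by
        rw [Finset.mem_filter] at hθ ⊢
        exact ⟨Finset.mem_univ _, (hf θ hθ.2).1⟩)]
    refine Finset.sum_le_sum fun χ hχ => ?_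
    calc ∑ θ ∈ (Finset.univ.filter (fun θ => θ ∈ principalBlock M H)).filter (fun θ => f θ = χ),
          dH θ ^ 2
        ≤ ∑ θ ∈ (Finset.univ.filter (fun θ => θ ∈ principalBlock M H)).filter
            (fun θ => f θ = χ), (m χ θ * dH θ) * dG χ := by
          refine Finset.sum_le_sum fun θ hθ => ?_
          rw [Finset.mem_filter, Finset.mem_filter] at hθ
          have hm1 : 1 ≤ m χ θ := by
            have := (hf θ hθ.1.2).2
            rw [hθ.2] at this
            omega
          have h1 : dH θ ≤ m χ θ * dH θ := Nat.le_mul_of_pos_left _ hm1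
          have h2 : m χ θ * dH θ ≤ dG χ := by
            rw [F1 χ]
            exact Finset.single_le_sum (f := fun θ => m χ θ * dH θ) (fun _ _ => Nat.zero_le _)
              (Finset.mem_univ θ)
          calc dH θ ^ 2 = dH θ * dH θ := sq _
            _ ≤ (m χ θ * dH θ) * dH θ := Nat.mul_le_mul_right _ h1
            _ ≤ (m χ θ * dH θ) * dG χ := Nat.mul_le_mul_left _ (h1.trans h2)
      _ ≤ ∑ θ : IrrCharacter H, (m χ θ * dH θ) * dG χ :=
          Finset.sum_le_sum_of_subset (Finset.subset_univ _)
      _ = dG χ ^ 2 := by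
          rw [← Finset.sum_mul, ← F1 χ, sq]
  · -- upper bound
    calc ∑ χ ∈ Finset.univ.filter (fun χ => χ ∈ principalBlock M G), dG χ ^ 2
        = ∑ χ ∈ Finset.univ.filter (fun χ => χ ∈ principalBlock M G),
            ∑ θ ∈ Finset.univ.filter (fun θ => θ ∈ principalBlock M H), m χ θ * dH θ * dG χ := by
          refine Finset.sum_congr rfl fun χ hχ => ?_
          rw [Finset.mem_filter] at hχ
          rw [sq]
          nth_rewrite 1 [F1 χ]
          rw [Finset.sum_mul]
          symm
          apply Finset.sum_subset (Finset.subset_univ _)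
          intro θ _ hθ
          rw [Finset.mem_filter] at hθ
          have : θ ∉ principalBlock M H := fun h => hθ ⟨Finset.mem_univ _, h⟩
          rw [hA χ hχ.2 θ this]; simp
      _ ≤ ∑ χ : IrrCharacter G,
            ∑ θ ∈ Finset.univ.filter (fun θ => θ ∈ principalBlock M H), m χ θ * dH θ * dG χ :=
          Finset.sum_le_sum_of_subset (Finset.subset_univ _)
      _ = ∑ θ ∈ Finset.univ.filter (fun θ => θ ∈ principalBlock M H),
            ∑ χ : IrrCharacter G, m χ θ * dH θ * dG χ := Finset.sum_comm
      _ = ∑ θ ∈ Finset.univ.filter (fun θ => θ ∈ principalBlock M H), H.index * dH θ ^ 2 := by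
          refine Finset.sum_congr rfl fun θ _ => ?_
          have : ∀ χ : IrrCharacter G, m χ θ * dH θ * dG χ = dH θ * (m χ θ * dG χ) := by
            intro χ; ring
          rw [Finset.sum_congr rfl (fun χ _ => this χ), ← Finset.mul_sum, F2 θ]
          ring
      _ = H.index * ∑ θ ∈ Finset.univ.filter (fun θ => θ ∈ principalBlock M H), dH θ ^ 2 := by
          rw [Finset.mul_sum]

end Cfsg.Agent.H92.PrincCover
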