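/-
helper92: the Alperin–Dade restriction bijection for principal blocks (character form).

If `N ⊴ G` has index prime to `p` and every coset of `N` contains an element whose conjugacy
class has size prime to `p` (e.g. `G = N C_G(P)` for a Sylow `p`-subgroup `P`), then restriction
is a bijection from the principal block of `G` onto the principal block of `N`.

Route: a member `χ` of the principal block does not vanish at elements with class size prime to
`p` (central character), so `χ|N` is irreducible by S4996 (a reducible restriction vanishes on a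
coset).  Uniqueness is Gallagher's theorem plus the fact that a root of unity of order prime to
`p` congruent to `1` is `1`.
-/
import Mathlib
import Cfsg.Prelude.Def_Blocks
import Cfsg.Agent.H92.PrincCover
import Cfsg.Agent.Lib.Gallagher
import Cfsg.Agent.S4996
import Cfsg.Agent.H19.LinChar
import Cfsg.Agent.H20.CentralChar
import Cfsg.Agent.H80.Block
import Cfsg.Agent.H81.Counting

set_option autoImplicit false
set_option linter.unusedSectionVars false
set_option linter.unusedVariables false

namespace Cfsg.Agent.H92.AlperinDade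

open Cfsg Cfsg.Agent.H4 Cfsg.Agent.H20 Cfsg.Agent.H84 Cfsg.Agent.Clifford
open scoped ComplexConjugate

universe u

/-- A root of unity of order prime to `p` that is congruent to `1` modulo `M` is `1`. -/
theorem root_eq_one {p : ℕ} {M : Ideal AlgInt} (hM : IsPModular p M) {ζ : ℂ} {m : ℕ}
    (hm : ¬ p ∣ m) (hζ : ζ ^ m = 1) (h : MemLocalIdeal M (1 - ζ)) : ζ = 1 := by
  have hMp := isPrime_of_isPModular hM
  by_contra hne
  have hm0 : 0 < m := Nat.pos_of_ne_zero (fun h0 => hm (h0 ▸ dvd_zero p))
  have hint : IsIntegral ℤ ζ := IsIntegral.of_pow hm0 (by rw [hζ]; exact isIntegral_one)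
  have hloc : MemLocalRing M ζ := memLocalRing_algInt hMp ⟨ζ, hint⟩
  have hsum : ∑ k ∈ Finset.range m, ζ ^ k = 0 := by
    have := mul_geom_sum ζ m
    rw [hζ, sub_self] at this
    exact (mul_eq_zero.mp this).resolve_left (sub_ne_zero.mpr hne)
  have hk : ∀ k : ℕ, MemLocalIdeal M (1 - ζ ^ k) := by
    intro k
    induction k with
    | zero =>
      rw [pow_zero, sub_self]
      exact memLocalIdeal_zero hMp
    | succ k ih =>
      have e : 1 - ζ ^ (k + 1) = (1 - ζ ^ k) + ζ ^ k * (1 - ζ) := by ring
      rw [e]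
      exact memLocalIdeal_add hMp ih
        (memLocalIdeal_mul_left hMp (memLocalRing_pow hMp hloc k) h)
  have hmem : MemLocalIdeal M ((m : ℂ)) := by
    have e : (m : ℂ) = ∑ k ∈ Finset.range m, (1 - ζ ^ k) := by
      rw [Finset.sum_sub_distrib, hsum]; simp
    rw [e]
    exact memLocalIdeal_sum hMp _ _ (fun k _ => hk k)
  exact hm ((memLocalIdeal_natCast_iff hM m).mp hmem)

variable {G : Type u} [Group G] [Fintype G] (N : Subgroup G) [hNn : N.Normal] [Fintype N]
  {M : Ideal AlgInt}

/-- The central character of a member of the principal block is a unit at elements whose class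
has size prime to `p`. -/
theorem centralChar_not_mem {p : ℕ} [Fact p.Prime] (hM : IsPModular p M) (χ : IrrCharacter G)
    (hχ : χ ∈ principalBlock M G) (y : G)
    (hy : ¬ p ∣ (Subgroup.centralizer ({y} : Set G)).index) :
    ¬ MemLocalIdeal M (centralChar (χ : G → ℂ) y) := by
  have hMp := isPrime_of_isPModular hM
  intro h
  have h1 : MemLocalIdeal M
      (centralChar (fun _ : G => (1 : ℂ)) y - centralChar (χ : G → ℂ) y) := hχ y
  have h2 := memLocalIdeal_add hMp h1 h
  rw [sub_add_cancel, Cfsg.Agent.H80.centralChar_const_one] at h2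
  exact hy ((memLocalIdeal_natCast_iff hM _).mp h2)

theorem apply_ne_zero {p : ℕ} [Fact p.Prime] (hM : IsPModular p M) (χ : IrrCharacter G)
    (hχ : χ ∈ principalBlock M G) (y : G)
    (hy : ¬ p ∣ (Subgroup.centralizer ({y} : Set G)).index) : (χ : G → ℂ) y ≠ 0 := by
  have hMp := isPrime_of_isPModular hM
  intro h0
  apply centralChar_not_mem hM χ hχ y hy
  unfold centralChar
  rw [h0, mul_zero, zero_div]
  exact memLocalIdeal_zero hMp

/-- Members of the principal block restrict irreducibly to `N`. -/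
theorem res_irr {p : ℕ} [Fact p.Prime] (hM : IsPModular p M)
    (hgood : ∀ g : G, ∃ n : N, ¬ p ∣ (Subgroup.centralizer ({(n : G) * g} : Set G)).index)
    (χ : IrrCharacter G) (hχ : χ ∈ principalBlock M G) :
    IsIrrCharacter N (fun n : N => (χ : G → ℂ) n) := by
  by_contra hnot
  obtain ⟨x, hx⟩ := (Cfsg.Agent.S4996.result N χ).mp hnot
  obtain ⟨n, hn⟩ := hgood x
  exact apply_ne_zero hM χ hχ _ hn (hx n)

/-- Restriction maps the principal block of `G` into that of `N`. -/
theorem res_mem {p : ℕ} [Fact p.Prime] (hM : IsPModular p M)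
    (hgood : ∀ g : G, ∃ n : N, ¬ p ∣ (Subgroup.centralizer ({(n : G) * g} : Set G)).index)
    (χ : IrrCharacter G) (hχ : χ ∈ principalBlock M G) :
    ∃ θ ∈ principalBlock M N, ∀ n : N, (χ : G → ℂ) n = (θ : N → ℂ) n := by
  have hirr := res_irr N hM hgood χ hχ
  refine ⟨⟨_, hirr⟩, ?_, fun n => rfl⟩
  apply Cfsg.Agent.H92.PrincCover.cover_down N hM χ hχ
  show classInner (fun n : N => (χ : G → ℂ) n) (fun n : N => (χ : G → ℂ) n) ≠ 0
  rw [classInner_irr_irr hirr hirr, if_pos rfl]
  exact one_ne_zero

/-- Every member of the principal block of `N` is the restriction of exactly one member of the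
principal block of `G`. -/
theorem ext_unique {p : ℕ} [Fact p.Prime] (hM : IsPModular p M) (hidx : ¬ p ∣ N.index)
    (hgood : ∀ g : G, ∃ n : N, ¬ p ∣ (Subgroup.centralizer ({(n : G) * g} : Set G)).index)
    (θ : IrrCharacter N) (hθ : θ ∈ principalBlock M N) :
    ∃! χ : IrrCharacter G, χ ∈ principalBlock M G ∧
      ∀ n : N, (χ : G → ℂ) n = (θ : N → ℂ) n := by
  classical
  have hMp := isPrime_of_isPModular hM
  obtain ⟨χ, hχ, hne⟩ := Cfsg.Agent.H92.PrincCover.cover_up N hM θ hθ
  have hirr := res_irr N hM hgood χ hχ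
  have hres : (fun n : N => (χ : G → ℂ) n) = θ.1 := eq_of_classInner_ne_zero hirr θ.2 hne
  refine ⟨χ, ⟨hχ, fun n => congrFun hres n⟩, ?_⟩
  rintro χ' ⟨hχ', hres'⟩
  -- Gallagher
  have hone : IsIrrCharacter N (fun _ : N => (1 : ℂ)) := Cfsg.Agent.H80.isIrrCharacter_one N
  have hθinv : ∀ g : G, conjChar N θ.1 g = θ.1 := by
    intro g
    rw [← hres]
    exact conjChar_res N (irr_isClassFunction χ) g
  have h1inv : ∀ g : G, conjChar N (fun _ : N => (1 : ℂ)) g = fun _ => 1 := fun g => rfl
  have hmul1 : (fun _ : N => (1 : ℂ)) * θ.1 = θ.1 := by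
    funext n; simp
  have hprod : IsIrrCharacter N ((fun _ : N => (1 : ℂ)) * θ.1) := by
    rw [hmul1]; exact θ.2
  obtain ⟨-, -, h3⟩ := gallagher N hone θ.2 h1inv hθinv hprod
    (isCharacter_of_isIrrCharacter χ.2) (fun n => congrFun hres n)
  have hψ : classInner (indFun N ((fun _ : N => (1 : ℂ)) * θ.1)) χ'.1 ≠ 0 := by
    rw [frobenius_reciprocity N _ _ (irr_isClassFunction χ')]
    have e : (fun n : N => (χ' : G → ℂ) n) = θ.1 := funext hres'
    rw [e, hmul1, classInner_irr_irr θ.2 θ.2, if_pos rfl]
    exact one_ne_zero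
  obtain ⟨β, hβ, hβ1, hβχ⟩ := h3 χ'.1 χ'.2 hψ
  have hβχ' : ∀ g : G, β g * (χ : G → ℂ) g = (χ' : G → ℂ) g := fun g => congrFun hβχ g
  have hχ1 : (χ : G → ℂ) 1 ≠ 0 := irr_one_ne_zero' χ.2
  have hdeg : (χ' : G → ℂ) 1 = (χ : G → ℂ) 1 := by
    have a := hres' 1
    have b := congrFun hres 1
    simp only [OneMemClass.coe_one] at a b
    rw [a, b]
  have hβone : β 1 = 1 := by
    have h := hβχ' 1
    rw [hdeg] at h
    exact mul_right_cancel₀ hχ1 (by rw [h, one_mul])
  have hβch : IsCharacter G β := isCharacter_of_isIrrCharacter hβ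
  have hmul : ∀ a b : G, β (a * b) = β a * β b := Cfsg.Agent.H19.linChar_mul β hβch hβone
  -- β is trivial on N
  have hβN : ∀ n : N, β n = 1 := by
    by_contra hcon
    push Not at hcon
    obtain ⟨n₀, hn₀⟩ := hcon
    apply hβ1
    rw [frobenius_reciprocity N _ _ (isClassFunction_of_isCharacter hβch)]
    unfold classInner
    have hsum : ∑ n : N, β n = 0 := by
      have e : ∑ n : N, β n = β n₀ * ∑ n : N, β n := by
        rw [Finset.mul_sum, ← Equiv.sum_comp (Equiv.mulLeft n₀) (fun n : N => β n)]
        refine Finset.sum_congr rfl fun n _ => ?_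
        simp [hmul]
      have h0 : (1 - β n₀) * ∑ n : N, β n = 0 := by
        rw [sub_mul, one_mul, ← e, sub_self]
      exact (mul_eq_zero.mp h0).resolve_left (sub_ne_zero.mpr (Ne.symm hn₀))
    have e2 : ∑ n : N, (1 : ℂ) * conj (β n) = conj (∑ n : N, β n) := by
      rw [map_sum]; simp
    rw [e2, hsum, map_zero, mul_zero]
  -- β is trivial at good elements
  have hgoodβ : ∀ y : G, ¬ p ∣ (Subgroup.centralizer ({y} : Set G)).index → β y = 1 := by
    intro y hy
    have hcc : centralChar (χ' : G → ℂ) y = β y * centralChar (χ : G → ℂ) y := by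
      unfold centralChar
      rw [← hβχ' y, hdeg]
      ring
    have h1 : MemLocalIdeal M
        (centralChar (fun _ : G => (1 : ℂ)) y - centralChar (χ : G → ℂ) y) := hχ y
    have h2 : MemLocalIdeal M
        (centralChar (fun _ : G => (1 : ℂ)) y - centralChar (χ' : G → ℂ) y) := hχ' y
    have h3 : MemLocalIdeal M ((1 - β y) * centralChar (χ : G → ℂ) y) := by
      have e : (1 - β y) * centralChar (χ : G → ℂ) y =
          (centralChar (fun _ : G => (1 : ℂ)) y - centralChar (χ' : G → ℂ) y) -
            (centralChar (fun _ : G => (1 : ℂ)) y - centralChar (χ : G → ℂ) y) := by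
        rw [hcc]; ring
      rw [e]; exact memLocalIdeal_sub hMp h2 h1
    have hβint : IsIntegral ℤ (β y) := Cfsg.Agent.H81.irr_isIntegral ⟨β, hβ⟩ y
    have hβloc : MemLocalRing M (1 - β y) :=
      memLocalRing_sub hMp (memLocalRing_one hMp) (memLocalRing_algInt hMp ⟨β y, hβint⟩)
    have h4 : MemLocalIdeal M (1 - β y) :=
      (memLocalIdeal_or_of_mul hMp hβloc (centralChar_memLocalRing hMp χ y) h3).resolve_right
        (centralChar_not_mem hM χ hχ y hy)
    apply root_eq_one hM hidx _ h4
    have hpow : ∀ k : ℕ, β (y ^ k) = β y ^ k := by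
      intro k
      induction k with
      | zero => rw [pow_zero, pow_zero, hβone]
      | succ k ih => rw [pow_succ, hmul, ih, pow_succ]
    rw [← hpow]
    exact hβN ⟨_, Subgroup.pow_index_mem N y⟩
  apply Subtype.ext
  rw [← hβχ]
  funext g
  obtain ⟨n, hn⟩ := hgood g
  have hy := hgoodβ _ hn
  rw [hmul, hβN n, one_mul] at hy
  rw [Pi.mul_apply, hy, one_mul]

end Cfsg.Agent.H92.AlperinDade
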