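import Mathlib
import Cfsg.Agent.H50.AmDefs

set_option autoImplicit false

/-!
# S2262 pieces AM-R42 / AM-R52: common tools for real matrices (helper92)

For `RealM g h` (`h = g⁻¹` conjugate to `gᵀ`): every polynomial vanishing at `g` vanishes at `h`;
cancellation of `X`; and `g ^ N = 1` from `X ^ N - 1 = A * R`, `R(g) = 0`.
-/

namespace Cfsg.Agent.H92.Am

open Matrix Polynomial Cfsg.Agent.H50.Am

universe u

variable {F : Type u} [Field F] {d : ℕ}

theorem aeval_transpose_eq (g : Matrix (Fin d) (Fin d) F) (P : F[X]) :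
    aeval gᵀ P = (aeval g P)ᵀ := by
  rw [Polynomial.aeval_eq_sum_range, Polynomial.aeval_eq_sum_range, Matrix.transpose_sum]
  refine Finset.sum_congr rfl fun i _ => ?_
  rw [Matrix.transpose_smul, Matrix.transpose_pow]

theorem conj_pow_eq (c c' m : Matrix (Fin d) (Fin d) F) (hcc : c * c' = 1) (n : ℕ) :
    (c * m * c') ^ n = c * m ^ n * c' := by
  have hc'c : c' * c = 1 := mul_eq_one_comm.mp hcc
  induction n with
  | zero => rw [pow_zero, pow_zero, Matrix.mul_one, hcc]
  | succ n ih =>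
    rw [pow_succ, ih, pow_succ]
    calc c * m ^ n * c' * (c * m * c') = c * m ^ n * (c' * c) * m * c' := by
          simp only [Matrix.mul_assoc]
      _ = c * (m ^ n * m) * c' := by rw [hc'c, Matrix.mul_one, Matrix.mul_assoc c]

theorem aeval_conj_eq (c c' m : Matrix (Fin d) (Fin d) F) (hcc : c * c' = 1) (P : F[X]) :
    aeval (c * m * c') P = c * aeval m P * c' := by
  rw [Polynomial.aeval_eq_sum_range, Polynomial.aeval_eq_sum_range, Finset.mul_sum,
    Finset.sum_mul]
  refine Finset.sum_congr rfl fun i _ => ?_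
  rw [conj_pow_eq c c' m hcc, Matrix.mul_smul, Matrix.smul_mul]

/-- A polynomial vanishing at a real matrix vanishes at its inverse. -/
theorem real_vanish {g h : Matrix (Fin d) (Fin d) F} (hR : RealM g h) (P : F[X])
    (hP : aeval g P = 0) : aeval h P = 0 := by
  obtain ⟨-, c, c', hcc, hh⟩ := hR
  rw [hh, aeval_conj_eq c c' gᵀ hcc, aeval_transpose_eq, hP, Matrix.transpose_zero,
    Matrix.mul_zero, Matrix.zero_mul]

/-- `g ^ (a + b) * h ^ b = g ^ a` when `g * h = 1`. -/
theorem pow_mul_pow_inv {g h : Matrix (Fin d) (Fin d) F} (hgh : g * h = 1) (a b : ℕ) :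
    g ^ (a + b) * h ^ b = g ^ a := by
  induction b with
  | zero => rw [add_zero, pow_zero, Matrix.mul_one]
  | succ b ih =>
    rw [← add_assoc, pow_succ, pow_succ', Matrix.mul_assoc, ← Matrix.mul_assoc g h, hgh,
      Matrix.one_mul, ih]

/-- Cancel a factor `X`. -/
theorem cancelX {g h : Matrix (Fin d) (Fin d) F} (hgh : g * h = 1) (R : F[X])
    (hR : aeval g (X * R) = 0) : aeval g R = 0 := by
  have hhg : h * g = 1 := mul_eq_one_comm.mp hgh
  rw [map_mul, aeval_X] at hR
  have h1 : h * (g * aeval g R) = 0 := by rw [hR, Matrix.mul_zero]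
  rwa [← Matrix.mul_assoc, hhg, Matrix.one_mul] at h1

/-- `g ^ N = 1` from a polynomial identity. -/
theorem pow_eq_one_of_id {g : Matrix (Fin d) (Fin d) F} (R A : F[X]) (N : ℕ)
    (hR : aeval g R = 0) (hid : X ^ N - 1 = A * R) : g ^ N = 1 := by
  have h1 := congrArg (aeval g) hid
  rw [map_mul, hR, mul_zero, map_sub, map_pow, aeval_X, map_one] at h1
  exact sub_eq_zero.mp h1

/-- In a field with two elements every element is `0` or `1`, and `2 = 0`. -/
theorem two_elts [Fintype F] (hF : Fintype.card F = 2) :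
    (2 : F) = 0 ∧ ∀ x : F, x = 0 ∨ x = 1 := by
  refine ⟨?_, fun x => ?_⟩
  · have := Nat.cast_card_eq_zero F
    rw [hF] at this
    exact_mod_cast this
  · have h1 := FiniteField.pow_card x
    rw [hF] at h1
    have h2 : x * (x - 1) = 0 := by linear_combination h1
    rcases mul_eq_zero.mp h2 with h0 | h0
    · exact Or.inl h0
    · exact Or.inr (sub_eq_zero.mp h0)

/-- The constant coefficient of the characteristic polynomial of an invertible matrix. -/
theorem charpoly_coeff_zero_ne {g h : Matrix (Fin d) (Fin d) F} (hgh : g * h = 1) :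
    g.charpoly.coeff 0 ≠ 0 := by
  intro h0
  have hdet := Matrix.det_eq_sign_charpoly_coeff g
  rw [h0, mul_zero] at hdet
  have h1 : g.det * h.det = 1 := by rw [← Matrix.det_mul, hgh, Matrix.det_one]
  rw [hdet, zero_mul] at h1
  exact zero_ne_one h1

/-- One term of the reversal identity. -/
theorem rev_term {g h : Matrix (Fin d) (Fin d) F} (hgh : g * h = 1) (c : F) (a b : ℕ) :
    g ^ (a + b) * aeval h (C c * X ^ b) = aeval g (C c * X ^ a) := by
  rw [map_mul, map_mul, aeval_C, aeval_C, map_pow, map_pow, aeval_X, aeval_X, ← mul_assoc,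
    ← Algebra.commutes c (g ^ (a + b)), mul_assoc, pow_mul_pow_inv hgh]

theorem aeval_of_eq {g : Matrix (Fin d) (Fin d) F} {P R : F[X]} (hP : aeval g P = 0)
    (h : P = R) : aeval g R = 0 := h ▸ hP

theorem add_vanish {g : Matrix (Fin d) (Fin d) F} {P Q : F[X]} (R : F[X])
    (hP : aeval g P = 0) (hQ : aeval g Q = 0) (h : R = P + Q) : aeval g R = 0 := by
  rw [h, map_add, hP, hQ, add_zero]

theorem fin_of {g : Matrix (Fin d) (Fin d) F} (B : ℕ) (R A : F[X]) (N : ℕ) (hN1 : 1 ≤ N)
    (hN : N ≤ B) (hR : aeval g R = 0) (hid : X ^ N - 1 = A * R) :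
    ∃ N : ℕ, 1 ≤ N ∧ N ≤ B ∧ g ^ N = 1 :=
  ⟨N, hN1, hN, pow_eq_one_of_id R A N hR hid⟩

theorem two_X_eq_zero [Fintype F] (hF : Fintype.card F = 2) : (2 : F[X]) = 0 := by
  have e : (C (2 : F) : F[X]) = 2 := map_ofNat C 2
  rw [← e, (two_elts hF).1, map_zero]

end Cfsg.Agent.H92.Am
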