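import Mathlib
import Cfsg.Agent.H50.AmDefs
import Cfsg.Agent.H92.AmBase

set_option autoImplicit false

/-!
# S2262 piece AM-R42 (helper92): real `4 × 4` matrices over the field with two elements

The characteristic polynomial `P = X⁴ + c₃X³ + c₂X² + c₁X + 1` vanishes at `g` and at
`h = g⁻¹`, so the reversed polynomial `Q` vanishes at `g` too.  If `c₁ ≠ c₃` then `P + Q`
gives `g² = 1`; otherwise `P` is one of four explicit polynomials dividing `X^N - 1`, `N ≤ 6`.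
-/

namespace Cfsg.Agent.H92.Am

open Matrix Polynomial Cfsg.Agent.H50.Am

universe u

variable {F : Type u} [Field F]

theorem monic4 (P : F[X]) (hm : P.Monic) (hd : P.natDegree = 4) :
    P = X ^ 4 + C (P.coeff 3) * X ^ 3 + C (P.coeff 2) * X ^ 2 + C (P.coeff 1) * X
      + C (P.coeff 0) := by
  have h := hm.as_sum
  rw [hd] at h
  conv_lhs => rw [h]
  simp only [Finset.sum_range_succ, Finset.sum_range_zero, pow_zero, pow_one, mul_one, zero_add]
  ring

theorem rev4 {g h : Matrix (Fin 4) (Fin 4) F} (hgh : g * h = 1) (c1 c2 c3 : F) :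
    aeval g (X ^ 4 + C c1 * X ^ 3 + C c2 * X ^ 2 + C c3 * X + 1 : F[X]) =
      g ^ 4 * aeval h (X ^ 4 + C c3 * X ^ 3 + C c2 * X ^ 2 + C c1 * X + 1 : F[X]) := by
  have t0 : g ^ 4 * aeval h (C 1 * X ^ 4 : F[X]) = aeval g (C 1 * X ^ 0 : F[X]) :=
    rev_term hgh 1 0 4
  have t1 : g ^ 4 * aeval h (C c3 * X ^ 3 : F[X]) = aeval g (C c3 * X ^ 1 : F[X]) :=
    rev_term hgh c3 1 3
  have t2 : g ^ 4 * aeval h (C c2 * X ^ 2 : F[X]) = aeval g (C c2 * X ^ 2 : F[X]) :=
    rev_term hgh c2 2 2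
  have t3 : g ^ 4 * aeval h (C c1 * X ^ 1 : F[X]) = aeval g (C c1 * X ^ 3 : F[X]) :=
    rev_term hgh c1 3 1
  have t4 : g ^ 4 * aeval h (C 1 * X ^ 0 : F[X]) = aeval g (C 1 * X ^ 4 : F[X]) :=
    rev_term hgh 1 4 0
  have e1 : (X ^ 4 + C c3 * X ^ 3 + C c2 * X ^ 2 + C c1 * X + 1 : F[X]) =
      C 1 * X ^ 4 + C c3 * X ^ 3 + C c2 * X ^ 2 + C c1 * X ^ 1 + C 1 * X ^ 0 := by
    rw [map_one]; ring
  have e2 : (X ^ 4 + C c1 * X ^ 3 + C c2 * X ^ 2 + C c3 * X + 1 : F[X]) =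
      C 1 * X ^ 0 + C c3 * X ^ 1 + C c2 * X ^ 2 + C c1 * X ^ 3 + C 1 * X ^ 4 := by
    rw [map_one]; ring
  rw [e1, e2]
  simp only [map_add, mul_add]
  rw [t0, t1, t2, t3, t4]

theorem r42 : StR42.{u} := by
  intro F _ _ g h hR hF
  obtain ⟨-, h01⟩ := two_elts hF
  have h2X : (2 : F[X]) = 0 := two_X_eq_zero hF
  have hgh := hR.1
  have hmon := Matrix.charpoly_monic g
  have hdeg : g.charpoly.natDegree = 4 := by
    rw [Matrix.charpoly_natDegree_eq_dim, Fintype.card_fin]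
  have h0 : g.charpoly.coeff 0 = 1 := (h01 _).resolve_left (charpoly_coeff_zero_ne hgh)
  obtain ⟨c1, c2, c3, hP⟩ : ∃ c1 c2 c3 : F,
      g.charpoly = X ^ 4 + C c3 * X ^ 3 + C c2 * X ^ 2 + C c1 * X + 1 := by
    refine ⟨g.charpoly.coeff 1, g.charpoly.coeff 2, g.charpoly.coeff 3, ?_⟩
    have h := monic4 g.charpoly hmon hdeg
    rw [h0, map_one] at h
    exact h
  have eP : aeval g (X ^ 4 + C c3 * X ^ 3 + C c2 * X ^ 2 + C c1 * X + 1 : F[X]) = 0 := by
    rw [← hP]; exact Matrix.aeval_self_charpoly g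
  have eH : aeval h (X ^ 4 + C c3 * X ^ 3 + C c2 * X ^ 2 + C c1 * X + 1 : F[X]) = 0 :=
    real_vanish hR _ eP
  have eQ : aeval g (X ^ 4 + C c1 * X ^ 3 + C c2 * X ^ 2 + C c3 * X + 1 : F[X]) = 0 := by
    rw [rev4 hgh, eH, mul_zero]
  clear hP eH
  rcases h01 c1 with rfl | rfl <;> rcases h01 c3 with rfl | rfl
  · -- c1 = c3 = 0
    rcases h01 c2 with rfl | rfl
    · exact fin_of 7 (X ^ 4 + 1) 1 4 (by norm_num) (by norm_num)
        (aeval_of_eq eP (by simp only [map_zero, map_one]; ring))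
        (by linear_combination (-1) * h2X)
    · exact fin_of 7 (X ^ 4 + X ^ 2 + 1) (X ^ 2 - 1) 6 (by norm_num) (by norm_num)
        (aeval_of_eq eP (by simp only [map_zero, map_one]; ring)) (by ring)
  · -- c1 = 0, c3 = 1
    exact fin_of 7 (X ^ 2 + 1) 1 2 (by norm_num) (by norm_num)
      (cancelX hgh _ (add_vanish _ eP eQ (by
        simp only [map_zero, map_one]
        linear_combination (-(X ^ 4 + C c2 * X ^ 2 + 1)) * h2X)))
      (by linear_combination (-1) * h2X)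
  · -- c1 = 1, c3 = 0
    exact fin_of 7 (X ^ 2 + 1) 1 2 (by norm_num) (by norm_num)
      (cancelX hgh _ (add_vanish _ eP eQ (by
        simp only [map_zero, map_one]
        linear_combination (-(X ^ 4 + C c2 * X ^ 2 + 1)) * h2X)))
      (by linear_combination (-1) * h2X)
  · -- c1 = c3 = 1
    rcases h01 c2 with rfl | rfl
    · exact fin_of 7 (X ^ 4 + X ^ 3 + X + 1) (X ^ 2 - X + 1) 6 (by norm_num) (by norm_num)
        (aeval_of_eq eP (by simp only [map_zero, map_one]; ring))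
        (by linear_combination (-(X ^ 3 + 1)) * h2X)
    · exact fin_of 7 (X ^ 4 + X ^ 3 + X ^ 2 + X + 1) (X - 1) 5 (by norm_num) (by norm_num)
        (aeval_of_eq eP (by simp only [map_zero, map_one]; ring)) (by ring)

example : Cfsg.Agent.H50.Am.StR42.{u} := r42

end Cfsg.Agent.H92.Am
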