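import Mathlib
import Cfsg.Agent.H92.BG12Uniq
import Cfsg.Agent.H51.BG10E
import Cfsg.Agent.H70.BG10D
import Cfsg.Agent.H57.BG126
import Cfsg.Agent.Lib.Helper30.Generation

set_option autoImplicit false
set_option linter.style.haveILetI false

/-!
# Bender–Glauberman Proposition 12.4 (= S1416) from Lemma 12.3 (helper92)
-/

namespace Cfsg.Agent.H92.BG12

open Cfsg Subgroup Cfsg.Agent.H58.BG10 Cfsg.Agent.H63.BG11 Cfsg.Agent.H63.Sig
open scoped Pointwise

universe u

variable {G : Type u} [Group G]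

/-- The core of step (ii) of Proposition 12.4 (helper37's `StCentSig`): if `M_α = 1` and
`A` centralizes `M_σ` then `p ∈ σ(M)`. -/
def StCentSig (G : Type u) [Group G] : Prop :=
  ∀ (M : Subgroup G), IsCoatom M → ∀ (p : ℕ) [Fact p.Prime] (A : Subgroup G), A ≤ M →
    IsElementaryAbelian p A → Nat.card A = p ^ 2 → alphaCore M = ⊥ →
    sigmaCore M ≤ centralizer (A : Set G) → p ∈ sigma M

/-- A maximal subgroup `M` contains the normalizer of every nontrivial subgroup it
normalizes. -/
theorem normalizer_le_of_le_normalizer (hG : IsMinSimpleOddOrder G) {M Z : Subgroup G}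
    (hM : IsCoatom M) (hZ1 : Z ≠ ⊥) (hZM : Z ≤ M) (hMZ : M ≤ normalizer (Z : Set G)) :
    normalizer (Z : Set G) ≤ M := by
  have hZtop : Z ≠ ⊤ := fun h => hM.1 (top_le_iff.mp (h ▸ hZM))
  have hN := Cfsg.Agent.Lib.Helper30.minSimple_normalizer_ne_top hG hZ1 hZtop
  by_contra hnle
  exact hN (hM.2 _ (lt_of_le_of_ne hMZ (fun h => hnle h.symm.le)))

/-- A subgroup of order `p` normalized by `M` is "good". -/
theorem good_of_le_normalizer (hG : IsMinSimpleOddOrder G) {M Z : Subgroup G}
    (hM : IsCoatom M) (hZ1 : Z ≠ ⊥) (hZM : Z ≤ M) (hMZ : M ≤ normalizer (Z : Set G)) :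
    normalizer (Z : Set G) ≤ M ∧
      ∀ L : Subgroup G, IsCoatom L → normalizer (Z : Set G) ≤ L → L = M := by
  refine ⟨normalizer_le_of_le_normalizer hG hM hZ1 hZM hMZ, fun L hL hNL => ?_⟩
  by_contra hne
  exact hL.1 (hM.2 L (lt_of_le_of_ne (hMZ.trans hNL) (fun h => hne h.symm)))

/-- A subgroup whose normalizer contains a uniqueness subgroup of `M` is "good". -/
theorem good_of_uniq [Finite G] (hG : IsMinSimpleOddOrder G) {M K Z : Subgroup G}
    (hM : IsCoatom M) (hK : InUniqueMaximal K) (hKM : K ≤ M) (hZ1 : Z ≠ ⊥) (hZM : Z ≤ M)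
    (hKZ : K ≤ normalizer (Z : Set G)) :
    normalizer (Z : Set G) ≤ M ∧
      ∀ L : Subgroup G, IsCoatom L → normalizer (Z : Set G) ≤ L → L = M := by
  have hZtop : Z ≠ ⊤ := fun h => hM.1 (top_le_iff.mp (h ▸ hZM))
  have hN := Cfsg.Agent.Lib.Helper30.minSimple_normalizer_ne_top hG hZ1 hZtop
  exact ⟨le_of_inUniqueMaximal hK hM hKM hKZ hN,
    fun L hL hNL => eq_of_inUniqueMaximal hK hM hKM hL (hKZ.trans hNL)⟩

/-- An element of order dividing `p` commuting with `A ≅ p²` inside a subgroup of `p`-rank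
at most `2` lies in `A`. -/
theorem mem_of_commute_of_rank [Finite G] {p : ℕ} {K A : Subgroup G}
    (hK : PRankLE p 2 ↥K) (hel : IsElementaryAbelian p A) (hcard : Nat.card A = p ^ 2)
    (hAK : A ≤ K) {z : G} (hzK : z ∈ K) (hzA : ∀ b ∈ A, z * b = b * z)
    (hzp : z ^ p = 1) : z ∈ A := by
  by_contra hz
  have hB : IsElementaryAbelian p (A ⊔ zpowers z) :=
    Cfsg.Agent.H70.BG10.sup_zpowers_elementary hel hzA hzp
  have hBK : A ⊔ zpowers z ≤ K := sup_le hAK (zpowers_le.mpr hzK)
  have hlt : p ^ 2 < Nat.card ↥(A ⊔ zpowers z) := by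
    by_contra hle
    push Not at hle
    have hAB : A = A ⊔ zpowers z :=
      Subgroup.eq_of_le_of_card_ge le_sup_left (by rw [hcard]; exact hle)
    apply hz
    rw [hAB]
    exact (le_sup_right : zpowers z ≤ A ⊔ zpowers z) (mem_zpowers z)
  exact Cfsg.Agent.H31.BG8.not_pRankLE_of_le hBK hB hlt hK

/-- A subgroup of order `p` generated by a nontrivial element of an elementary abelian
`p`-group. -/
theorem card_zpowers_of_elementary {p : ℕ} [Fact p.Prime] {A : Subgroup G}
    (hel : IsElementaryAbelian p A) {a : G} (ha : a ∈ A) (ha1 : a ≠ 1) :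
    Nat.card (zpowers a) = p := by
  rw [Nat.card_zpowers]
  exact orderOf_eq_prime (hel.2 a ha) ha1

/-- `C_G(a) ≤ N_G(⟨a⟩)`. -/
theorem centralizer_singleton_le_normalizer_zpowers (a : G) :
    centralizer ({a} : Set G) ≤ normalizer ((zpowers a : Subgroup G) : Set G) := by
  intro x hx
  have hx' : a * x = x * a := (Subgroup.mem_centralizer_singleton_iff.mp hx).symm
  have hc : x ∈ centralizer ((zpowers a : Subgroup G) : Set G) := by
    rw [Subgroup.mem_centralizer_iff]
    rintro _ ⟨k, rfl⟩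
    exact ((Commute.zpow_left (show Commute a x from hx') k)).eq
  exact Subgroup.centralizer_le_normalizer _ hc

/-- `A ≅ p²` elementary abelian is not cyclic. -/
theorem not_isCyclic_of_elementary [Finite G] {p : ℕ} [Fact p.Prime] {A : Subgroup G}
    (hel : IsElementaryAbelian p A) (hcard : Nat.card A = p ^ 2) : ¬ IsCyclic A := by
  intro hcyc
  have hp : p.Prime := Fact.out
  obtain ⟨g, hg⟩ := IsCyclic.exists_ofOrder_eq_natCard (α := A)
  have h1 : g ^ p = 1 := Subtype.ext (by simpa using hel.2 g g.2)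
  have h2 : orderOf g ∣ p := orderOf_dvd_of_pow_eq_one h1
  rw [hg, hcard] at h2
  have h3 := Nat.le_of_dvd hp.pos h2
  have h4 : p < p ^ 2 := by
    calc p = p ^ 1 := (pow_one p).symm
      _ < p ^ 2 := Nat.pow_lt_pow_right hp.one_lt (by norm_num)
  omega

/-- Step (0) of Prop. 12.4: `p ∈ α(M)` gives a good subgroup of order `p`. -/
theorem alphaGood [Finite G] (hG : IsMinSimpleOddOrder G) (h03 : St1403 G) {M : Subgroup G}
    (hM : IsCoatom M) {p : ℕ} [Fact p.Prime] (hpα : p ∈ alpha M) {A : Subgroup G}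
    (hAM : A ≤ M) (hel : IsElementaryAbelian p A) (hcard : Nat.card A = p ^ 2) :
    ∃ A₀ : Subgroup G, A₀ ≤ A ∧ Nat.card A₀ = p ∧ normalizer (A₀ : Set G) ≤ M ∧
      ∀ L : Subgroup G, IsCoatom L → normalizer (A₀ : Set G) ≤ L → L = M := by
  have hp : p.Prime := Fact.out
  have hAp : IsPGroup p A := IsPGroup.of_card hcard
  have hAcomm : ∀ a ∈ A, ∀ b ∈ A, a * b = b * a := fun a ha b hb =>
    congrArg Subtype.val (hel.1.is_comm.comm ⟨a, ha⟩ ⟨b, hb⟩)
  have hpp : p < p ^ 2 := by
    calc p = p ^ 1 := (pow_one p).symm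
      _ < p ^ 2 := Nat.pow_lt_pow_right hp.one_lt (by norm_num)
  have hA1 : A ≠ ⊥ := by
    intro h
    rw [h, Subgroup.card_bot] at hcard
    have := hp.one_lt
    omega
  have hAtop : A ≠ ⊤ := fun h => hM.1 (top_le_iff.mp (h ▸ hAM))
  have hAC : A ≤ centralizer (A : Set G) := fun a ha b hb => hAcomm b hb a ha
  by_cases hC : RankLE 2 ↥(centralizer (A : Set G))
  · obtain ⟨P, hAP⟩ := Cfsg.Agent.H57.BG12.exists_sylow_map_ge hAp hAM
    set S : Subgroup G := (P : Subgroup M).map M.subtype with hS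
    have hSM : S ≤ M := Subgroup.map_subtype_le _
    have hSp : IsPGroup p S := P.isPGroup'.map _
    have hS1 : S ≠ ⊥ := fun h => hA1 (le_bot_iff.mp (h ▸ hAP))
    have hStop : S ≠ ⊤ := fun h => hM.1 (top_le_iff.mp (h ▸ hSM))
    have hSr : ¬ PRankLE p 2 ↥S := not_pRankLE_sylow P hpα.2
    have hSU : InUniqueMaximal S := h03 S hStop
      (not_rankLE_of_not_pRankLE hp (not_pRankLE_mono hp (by norm_num) hSr))
      (Or.inl (not_rankLE_of_not_pRankLE hp hSr))
    have hZ1 := Cfsg.Agent.H51.BG10.omegaZ_ne_bot hSp hS1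
    obtain ⟨z, hz, hz1⟩ : ∃ z ∈ Cfsg.Agent.H51.BG10.omegaZ p S, z ≠ 1 := by
      by_contra h
      push Not at h
      exact hZ1 ((Subgroup.eq_bot_iff_forall _).mpr h)
    obtain ⟨hzS, hzc, hzp⟩ := hz
    have hzA : z ∈ A := mem_of_commute_of_rank (hC p hp) hel hcard hAC
      (fun b hb => hzc b (hAP hb)) (fun b hb => (hzc b (hAP hb)).symm) hzp
    refine ⟨zpowers z, zpowers_le.mpr hzA, card_zpowers_of_elementary hel hzA hz1, ?_⟩
    have hz1' : zpowers z ≠ ⊥ := fun h => hz1 (zpowers_eq_bot.mp h)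
    have hSN : S ≤ normalizer ((zpowers z : Subgroup G) : Set G) := by
      intro s hs
      apply centralizer_singleton_le_normalizer_zpowers
      exact Subgroup.mem_centralizer_singleton_iff.mpr (hzc s hs)
    exact good_of_uniq hG hM hSU hSM hz1' ((zpowers_le.mpr hzA).trans hAM) hSN
  · have hAU : InUniqueMaximal A := h03 A hAtop
      (not_rankLE_one hp hel (by rw [hcard]; exact hpp)) (Or.inr hC)
    obtain ⟨a, ha, ha1⟩ : ∃ a ∈ A, a ≠ 1 := by
      by_contra h
      push Not at h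
      exact hA1 ((Subgroup.eq_bot_iff_forall _).mpr h)
    refine ⟨zpowers a, zpowers_le.mpr ha, card_zpowers_of_elementary hel ha ha1, ?_⟩
    have ha1' : zpowers a ≠ ⊥ := fun h => ha1 (zpowers_eq_bot.mp h)
    have hAN : A ≤ normalizer ((zpowers a : Subgroup G) : Set G) := by
      intro b hb
      apply centralizer_singleton_le_normalizer_zpowers
      exact Subgroup.mem_centralizer_singleton_iff.mpr (hAcomm b hb a ha)
    exact good_of_uniq hG hM hAU hAM ha1' ((zpowers_le.mpr ha).trans hAM) hAN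

/-- B&G Proposition 12.4 (the statement S1416) from Lemma 12.3. -/
theorem bg124 [Finite G] (hG : IsMinSimpleOddOrder G) (h03 : St1403 G) (h05 : St1405 G)
    (h06 : St1406 G) (h50 : St1350 G) (hSC : StSigComm G) (h123 : St123 G)
    (hCS : StCentSig G) : St1416 G := by
  intro M hM p _ A hA
  obtain ⟨hAM, hel, hcard⟩ := hA
  have hp : p.Prime := Fact.out
  have hAp : IsPGroup p A := IsPGroup.of_card hcard
  have hAcomm : ∀ a ∈ A, ∀ b ∈ A, a * b = b * a := fun a ha b hb =>
    congrArg Subtype.val (hel.1.is_comm.comm ⟨a, ha⟩ ⟨b, hb⟩)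
  have hA1 : A ≠ ⊥ := by
    intro h
    rw [h, Subgroup.card_bot] at hcard
    have := Nat.one_lt_pow (n := 2) two_ne_zero hp.one_lt
    omega
  have hAtop : A ≠ ⊤ := fun h => hM.1 (top_le_iff.mp (h ▸ hAM))
  by_cases hgood : ∃ A₀ : Subgroup G, A₀ ≤ A ∧ Nat.card A₀ = p ∧
      normalizer (A₀ : Set G) ≤ M ∧
      ∀ L : Subgroup G, IsCoatom L → normalizer (A₀ : Set G) ≤ L → L = M
  · obtain ⟨A₀, hA₀, hc₀, hN, hL⟩ := hgood
    refine ⟨?_, fun hall => absurd ⟨hN, hL⟩ (hall A₀ hA₀ hc₀)⟩
    exact (Subgroup.centralizer_le hA₀).trans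
      ((Subgroup.centralizer_le_normalizer _).trans hN)
  · -- the all-bad world
    have hbad : ∀ A₀ : Subgroup G, A₀ ≤ A → Nat.card A₀ = p →
        ∃ H : Subgroup G, IsCoatom H ∧ H ≠ M ∧ normalizer (A₀ : Set G) ≤ H := by
      intro A₀ hA₀ hc₀
      have hA₀1 : A₀ ≠ ⊥ := by
        intro h
        rw [h, Subgroup.card_bot] at hc₀
        exact hp.one_lt.ne hc₀
      have hA₀top : A₀ ≠ ⊤ := fun h => hAtop (top_le_iff.mp (h ▸ hA₀))
      have hNtop := Cfsg.Agent.Lib.Helper30.minSimple_normalizer_ne_top hG hA₀1 hA₀top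
      obtain ⟨L, hL, hNL⟩ := Cfsg.Agent.H57.BG12.exists_coatom_ge hNtop
      by_cases hLM : L = M
      · by_contra hno
        push Not at hno
        apply hgood
        refine ⟨A₀, hA₀, hc₀, hLM ▸ hNL, fun L' hL' hNL' => ?_⟩
        by_contra hne
        exact hno L' hL' hne hNL'
      · exact ⟨L, hL, hLM, hNL⟩
    -- (0)
    have hpα : p ∉ alpha M := fun h => hgood (alphaGood hG h03 hM h hAM hel hcard)
    have hrk2 : PRankLE p 2 ↥M := by
      by_contra h
      exact hpα ⟨hp, h⟩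
    obtain ⟨a₀, ha₀, ha₀1⟩ : ∃ a ∈ A, a ≠ 1 := by
      by_contra h
      push Not at h
      exact hA1 ((Subgroup.eq_bot_iff_forall _).mpr h)
    have hncyc : ¬ IsCyclic A := not_isCyclic_of_elementary hel hcard
    haveI : IsMulCommutative A := hel.1
    -- coprime generation
    have gen : ∀ K : Subgroup G, A ≤ normalizer (K : Set G) →
        (Nat.card A).Coprime (Nat.card K) →
        (∀ (A₀ H : Subgroup G), A₀ ≤ A → Nat.card A₀ = p → IsCoatom H → H ≠ M →
          normalizer (A₀ : Set G) ≤ H → K ⊓ H ≤ centralizer (A : Set G)) →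
        K ≤ centralizer (A : Set G) := by
      intro K hAK hcop hK
      have hgen := Cfsg.Agent.Lib.Helper30.genCent_eq hncyc (Nat.card K) K rfl hAK hcop
      rw [← hgen]
      apply iSup₂_le
      rintro a ⟨ha, ha1⟩
      obtain ⟨H, hH, hHM, hNH⟩ := hbad (zpowers a) (zpowers_le.mpr ha)
        (card_zpowers_of_elementary hel ha ha1)
      exact (inf_le_inf_left K
        ((centralizer_singleton_le_normalizer_zpowers a).trans hNH)).trans
        (hK (zpowers a) H (zpowers_le.mpr ha) (card_zpowers_of_elementary hel ha ha1)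
          hH hHM hNH)
    have hAnα : A ≤ normalizer (alphaCore M : Set G) :=
      hAM.trans (Cfsg.Agent.Lib.Helper30.le_normalizer_piCoreOf (alpha M) M)
    have hAnσ : A ≤ normalizer (sigmaCore M : Set G) :=
      hAM.trans (Cfsg.Agent.Lib.Helper30.le_normalizer_piCoreOf (sigma M) M)
    have hcop_of : ∀ π : Set ℕ, p ∉ π → (Nat.card A).Coprime (Nat.card (piCoreOf π M)) := by
      intro π hpπ
      rw [hcard]
      apply Nat.Coprime.pow_left
      rw [Nat.Prime.coprime_iff_not_dvd hp]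
      exact fun h => hpπ (Cfsg.Agent.Lib.Helper30.piCoreOf_isPi π M p hp h)
    -- (i)
    have hα : alphaCore M = ⊥ := by
      by_contra hα1
      have hle : alphaCore M ≤ centralizer (A : Set G) :=
        gen (alphaCore M) hAnα (hcop_of (alpha M) hpα)
          (fun A₀ H hA₀ hc₀ hH hHM hNH =>
            (h123 M H A A₀ p hM hH hHM hAM hel hcard hA₀ hc₀ hNH).2 hpα)
      have hrank : ¬ RankLE 1 ↥(alphaCore M ⊓ centralizer (A : Set G)) := by
        have hc1 : Nat.card (alphaCore M) ≠ 1 := fun h => hα1 (Subgroup.card_eq_one.mp h)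
        obtain ⟨q, hq, hqd⟩ := Nat.exists_prime_and_dvd hc1
        haveI : Fact q.Prime := ⟨hq⟩
        have hqα : q ∈ alpha M := Cfsg.Agent.Lib.Helper30.piCoreOf_isPi (alpha M) M q hq hqd
        obtain ⟨B, hBM, hBc, hBq, hBcard⟩ :=
          Cfsg.Agent.H31.T2.exists_elementary_of_not_pRankLE hqα.2
        have hBe : IsElementaryAbelian q B :=
          ⟨⟨⟨fun a b => Subtype.ext (hBc a a.2 b b.2)⟩⟩, hBq⟩
        have hBp : IsPGroup q B := Cfsg.Agent.H57.BG12.isPGroup_of_elementary hBe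
        have hBα : B ≤ alphaCore M := le_alphaCore_of_mem h05 hM hqα hBp hBM
        have := Cfsg.Agent.H31.BG8.not_pRankLE_of_le (le_inf hBα (hBα.trans hle)) hBe hBcard
        exact not_rankLE_of_not_pRankLE hq (not_pRankLE_mono hq (by norm_num) this)
      have hXα : ∀ r : ℕ, r.Prime → r ∣ Nat.card A → r ∉ alpha M := by
        intro r hr hrA
        rw [hcard] at hrA
        have : r = p := (Nat.prime_dvd_prime_iff_eq hr hp).mp (hr.dvd_of_dvd_pow hrA)
        rw [this]; exact hpα
      have hU : InUniqueMaximal (M ⊓ centralizer (A : Set G)) := h06 M hM A hAM hXα hrank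
      obtain ⟨H, hH, hHM, hNH⟩ := hbad (zpowers a₀) (zpowers_le.mpr ha₀)
        (card_zpowers_of_elementary hel ha₀ ha₀1)
      have hle' : M ⊓ centralizer (A : Set G) ≤ H :=
        inf_le_right.trans ((Subgroup.centralizer_le (zpowers_le.mpr ha₀)).trans
          ((Subgroup.centralizer_le_normalizer _).trans hNH))
      exact hHM (eq_of_inUniqueMaximal hU hM inf_le_left hH hle')
    -- (ii)
    have hpσ : p ∈ sigma M := by
      by_contra hpσ
      have hle : sigmaCore M ≤ centralizer (A : Set G) :=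
        gen (sigmaCore M) hAnσ (hcop_of (sigma M) hpσ)
          (fun A₀ H hA₀ hc₀ hH hHM hNH =>
            (h123 M H A A₀ p hM hH hHM hAM hel hcard hA₀ hc₀ hNH).1 hpσ)
      exact hpσ (hCS M hM p A hAM hel hcard hα hle)
    -- (iii)
    have hσM : sigmaCore M ≤ M := Cfsg.Agent.Lib.Helper30.piCoreOf_le (sigma M) M
    have hnil : Group.IsNilpotent (sigmaCore M) := by
      set Ka : Subgroup ↥M := piCore (alpha M) ↥M with hKa
      haveI : Group.IsNilpotent ↥((commutator ↥M).map (QuotientGroup.mk' Ka)) :=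
        (h05 M hM).2.2.2.2
      let ψ₀ : ↥(sigmaCore M) →* ↥M ⧸ Ka :=
        (QuotientGroup.mk' Ka).comp (Subgroup.inclusion hσM)
      have hmem : ∀ x : ↥(sigmaCore M), ψ₀ x ∈ (commutator ↥M).map (QuotientGroup.mk' Ka) := by
        intro x
        have h1 : (x : G) ∈ ⁅M, M⁆ := Cfsg.Agent.H76.BG10.sigmaCore_le_commutator hSC M hM x.2
        rw [← Subgroup.map_subtype_commutator] at h1
        obtain ⟨y, hy, hyx⟩ := h1
        have h2 : Subgroup.inclusion hσM x = y := Subtype.ext hyx.symm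
        exact ⟨y, hy, by rw [← h2]; rfl⟩
      have hinj : Function.Injective (ψ₀.codRestrict _ hmem) := by
        rw [injective_iff_map_eq_one]
        intro a ha
        have h0 : ψ₀ a = 1 := congrArg Subtype.val ha
        have h1 : Subgroup.inclusion hσM a ∈ Ka := (QuotientGroup.eq_one_iff _).mp h0
        have h2 : (a : G) ∈ alphaCore M := ⟨_, h1, rfl⟩
        rw [hα] at h2
        exact Subtype.ext (Subgroup.mem_bot.mp h2)
      exact Cfsg.Agent.H76.BG10.isNilpotent_of_injective _ hinj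
    refine ⟨?_, fun _ => ⟨hpσ, hα, hnil⟩⟩
    -- (iv)
    obtain ⟨-, -, S_M, hNM⟩ := id hpσ
    obtain ⟨T, hT⟩ := Cfsg.Agent.H31.BG8.sylow_of_normalizer_le S_M hNM
    have hTM : (T : Subgroup G) ≤ M := by
      rw [hT]; exact Subgroup.map_subtype_le _
    have hTσ : (T : Subgroup G) ≤ sigmaCore M :=
      le_sigmaCore_of_mem h50 hM hpσ T.isPGroup' hTM
    have hMT : M ≤ normalizer ((T : Subgroup G) : Set G) := by
      intro n hn
      apply mem_normalizer_of_cj_eq
      have hn' : n ∈ normalizer (sigmaCore M : Set G) :=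
        Cfsg.Agent.Lib.Helper30.le_normalizer_piCoreOf (sigma M) M hn
      have h1 : ((n • T : Sylow p G) : Subgroup G) ≤ sigmaCore M := by
        rw [Sylow.coe_subgroup_smul]
        have := cj_mono n hTσ
        rwa [cj_eq_self_of_mem_normalizer hn'] at this
      have := sylow_eq_of_le_nilpotent hnil (n • T) T h1 hTσ
      rwa [Sylow.coe_subgroup_smul] at this
    have hAT : A ≤ (T : Subgroup G) := by
      haveI : ((T : Subgroup G).subgroupOf M).Normal :=
        (Subgroup.normal_subgroupOf_iff_le_normalizer hTM).mpr hMT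
      have hidx : ¬ p ∣ ((T : Subgroup G).subgroupOf M).index := by
        have := (T.subtype hTM).not_dvd_index
        rwa [Sylow.coe_subtype] at this
      have h1 : A.subgroupOf M ≤ (T : Subgroup G).subgroupOf M :=
        Cfsg.Agent.H14.BG10.le_of_index_coprime _ _ (hAp.comap_subtype)
          (Nat.Coprime.symm ((Nat.Prime.coprime_iff_not_dvd hp).mpr hidx))
      intro a ha
      exact Subgroup.mem_subgroupOf.mp
        (h1 (Subgroup.mem_subgroupOf.mpr ha : (⟨a, hAM ha⟩ : M) ∈ A.subgroupOf M))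
    have hT1 : (T : Subgroup G) ≠ ⊥ := fun h => hA1 (le_bot_iff.mp (h ▸ hAT))
    set Z := Cfsg.Agent.H51.BG10.omegaZ p (T : Subgroup G) with hZ
    have hZ1 : Z ≠ ⊥ := Cfsg.Agent.H51.BG10.omegaZ_ne_bot T.isPGroup' hT1
    have hZA : Z ≤ A := by
      intro z hz
      obtain ⟨hzT, hzc, hzp⟩ := hz
      exact mem_of_commute_of_rank hrk2 hel hcard hAM (hTM hzT)
        (fun b hb => (hzc b (hAT hb)).symm) hzp
    have hMZ : M ≤ normalizer (Z : Set G) :=
      hMT.trans (Cfsg.Agent.H51.BG10.normalizer_le_normalizer_omegaZ p (T : Subgroup G))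
    have hZM : Z ≤ M := hZA.trans hAM
    have hgoodZ := good_of_le_normalizer hG hM hZ1 hZM hMZ
    by_cases hZeq : Z = A
    · rw [← hZeq]
      exact (Subgroup.centralizer_le_normalizer _).trans hgoodZ.1
    · exfalso
      apply hgood
      refine ⟨Z, hZA, ?_, hgoodZ⟩
      have hdvd : Nat.card Z ∣ p ^ 2 := hcard ▸ Subgroup.card_dvd_of_le hZA
      obtain ⟨k, hk, hkc⟩ := (Nat.dvd_prime_pow hp).mp hdvd
      interval_cases k
      · exact absurd (Subgroup.card_eq_one.mp (by simpa using hkc)) hZ1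
      · simpa using hkc
      · exact absurd (Subgroup.eq_of_le_of_card_ge hZA (by rw [hkc, hcard])) hZeq

end Cfsg.Agent.H92.BG12
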