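/-
helper92: extension of principal-block characters across `G = N C_G(P)` (Alperin–Dade type
argument without index restriction).

Let `N ⊴ G`, `P` a Sylow `p`-subgroup of `N` with `G = N C_G(P)`, and let `θ` in the principal
block of `N` extend to `ψ ∈ Irr(G)`.  The centraliser `A` of `N` in the integral group ring is
graded by `G/N`; `omega ψ` and the augmentation are ring homomorphisms on `A` that agree modulo
the maximal ideal on the identity component.  Each component contains a unit modulo `M` (the sum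
of the `N/P`-conjugates of an element of `C_G(P)`), so the two homomorphisms differ by a
homomorphism `G/N → F^×`, which is lifted to a complex linear character `lam` by taking roots of
unity of order prime to `p`.  Then `χ = ψ · lam` is congruent to the augmentation on all of `A`,
which contains the class sums of every intermediate subgroup.
-/
import Mathlib
import Cfsg.Prelude.Def_Blocks
import Cfsg.Agent.H92.AlperinDade
import Cfsg.Agent.H20.CentralChar
import Cfsg.Agent.H4.Integral
import Cfsg.Agent.H4.EquivChar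
import Cfsg.Agent.H82.Rep
import Cfsg.Agent.H16.FTBChar
import Cfsg.Agent.H84.ThirdMain

set_option autoImplicit false
set_option linter.unusedSectionVars false
set_option linter.unusedVariables false
set_option linter.style.haveILetI false

namespace Cfsg.Agent.H92.DadeExt

open Cfsg Cfsg.Agent.H4 Cfsg.Agent.H20

universe u

variable {G : Type u} [Group G] [Fintype G] (N : Subgroup G)

/-- Invariance of the coefficients under conjugation by `N`. -/
def NInv (z : MonoidAlgebra ℂ G) : Prop :=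
  ∀ g : G, ∀ n ∈ N, z.coeff (n * g * n⁻¹) = z.coeff g

/-- Integer coefficients. -/
def IntC (z : MonoidAlgebra ℂ G) : Prop := ∀ g : G, ∃ k : ℤ, z.coeff g = (k : ℂ)

/-- Support inside the coset `N g`. -/
def Supp (g : G) (z : MonoidAlgebra ℂ G) : Prop := ∀ x : G, z.coeff x ≠ 0 → x * g⁻¹ ∈ N

/-- The augmentation. -/
noncomputable def aug (z : MonoidAlgebra ℂ G) : ℂ := ∑ g : G, z.coeff g

theorem ninv_mul {z w : MonoidAlgebra ℂ G} (hz : NInv N z) (hw : NInv N w) : NInv N (z * w) := by
  intro g n hn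
  rw [coeff_mul_fintype, coeff_mul_fintype, ← Equiv.sum_comp (MulAut.conj n).toEquiv]
  apply Finset.sum_congr rfl
  intro y _
  have e1 : ((MulAut.conj n).toEquiv y) = n * y * n⁻¹ := rfl
  have e2 : (n * y * n⁻¹)⁻¹ * (n * g * n⁻¹) = n * (y⁻¹ * g) * n⁻¹ := by group
  rw [e1, hz y n hn, e2, hw _ n hn]

theorem ninv_add {z w : MonoidAlgebra ℂ G} (hz : NInv N z) (hw : NInv N w) : NInv N (z + w) := by
  intro g n hn
  rw [MonoidAlgebra.coeff_add, Finsupp.add_apply, Finsupp.add_apply, hz g n hn, hw g n hn]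

theorem ninv_zero : NInv N (0 : MonoidAlgebra ℂ G) := by
  intro g n hn; simp

theorem ninv_smul (c : ℂ) {z : MonoidAlgebra ℂ G} (hz : NInv N z) : NInv N (c • z) := by
  intro g n hn
  rw [MonoidAlgebra.coeff_smul, Finsupp.smul_apply, Finsupp.smul_apply, hz g n hn]

theorem ninv_one : NInv N (1 : MonoidAlgebra ℂ G) := by
  intro g n hn
  exact isCF_one g n

theorem intC_mul {z w : MonoidAlgebra ℂ G} (hz : IntC z) (hw : IntC w) : IntC (z * w) := by
  intro g
  rw [coeff_mul_fintype]
  choose a ha using hz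
  choose b hb using hw
  refine ⟨∑ x : G, a x * b (x⁻¹ * g), ?_⟩
  push_cast
  exact Finset.sum_congr rfl (fun x _ => by rw [ha, hb])

theorem intC_add {z w : MonoidAlgebra ℂ G} (hz : IntC z) (hw : IntC w) : IntC (z + w) := by
  intro g
  obtain ⟨a, ha⟩ := hz g
  obtain ⟨b, hb⟩ := hw g
  refine ⟨a + b, ?_⟩
  rw [MonoidAlgebra.coeff_add, Finsupp.add_apply, ha, hb]; push_cast; rfl

theorem intC_zero : IntC (0 : MonoidAlgebra ℂ G) := by
  intro g; exact ⟨0, by simp⟩

theorem intC_intSmul (k : ℤ) {z : MonoidAlgebra ℂ G} (hz : IntC z) : IntC ((k : ℂ) • z) := by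
  intro g
  obtain ⟨a, ha⟩ := hz g
  refine ⟨k * a, ?_⟩
  rw [MonoidAlgebra.coeff_smul, Finsupp.smul_apply, ha, smul_eq_mul]; push_cast; rfl

theorem intC_one : IntC (1 : MonoidAlgebra ℂ G) := by
  classical
  intro g
  rw [MonoidAlgebra.one_def, MonoidAlgebra.coeff_single, Finsupp.single_apply]
  split_ifs
  · exact ⟨1, by simp⟩
  · exact ⟨0, by simp⟩

theorem supp_mul [hN : N.Normal] {g h : G} {z w : MonoidAlgebra ℂ G} (hz : Supp N g z)
    (hw : Supp N h w) : Supp N (g * h) (z * w) := by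
  intro x hx
  rw [coeff_mul_fintype] at hx
  obtain ⟨y, -, hy⟩ := Finset.exists_ne_zero_of_sum_ne_zero hx
  have h1 := hz y (left_ne_zero_of_mul hy)
  have h2 := hw _ (right_ne_zero_of_mul hy)
  have e : x * (g * h)⁻¹ = (y * (y⁻¹ * x * h⁻¹) * y⁻¹) * (y * g⁻¹) := by group
  rw [e]
  exact N.mul_mem (hN.conj_mem _ h2 y) h1

theorem supp_congr {g h : G} (hgh : g * h⁻¹ ∈ N) {z : MonoidAlgebra ℂ G} (hz : Supp N g z) :
    Supp N h z := by
  intro x hx
  have h1 := hz x hx
  have e : x * h⁻¹ = (x * g⁻¹) * (g * h⁻¹) := by group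
  rw [e]
  exact N.mul_mem h1 hgh

theorem aug_mul (z w : MonoidAlgebra ℂ G) : aug (z * w) = aug z * aug w := by
  unfold aug
  simp_rw [coeff_mul_fintype]
  rw [Finset.sum_comm, Finset.sum_mul]
  apply Finset.sum_congr rfl
  intro x _
  rw [← Finset.mul_sum]
  congr 1
  exact Equiv.sum_comp (Equiv.mulLeft x⁻¹) (fun g => w.coeff g)

theorem aug_int {z : MonoidAlgebra ℂ G} (hz : IntC z) : ∃ k : ℤ, aug z = (k : ℂ) := by
  choose a ha using hz
  refine ⟨∑ g : G, a g, ?_⟩
  unfold aug
  push_cast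
  exact Finset.sum_congr rfl (fun g _ => ha g)

/-! ### Schur's lemma for `N`-invariant elements -/

theorem ninv_comm_single {z : MonoidAlgebra ℂ G} (hz : NInv N z) {n : G} (hn : n ∈ N) :
    z * MonoidAlgebra.single n 1 = MonoidAlgebra.single n 1 * z := by
  apply MonoidAlgebra.coeff_injective
  ext x
  rw [MonoidAlgebra.coeff_mul_single_apply, MonoidAlgebra.coeff_single_mul_apply, mul_one, one_mul]
  have := hz (x * n⁻¹) n⁻¹ (N.inv_mem hn)
  rw [← this]
  congr 1
  group

section Schur

variable {V : Type*} [AddCommGroup V] [Module ℂ V] [FiniteDimensional ℂ V]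

/-- The restriction of a representation to a subgroup. -/
abbrev resRep (ρ : Representation ℂ G V) (H : Subgroup G) : Representation ℂ H V :=
  MonoidHom.comp ρ H.subtype

theorem resRep_character (ρ : Representation ℂ G V) (H : Subgroup G) (h : H) :
    (resRep ρ H).character h = ρ.character (h : G) := rfl

/-- An `N`-invariant element acts as a scalar on a representation of `G` whose restriction to
`N` is irreducible. -/
theorem asAlgebraHom_eq_smul_of_ninv (ρ : Representation ℂ G V)
    (hirr : (resRep ρ N).IsIrreducible)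
    {z : MonoidAlgebra ℂ G} (hz : NInv N z) :
    ρ.asAlgebraHom z = omega ρ.character z • (1 : Module.End ℂ V) := by
  haveI := hirr
  have hcomm : ∀ n : N, (ρ.asAlgebraHom z) ∘ₗ (resRep ρ N) n
      = (resRep ρ N) n ∘ₗ (ρ.asAlgebraHom z) := by
    intro n
    have h1 : ρ.asAlgebraHom (z * MonoidAlgebra.single (n : G) 1) = ρ.asAlgebraHom z * ρ n := by
      rw [map_mul, Representation.asAlgebraHom_single_one]
    have h2 : ρ.asAlgebraHom (MonoidAlgebra.single (n : G) 1 * z) = ρ n * ρ.asAlgebraHom z := by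
      rw [map_mul, Representation.asAlgebraHom_single_one]
    rw [ninv_comm_single N hz n.2, h2] at h1
    exact h1.symm
  have h := eq_smul_id_of_comm (resRep ρ N) (ρ.asAlgebraHom z) hcomm
  rw [h]
  have htr := trace_asAlgebraHom ρ z
  unfold omega
  rw [Representation.char_one, ← htr]
  rfl

theorem omega_mul_of_ninv (ρ : Representation ℂ G V)
    (hirr : (resRep ρ N).IsIrreducible)
    {z : MonoidAlgebra ℂ G} (hz : NInv N z) (w : MonoidAlgebra ℂ G) :
    omega ρ.character (z * w) = omega ρ.character z * omega ρ.character w := by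
  have h1 := trace_asAlgebraHom ρ (z * w)
  rw [map_mul, asAlgebraHom_eq_smul_of_ninv N ρ hirr hz, smul_mul_assoc, one_mul, map_smul,
    smul_eq_mul, trace_asAlgebraHom] at h1
  unfold omega at h1 ⊢
  rw [← h1]
  ring

end Schur

/-! ### Integrality -/

theorem omega_isIntegral (ψ : G → ℂ) (h1 : ψ 1 ≠ 0)
    (hmul : ∀ z w : MonoidAlgebra ℂ G, NInv N z → omega ψ (z * w) = omega ψ z * omega ψ w)
    {z : MonoidAlgebra ℂ G} (hz : NInv N z) (hzi : IntC z) : IsIntegral ℤ (omega ψ z) := by
  let S : Submodule ℤ ℂ :=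
    { carrier := {x | ∃ w : MonoidAlgebra ℂ G, NInv N w ∧ IntC w ∧ omega ψ w = x}
      add_mem' := by
        rintro _ _ ⟨w, hw, hwi, rfl⟩ ⟨w', hw', hwi', rfl⟩
        exact ⟨w + w', ninv_add N hw hw', intC_add hwi hwi', omega_add ψ w w'⟩
      zero_mem' := ⟨0, ninv_zero N, intC_zero, omega_zero ψ⟩
      smul_mem' := by
        rintro k _ ⟨w, hw, hwi, rfl⟩
        refine ⟨(k : ℂ) • w, ninv_smul N _ hw, intC_intSmul k hwi, ?_⟩
        rw [omega_smul, zsmul_eq_mul] }
  have hne : S ≠ ⊥ := by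
    intro h
    have : (1 : ℂ) ∈ S := ⟨1, ninv_one N, intC_one, omega_one ψ h1⟩
    rw [h, Submodule.mem_bot] at this
    exact one_ne_zero this
  have hfg : S.FG := by
    apply Submodule.FG.of_le (Submodule.fg_span (Set.finite_range (fun g : G => ψ g / ψ 1)))
    rintro _ ⟨w, hw, hwi, rfl⟩
    choose a ha using hwi
    have : omega ψ w = ∑ g : G, a g • (ψ g / ψ 1) := by
      unfold omega
      rw [Finset.sum_div]
      apply Finset.sum_congr rfl
      intro g _
      rw [ha, zsmul_eq_mul, mul_div_assoc]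
    rw [this]
    exact Submodule.sum_mem _ (fun g _ => Submodule.smul_mem _ _ (Submodule.subset_span ⟨g, rfl⟩))
  refine isIntegral_of_smul_mem_submodule S hne hfg (omega ψ z) ?_
  rintro _ ⟨w, hw, hwi, rfl⟩
  exact ⟨z * w, ninv_mul N hz hw, intC_mul hzi hwi, by rw [hmul z w hz, smul_eq_mul]⟩

/-! ### The abstract graded argument -/

/-- The data of the abstract argument. -/
structure Setup (M : Ideal AlgInt) (ψ : G → ℂ) : Prop where
  prime : M.IsPrime
  one_ne : ψ 1 ≠ 0
  mul : ∀ z w : MonoidAlgebra ℂ G, NInv N z → omega ψ (z * w) = omega ψ z * omega ψ w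
  base : ∀ z : MonoidAlgebra ℂ G, NInv N z → IntC z → Supp N 1 z →
    MemLocalIdeal M (omega ψ z - aug z)
  unit : ∀ g : G, ∃ k : MonoidAlgebra ℂ G, NInv N k ∧ IntC k ∧ Supp N g k ∧
    ¬ MemLocalIdeal M (aug k)

/-- The scalar `c` corrects `omega ψ` to the augmentation on the coset of `g`. -/
def Rel (M : Ideal AlgInt) (ψ : G → ℂ) (g : G) (c : ℂ) : Prop :=
  MemLocalRing M c ∧ ∀ z : MonoidAlgebra ℂ G, NInv N z → IntC z → Supp N g z →
    MemLocalIdeal M (c * omega ψ z - aug z)

section Abstract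

variable {N} {M : Ideal AlgInt} {ψ : G → ℂ} (S : Setup N M ψ)
include S

theorem Setup.loc {z : MonoidAlgebra ℂ G} (hz : NInv N z) (hzi : IntC z) :
    MemLocalRing M (omega ψ z) :=
  memLocalRing_algInt S.prime ⟨omega ψ z, omega_isIntegral N ψ S.one_ne S.mul hz hzi⟩

theorem Setup.augloc {z : MonoidAlgebra ℂ G} (hzi : IntC z) : MemLocalRing M (aug z) := by
  obtain ⟨k, hk⟩ := aug_int hzi
  rw [hk]
  exact memLocalRing_intCast S.prime k

theorem Setup.unit' [N.Normal] (g : G) : ∃ k : MonoidAlgebra ℂ G, NInv N k ∧ IntC k ∧ Supp N g k ∧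
    ¬ MemLocalIdeal M (aug k) ∧ ¬ MemLocalIdeal M (omega ψ k) := by
  obtain ⟨k, hk, hki, hks, hka⟩ := S.unit g
  obtain ⟨k', hk', hki', hks', hka'⟩ := S.unit g⁻¹
  refine ⟨k, hk, hki, hks, hka, fun hmem => ?_⟩
  have hs : Supp N 1 (k * k') := by
    have := supp_mul N hks hks'
    rwa [mul_inv_cancel] at this
  have hb := S.base (k * k') (ninv_mul N hk hk') (intC_mul hki hki') hs
  rw [S.mul k k' hk, aug_mul] at hb
  have h1 : MemLocalIdeal M (omega ψ k * omega ψ k') :=
    memLocalIdeal_mul_right S.prime hmem (S.loc hk' hki')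
  have h2 : MemLocalIdeal M (aug k * aug k') := by
    have := memLocalIdeal_sub S.prime h1 hb
    rwa [sub_sub_cancel] at this
  exact not_memLocalIdeal_mul S.prime (S.augloc hki) (S.augloc hki') hka hka' h2

theorem Setup.rel_one : Rel N M ψ 1 1 :=
  ⟨memLocalRing_one S.prime, fun z hz hzi hzs => by rw [one_mul]; exact S.base z hz hzi hzs⟩

theorem Setup.rel_congr {g h : G} {c : ℂ} (hgh : h * g⁻¹ ∈ N) (hr : Rel N M ψ g c) :
    Rel N M ψ h c :=
  ⟨hr.1, fun z hz hzi hzs => hr.2 z hz hzi (supp_congr N hgh hzs)⟩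

theorem Setup.rel_unique [N.Normal] {g : G} {c c' : ℂ} (hr : Rel N M ψ g c)
    (hr' : Rel N M ψ g c') : MemLocalIdeal M (c - c') := by
  obtain ⟨k, hk, hki, hks, hka, hko⟩ := S.unit' g
  have h1 := hr.2 k hk hki hks
  have h2 := hr'.2 k hk hki hks
  have h3 : MemLocalIdeal M ((c - c') * omega ψ k) := by
    have := memLocalIdeal_sub S.prime h1 h2
    have e : c * omega ψ k - aug k - (c' * omega ψ k - aug k) = (c - c') * omega ψ k := by ring
    rwa [e] at this
  exact (memLocalIdeal_or_of_mul S.prime (memLocalRing_sub S.prime hr.1 hr'.1) (S.loc hk hki)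
    h3).resolve_right hko

theorem Setup.rel_of_sub {g : G} {c c' : ℂ} (hr : Rel N M ψ g c) (hc' : MemLocalRing M c')
    (h : MemLocalIdeal M (c' - c)) : Rel N M ψ g c' := by
  refine ⟨hc', fun z hz hzi hzs => ?_⟩
  have e : c' * omega ψ z - aug z = (c' - c) * omega ψ z + (c * omega ψ z - aug z) := by ring
  rw [e]
  exact memLocalIdeal_add S.prime (memLocalIdeal_mul_right S.prime h (S.loc hz hzi))
    (hr.2 z hz hzi hzs)

theorem Setup.rel_exists [N.Normal] (g : G) : ∃ c : ℂ, Rel N M ψ g c := by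
  obtain ⟨k, hk, hki, hks, hka, hko⟩ := S.unit' g
  obtain ⟨k', hk', hki', hks', hka', hko'⟩ := S.unit' g⁻¹
  have hk0 : omega ψ k ≠ 0 := fun h0 => hko (by rw [h0]; exact memLocalIdeal_zero S.prime)
  have hs : Supp N 1 (k * k') := by
    have := supp_mul N hks hks'
    rwa [mul_inv_cancel] at this
  have hb := S.base (k * k') (ninv_mul N hk hk') (intC_mul hki hki') hs
  rw [S.mul k k' hk, aug_mul] at hb
  have hcl : MemLocalRing M (aug k / omega ψ k) :=
    memLocalRing_div S.prime (S.augloc hki) (S.loc hk hki) hko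
  refine ⟨aug k / omega ψ k, hcl, fun z hz hzi hzs => ?_⟩
  have hs' : Supp N 1 (z * k') := by
    have := supp_mul N hzs hks'
    rwa [mul_inv_cancel] at this
  have hb' := S.base (z * k') (ninv_mul N hz hk') (intC_mul hzi hki') hs'
  rw [S.mul z k' hz, aug_mul] at hb'
  have hX : MemLocalRing M (aug k / omega ψ k * omega ψ z - aug z) :=
    memLocalRing_sub S.prime (memLocalRing_mul S.prime hcl (S.loc hz hzi)) (S.augloc hzi)
  have hprod : MemLocalIdeal M ((aug k / omega ψ k * omega ψ z - aug z) *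
      (omega ψ k * omega ψ k')) := by
    have e : (aug k / omega ψ k * omega ψ z - aug z) * (omega ψ k * omega ψ k')
        = aug k * (omega ψ z * omega ψ k' - aug z * aug k')
          - aug z * (omega ψ k * omega ψ k' - aug k * aug k') := by
      field_simp
      ring
    rw [e]
    exact memLocalIdeal_sub S.prime (memLocalIdeal_mul_left S.prime (S.augloc hki) hb')
      (memLocalIdeal_mul_left S.prime (S.augloc hzi) hb)
  exact (memLocalIdeal_or_of_mul S.prime hX
    (memLocalRing_mul S.prime (S.loc hk hki) (S.loc hk' hki')) hprod).resolve_right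
    (not_memLocalIdeal_mul S.prime (S.loc hk hki) (S.loc hk' hki') hko hko')

theorem Setup.rel_mul [N.Normal] {g h : G} {c d : ℂ} (hr : Rel N M ψ g c) (hr' : Rel N M ψ h d) :
    Rel N M ψ (g * h) (c * d) := by
  obtain ⟨e, he⟩ := S.rel_exists (g * h)
  obtain ⟨k, hk, hki, hks, hka, hko⟩ := S.unit' g
  obtain ⟨k', hk', hki', hks', hka', hko'⟩ := S.unit' h
  have h1 := he.2 (k * k') (ninv_mul N hk hk') (intC_mul hki hki') (supp_mul N hks hks')
  rw [S.mul k k' hk, aug_mul] at h1
  have h2 := hr.2 k hk hki hks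
  have h3 := hr'.2 k' hk' hki' hks'
  have hcd : MemLocalRing M (c * d) := memLocalRing_mul S.prime hr.1 hr'.1
  have hprod : MemLocalIdeal M ((c * d - e) * (omega ψ k * omega ψ k')) := by
    have e' : (c * d - e) * (omega ψ k * omega ψ k')
        = (c * omega ψ k - aug k) * (d * omega ψ k') + aug k * (d * omega ψ k' - aug k')
          - (e * (omega ψ k * omega ψ k') - aug k * aug k') := by ring
    rw [e']
    exact memLocalIdeal_sub S.prime (memLocalIdeal_add S.prime
      (memLocalIdeal_mul_right S.prime h2 (memLocalRing_mul S.prime hr'.1 (S.loc hk' hki')))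
      (memLocalIdeal_mul_left S.prime (S.augloc hki) h3)) h1
  have hsub : MemLocalIdeal M (c * d - e) :=
    (memLocalIdeal_or_of_mul S.prime (memLocalRing_sub S.prime hcd he.1)
      (memLocalRing_mul S.prime (S.loc hk hki) (S.loc hk' hki')) hprod).resolve_right
      (not_memLocalIdeal_mul S.prime (S.loc hk hki) (S.loc hk' hki') hko hko')
  exact S.rel_of_sub he hcd hsub

theorem Setup.rel_pow [N.Normal] {g : G} {c : ℂ} (hr : Rel N M ψ g c) (n : ℕ) :
    Rel N M ψ (g ^ n) (c ^ n) := by
  induction n with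
  | zero => rw [pow_zero, pow_zero]; exact S.rel_one
  | succ n ih => rw [pow_succ, pow_succ]; exact S.rel_mul ih hr

end Abstract

/-! ### Lifting residues to roots of unity -/

section Teich

variable {p : ℕ} {M : Ideal AlgInt}

theorem frob (hM : IsPModular p M) {y : ℂ} (hy : MemLocalRing M y) (a : ℕ)
    (h : MemLocalIdeal M (y ^ (p ^ a) - 1)) : MemLocalIdeal M (y - 1) := by
  have hMp := isPrime_of_isPModular hM
  have hy1 : MemLocalRing M (y - 1) := memLocalRing_sub hMp hy (memLocalRing_one hMp)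
  obtain ⟨r, hr⟩ := exists_add_pow_prime_pow_eq hM.1 (⟨y - 1, hy1⟩ : localRing M hMp) 1 a
  have hr' := congrArg (fun t : localRing M hMp => (t : ℂ)) hr
  simp only [Subring.coe_add, Subring.coe_pow, Subring.coe_one, Subring.coe_mul,
    Subring.coe_natCast] at hr'
  have e : (y - 1) ^ (p ^ a) = (y ^ (p ^ a) - 1) - (p : ℂ) * ((y - 1) * (r : ℂ)) := by
    rw [sub_add_cancel, one_pow] at hr'
    rw [hr']; ring
  apply memLocalIdeal_of_pow hMp hy1 (p ^ a)
  rw [e]
  exact memLocalIdeal_sub hMp h (memLocalIdeal_mul_right hMp (memLocalIdeal_natCast_self hM)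
    (memLocalRing_mul hMp hy1 r.2))

theorem exists_mem_of_prod (hMp : M.IsPrime) {ι : Type*} (s : Finset ι) (f : ι → ℂ)
    (hf : ∀ i ∈ s, MemLocalRing M (f i)) (h : MemLocalIdeal M (∏ i ∈ s, f i)) :
    ∃ i ∈ s, MemLocalIdeal M (f i) := by
  classical
  induction s using Finset.induction_on with
  | empty => rw [Finset.prod_empty] at h; exact absurd h (not_memLocalIdeal_one hMp)
  | insert a s ha ih =>
    rw [Finset.prod_insert ha] at h
    rcases memLocalIdeal_or_of_mul hMp (hf a (Finset.mem_insert_self a s))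
      (memLocalRing_prod hMp s f (fun i hi => hf i (Finset.mem_insert_of_mem hi))) h with h1 | h1
    · exact ⟨a, Finset.mem_insert_self a s, h1⟩
    · obtain ⟨i, hi, hi'⟩ := ih (fun i hi => hf i (Finset.mem_insert_of_mem hi)) h1
      exact ⟨i, Finset.mem_insert_of_mem hi, hi'⟩

theorem root_loc (hMp : M.IsPrime) {ζ : ℂ} {m : ℕ} (hm : 0 < m) (hζ : ζ ^ m = 1) :
    MemLocalRing M ζ :=
  memLocalRing_algInt hMp ⟨ζ, IsIntegral.of_pow hm (by rw [hζ]; exact isIntegral_one)⟩

theorem exists_root (hMp : M.IsPrime) {y : ℂ} (hy : MemLocalRing M y) {m : ℕ} (hm : 0 < m)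
    (h : MemLocalIdeal M (y ^ m - 1)) : ∃ ζ : ℂ, ζ ^ m = 1 ∧ MemLocalIdeal M (y - ζ) := by
  have hpoly := Polynomial.X_pow_sub_one_eq_prod hm (Complex.isPrimitiveRoot_exp m hm.ne')
  have hev := congrArg (Polynomial.eval y) hpoly
  simp only [Polynomial.eval_sub, Polynomial.eval_pow, Polynomial.eval_X, Polynomial.eval_one,
    Polynomial.eval_prod, Polynomial.eval_C] at hev
  rw [hev] at h
  obtain ⟨ζ, hζ, hζ'⟩ := exists_mem_of_prod hMp _ _ (fun ζ hζ => memLocalRing_sub hMp hy
    (root_loc hMp hm ((Polynomial.mem_nthRootsFinset hm 1).mp hζ))) h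
  exact ⟨ζ, (Polynomial.mem_nthRootsFinset hm 1).mp hζ, hζ'⟩

theorem root_eq (hM : IsPModular p M) {ζ ζ' : ℂ} {m : ℕ} (hm : ¬ p ∣ m) (hζ : ζ ^ m = 1)
    (hζ' : ζ' ^ m = 1) (h : MemLocalIdeal M (ζ - ζ')) : ζ = ζ' := by
  have hMp := isPrime_of_isPModular hM
  have hm0 : 0 < m := Nat.pos_of_ne_zero (fun h0 => hm (h0 ▸ dvd_zero p))
  have hζ0 : ζ ≠ 0 := by
    rintro rfl
    rw [zero_pow hm0.ne'] at hζ
    exact zero_ne_one hζ
  have hinv : ζ⁻¹ ^ m = 1 := by rw [inv_pow, hζ, inv_one]
  have h1 : (ζ' * ζ⁻¹) ^ m = 1 := by rw [mul_pow, hζ', hinv, one_mul]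
  have h2 : MemLocalIdeal M (1 - ζ' * ζ⁻¹) := by
    have e : 1 - ζ' * ζ⁻¹ = (ζ - ζ') * ζ⁻¹ := by field_simp
    rw [e]
    exact memLocalIdeal_mul_right hMp h (root_loc hMp hm0 hinv)
  have h3 := AlperinDade.root_eq_one hM hm h1 h2
  have h4 : ζ' = ζ := by
    have := congrArg (fun t => t * ζ) h3
    simpa [mul_assoc, inv_mul_cancel₀ hζ0] using this
  exact h4.symm

variable {N} {ψ : G → ℂ}

theorem Setup.exists_lam [N.Normal] (hM : IsPModular p M) (S : Setup N M ψ) :
    ∃ lam : G →* ℂˣ, (∀ n ∈ N, lam n = 1) ∧ ∀ g : G, Rel N M ψ g ((lam g : ℂˣ) : ℂ) := by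
  have hMp := S.prime
  have hidx : N.index ≠ 0 := Subgroup.index_ne_zero_of_finite
  obtain ⟨a, m, hm, he⟩ := Nat.exists_eq_pow_mul_and_not_dvd hidx p hM.1.ne_one
  have hm0 : 0 < m := Nat.pos_of_ne_zero (fun h0 => hm (h0 ▸ dvd_zero p))
  have hex : ∀ g : G, ∃ ζ : ℂ, ζ ^ m = 1 ∧ Rel N M ψ g ζ := by
    intro g
    obtain ⟨c, hc⟩ := S.rel_exists g
    have h1 := S.rel_pow hc N.index
    have h2 : Rel N M ψ (g ^ N.index) 1 :=
      S.rel_congr (by simpa using N.pow_index_mem g) S.rel_one
    have h3 := S.rel_unique h1 h2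
    rw [he, pow_mul'] at h3
    have h4 := frob hM (memLocalRing_pow hMp hc.1 m) a h3
    obtain ⟨ζ, hζ, hζ'⟩ := exists_root hMp hc.1 hm0 h4
    refine ⟨ζ, hζ, S.rel_of_sub hc (root_loc hMp hm0 hζ) ?_⟩
    have := memLocalIdeal_neg hζ'
    rwa [neg_sub] at this
  choose lam0 hlam0 hrel0 using hex
  have hne : ∀ g, lam0 g ≠ 0 := by
    intro g h0
    have := hlam0 g
    rw [h0, zero_pow hm0.ne'] at this
    exact zero_ne_one this
  have hmul : ∀ g h, lam0 (g * h) = lam0 g * lam0 h := by
    intro g h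
    apply root_eq hM hm (hlam0 _) (by rw [mul_pow, hlam0, hlam0, one_mul])
    exact S.rel_unique (hrel0 (g * h)) (S.rel_mul (hrel0 g) (hrel0 h))
  have hN : ∀ n ∈ N, lam0 n = 1 := by
    intro n hn
    apply root_eq hM hm (hlam0 _) (one_pow m)
    exact S.rel_unique (hrel0 n) (S.rel_congr (by simpa using hn) S.rel_one)
  refine ⟨MonoidHom.mk' (fun g => Units.mk0 (lam0 g) (hne g)) (fun g h => by ext; simp [hmul]),
    ?_, ?_⟩
  · intro n hn; ext; simpa using hN n hn
  · intro g; simpa using hrel0 g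

end Teich

/-! ### Sums of singles -/

open scoped Classical in
theorem coeff_sum_single {ι : Type*} (t : Finset ι) (f : ι → G) (c : ι → ℂ) (y : G) :
    (∑ i ∈ t, MonoidAlgebra.single (f i) (c i)).coeff y
      = ∑ i ∈ t, if f i = y then c i else 0 := by
  rw [MonoidAlgebra.coeff_sum, Finsupp.finsetSum_apply]
  apply Finset.sum_congr rfl
  intro i _
  rw [MonoidAlgebra.coeff_single, Finsupp.single_apply]

theorem omega_single (ψ : G → ℂ) (x : G) (c : ℂ) :
    omega ψ (MonoidAlgebra.single x c) = c * ψ x / ψ 1 := by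
  classical
  unfold omega
  congr 1
  simp only [MonoidAlgebra.coeff_single, Finsupp.single_apply]
  rw [Finset.sum_eq_single x]
  · simp
  · intro g _ hg; simp [Ne.symm hg]
  · intro h; exact absurd (Finset.mem_univ _) h

theorem omega_sum_single (ψ : G → ℂ) {ι : Type*} (t : Finset ι) (f : ι → G) (c : ι → ℂ) :
    omega ψ (∑ i ∈ t, MonoidAlgebra.single (f i) (c i)) = (∑ i ∈ t, c i * ψ (f i)) / ψ 1 := by
  rw [omega_sum, Finset.sum_div]
  exact Finset.sum_congr rfl (fun i _ => omega_single ψ (f i) (c i))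

theorem aug_eq_omega (z : MonoidAlgebra ℂ G) : aug z = omega (fun _ => (1 : ℂ)) z := by
  unfold aug omega; simp

theorem aug_sum_single {ι : Type*} (t : Finset ι) (f : ι → G) (c : ι → ℂ) :
    aug (∑ i ∈ t, MonoidAlgebra.single (f i) (c i)) = ∑ i ∈ t, c i := by
  rw [aug_eq_omega, omega_sum_single]; simp

/-! ### The twisted character is congruent to the augmentation -/

theorem Setup.good {M : Ideal AlgInt} {ψ : G → ℂ} [N.Normal] (S : Setup N M ψ) (lam : G →* ℂˣ)
    (hlamN : ∀ n ∈ N, lam n = 1) (hrel : ∀ g : G, Rel N M ψ g ((lam g : ℂˣ) : ℂ))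
    {z : MonoidAlgebra ℂ G} (hz : NInv N z) (hzi : IntC z) :
    MemLocalIdeal M (omega (fun g => ψ g * ((lam g : ℂˣ) : ℂ)) z - aug z) := by
  classical
  have hMp := S.prime
  have h1 : omega (fun g => ψ g * ((lam g : ℂˣ) : ℂ)) z - aug z
      = ∑ q : G ⧸ N, ∑ x ∈ Finset.univ.filter (fun x : G => (x : G ⧸ N) = q),
          (z.coeff x * (ψ x * ((lam x : ℂˣ) : ℂ)) / ψ 1 - z.coeff x) := by
    rw [Finset.sum_fiberwise]
    unfold omega aug
    rw [Finset.sum_sub_distrib, Finset.sum_div]
    simp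
  rw [h1]
  apply memLocalIdeal_sum hMp
  intro q _
  set s := Finset.univ.filter (fun x : G => (x : G ⧸ N) = q) with hs
  set zq : MonoidAlgebra ℂ G := ∑ x ∈ s, MonoidAlgebra.single x (z.coeff x) with hzq
  have hcoef : ∀ y, zq.coeff y = if (y : G ⧸ N) = q then z.coeff y else 0 := by
    intro y
    rw [hzq, coeff_sum_single, Finset.sum_ite_eq']
    simp [hs]
  have hq : ((q.out : G) : G ⧸ N) = q := QuotientGroup.out_eq' q
  have hninv : NInv N zq := by
    intro g n hn
    rw [hcoef, hcoef, hz g n hn]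
    have : ((n * g * n⁻¹ : G) : G ⧸ N) = (g : G ⧸ N) := by
      rw [QuotientGroup.mk_mul, QuotientGroup.mk_mul, (QuotientGroup.eq_one_iff n).mpr hn,
        QuotientGroup.mk_inv, (QuotientGroup.eq_one_iff n).mpr hn]
      simp
    rw [this]
  have hint : IntC zq := by
    intro g
    rw [hcoef]
    split_ifs
    · exact hzi g
    · exact ⟨0, by simp⟩
  have hmemN : ∀ x : G, (x : G ⧸ N) = q → x * (q.out : G)⁻¹ ∈ N := by
    intro x hxq
    rw [← QuotientGroup.eq_one_iff, QuotientGroup.mk_mul, QuotientGroup.mk_inv, hxq, hq,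
      mul_inv_cancel]
  have hsupp : Supp N q.out zq := by
    intro x hx
    rw [hcoef] at hx
    have hxq : (x : G ⧸ N) = q := by by_contra h; exact hx (if_neg h)
    exact hmemN x hxq
  have hr := (hrel q.out).2 zq hninv hint hsupp
  have hl : ∀ x ∈ s, ((lam x : ℂˣ) : ℂ) = ((lam q.out : ℂˣ) : ℂ) := by
    intro x hx
    have hxq : (x : G ⧸ N) = q := (Finset.mem_filter.mp hx).2
    have := hlamN _ (hmemN x hxq)
    rw [map_mul, map_inv, mul_inv_eq_one] at this
    rw [this]
  have e : ∑ x ∈ s, (z.coeff x * (ψ x * ((lam x : ℂˣ) : ℂ)) / ψ 1 - z.coeff x)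
      = ((lam q.out : ℂˣ) : ℂ) * omega ψ zq - aug zq := by
    rw [hzq, omega_sum_single, aug_sum_single, Finset.sum_sub_distrib, ← mul_div_assoc,
      Finset.mul_sum, Finset.sum_div]
    congr 1
    apply Finset.sum_congr rfl
    intro x hx
    rw [hl x hx]; ring
  rw [e]; exact hr

/-! ### The concrete situation -/

section Concrete

variable {V : Type*} [AddCommGroup V] [Module ℂ V] [FiniteDimensional ℂ V]

theorem resRep_irr_of_char (ρ : Representation ℂ G V) (H : Subgroup G) (θ : H → ℂ)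
    (hθ : IsIrrCharacter H θ) (h : ∀ x : H, ρ.character x = θ x) :
    (resRep ρ H).IsIrreducible := by
  obtain ⟨k, σ, hσ, hσc⟩ := hθ
  haveI := hσ
  have hc : σ.character = (resRep ρ H).character := by
    funext x; rw [hσc, resRep_character, h]
  obtain ⟨φ⟩ := equiv_of_character_eq σ (resRep ρ H) hc
  exact Cfsg.Agent.H82.irreducible_of_equiv φ

theorem resRep_irr_of_le (ρ : Representation ℂ G V) {N J : Subgroup G} (hNJ : N ≤ J)
    (h : (resRep ρ N).IsIrreducible) : (resRep ρ J).IsIrreducible := by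
  rw [isIrreducible_iff] at h ⊢
  exact ⟨h.1, fun U hU => h.2 U (fun n v hv => hU ⟨n, hNJ n.2⟩ v hv)⟩

end Concrete

theorem mem_filter_univ_iff' {α : Type*} (q : α → Prop) (instD : DecidablePred q)
    (instF : Fintype α) (a : α) :
    a ∈ @Finset.filter α q instD (@Finset.univ α instF) ↔ q a := by
  rw [Finset.mem_filter]
  exact ⟨fun h => h.2, fun h => ⟨Finset.mem_univ a, h⟩⟩

theorem card_eq_index_of_mem_iff {J : Type*} [Group J] [Finite J] (g : J) (s : Finset J)
    (hs : ∀ y, y ∈ s ↔ IsConj g y) : s.card = (Subgroup.centralizer ({g} : Set J)).index := by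
  classical
  haveI := Fintype.ofFinite J
  rw [← card_conj_eq_index g]
  congr 1
  ext y
  rw [hs, Finset.mem_filter]
  simp

theorem base_of_principal {M : Ideal AlgInt} (hMp : M.IsPrime) (θ : IrrCharacter N)
    (hθ : θ ∈ principalBlock M N) (ψ : G → ℂ) (hψ : ∀ x : N, ψ x = (θ : N → ℂ) x)
    (z : MonoidAlgebra ℂ G) (hz : NInv N z) (hzi : IntC z) (hzs : Supp N 1 z) :
    MemLocalIdeal M (omega ψ z - aug z) := by
  classical
  have hψ1 : ψ 1 = (θ : N → ℂ) 1 := by
    have := hψ 1
    simpa using this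
  have h1 : omega ψ z - aug z
      = ∑ n : N, z.coeff (n : G) * ((θ : N → ℂ) n / (θ : N → ℂ) 1 - 1) := by
    unfold omega aug
    rw [Finset.sum_div, ← Finset.sum_sub_distrib]
    have hvan : ∀ x : G, x ∉ N → z.coeff x * ψ x / ψ 1 - z.coeff x = 0 := by
      intro x hx
      have : z.coeff x = 0 := by
        by_contra h0
        exact hx (by simpa using hzs x h0)
      rw [this]; simp
    rw [← Finset.sum_subset (Finset.subset_univ (Finset.univ.filter (fun x : G => x ∈ N)))
      (fun x _ hx => hvan x (by simpa using hx))]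
    rw [Finset.sum_subtype (Finset.univ.filter (fun x : G => x ∈ N)) (p := fun x => x ∈ N)
      (by simp)]
    apply Finset.sum_congr rfl
    intro n _
    rw [hψ n, hψ1]
    ring
  rw [h1]
  set w : N → ℂ := fun n : N => z.coeff (n : G) * ((θ : N → ℂ) n / (θ : N → ℂ) 1 - 1) with hw
  have key := Cfsg.Agent.H84.sum_mem_of_class_sums (localIdeal M hMp) w ?_ Finset.univ
    (fun _ _ _ => Finset.mem_univ _)
  · exact key
  · intro h
    have hconst : ∀ y : N, IsConj h y → w y = w h := by
      intro y hy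
      obtain ⟨c, hc⟩ := isConj_iff.mp hy
      rw [← hc]
      have hcf : (θ : N → ℂ) (c * h * c⁻¹) = (θ : N → ℂ) h := irr_isClassFunction θ h c
      have hzc : z.coeff ((c * h * c⁻¹ : N) : G) = z.coeff (h : G) := by
        have := hz (h : G) (c : G) c.2
        simpa using this
      simp only [hw]
      rw [hcf, hzc]
    have hsum : ∀ s : Finset N, (∀ y ∈ s, IsConj h y) → ∑ y ∈ s, w y = (s.card : ℂ) * w h := by
      intro s hs
      rw [Finset.sum_congr rfl (fun y hy => hconst y (hs y hy)), Finset.sum_const, nsmul_eq_mul]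
    have hcard : ∀ s : Finset N, (∀ y, y ∈ s ↔ IsConj h y) →
        ∑ y ∈ s, w y ∈ localIdeal M hMp := by
      intro s hs
      rw [hsum s (fun y hy => (hs y).mp hy), card_eq_index_of_mem_iff h s hs]
      have hb : MemLocalIdeal M (centralChar (fun _ : N => (1 : ℂ)) h
          - centralChar (θ : N → ℂ) h) := hθ h
      obtain ⟨k, hk⟩ := hzi (h : G)
      have e : ((Subgroup.centralizer ({h} : Set N)).index : ℂ) * w h
          = -(k : ℂ) * (centralChar (fun _ : N => (1 : ℂ)) h - centralChar (θ : N → ℂ) h) := by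
        unfold centralChar
        simp only [hw]
        rw [hk]; ring
      rw [mem_localIdeal, e]
      exact memLocalIdeal_mul_left hMp (memLocalRing_neg (memLocalRing_intCast hMp k)) hb
    exact hcard _ (fun y => mem_filter_univ_iff' _ _ _ y)

theorem unit_of_cov [hN : N.Normal] {p : ℕ} [Fact p.Prime] {M : Ideal AlgInt}
    (hM : IsPModular p M) (P : Sylow p N)
    (hcov : N ⊔ Subgroup.centralizer (((P : Subgroup N).map N.subtype : Subgroup G) : Set G) = ⊤)
    (g : G) :
    ∃ k : MonoidAlgebra ℂ G, NInv N k ∧ IntC k ∧ Supp N g k ∧ ¬ MemLocalIdeal M (aug k) := by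
  classical
  have hg : g ∈ ((N ⊔ Subgroup.centralizer
      (((P : Subgroup N).map N.subtype : Subgroup G) : Set G) : Subgroup G) : Set G) := by
    rw [hcov]; exact Set.mem_univ g
  rw [Subgroup.normal_mul] at hg
  obtain ⟨n, hn, c, hc, rfl⟩ := Set.mem_mul.mp hg
  have hcP : ∀ u : N, u ∈ (P : Subgroup N) → (u : G) * c = c * (u : G) := by
    intro u hu
    exact Subgroup.mem_centralizer_iff.mp hc (u : G) (Subgroup.mem_map.mpr ⟨u, hu, rfl⟩)
  let F : N ⧸ (P : Subgroup N) → G := fun q => ((q.out : N) : G) * c * ((q.out : N) : G)⁻¹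
  refine ⟨∑ q : N ⧸ (P : Subgroup N), MonoidAlgebra.single (F q) 1, ?_, ?_, ?_, ?_⟩
  · intro x m hm
    rw [coeff_sum_single, coeff_sum_single]
    let m' : N := ⟨m, hm⟩
    have hF : ∀ q : N ⧸ (P : Subgroup N), F (m' • q) = m * F q * m⁻¹ := by
      intro q
      have h1 : ((m' * q.out : N) : N ⧸ (P : Subgroup N))
          = (((m' • q).out : N) : N ⧸ (P : Subgroup N)) := by
        rw [QuotientGroup.out_eq']
        conv_rhs => rw [← QuotientGroup.out_eq' q]
        rfl
      have h2 := QuotientGroup.eq.mp h1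
      have h3 := hcP _ h2
      have h4 : (((m' • q).out : N) : G)
          = m * ((q.out : N) : G) * (((m' * q.out)⁻¹ * (m' • q).out : N) : G) := by
        have hm'c : (m' : G) = m := rfl
        push_cast
        rw [hm'c]
        group
      simp only [F]
      rw [h4]
      set u : G := (((m' * q.out)⁻¹ * (m' • q).out : N) : G) with hu
      have e1 : m * ((q.out : N) : G) * u * c * (m * ((q.out : N) : G) * u)⁻¹
          = m * ((q.out : N) : G) * (u * c) * u⁻¹ * ((q.out : N) : G)⁻¹ * m⁻¹ := by group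
      rw [e1, h3]; group
    rw [← Equiv.sum_comp (MulAction.toPerm m' : N ⧸ (P : Subgroup N) ≃ N ⧸ (P : Subgroup N))]
    apply Finset.sum_congr rfl
    intro q _
    have hiff : (F ((MulAction.toPerm m') q) = m * x * m⁻¹) ↔ (F q = x) := by
      rw [show (MulAction.toPerm m') q = m' • q from rfl, hF]
      constructor
      · intro h
        have := congrArg (fun t => m⁻¹ * t * m) h
        simpa [mul_assoc] using this
      · intro h; rw [h]
    simp only [hiff]
  · intro x
    rw [coeff_sum_single]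
    refine ⟨((Finset.univ.filter (fun q => F q = x)).card : ℤ), ?_⟩
    rw [Finset.sum_ite, Finset.sum_const_zero, add_zero, Finset.sum_const, nsmul_eq_mul, mul_one]
    push_cast; rfl
  · intro x hx
    rw [coeff_sum_single] at hx
    obtain ⟨q, -, hq⟩ := Finset.exists_ne_zero_of_sum_ne_zero hx
    have hFq : F q = x := by by_contra h; exact hq (if_neg h)
    rw [← hFq]
    have e : F q * (n * c)⁻¹ = ((q.out : N) : G) * (c * ((q.out : N) : G)⁻¹ * c⁻¹) * n⁻¹ := by
      simp only [F]; group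
    rw [e]
    exact N.mul_mem (N.mul_mem (q.out).2 (hN.conj_mem _ (N.inv_mem (q.out).2) c)) (N.inv_mem hn)
  · rw [aug_sum_single]
    simp only [Finset.sum_const, Finset.card_univ, nsmul_eq_mul, mul_one]
    rw [memLocalIdeal_natCast_iff hM]
    have : Fintype.card (N ⧸ (P : Subgroup N)) = (P : Subgroup N).index := by
      rw [Subgroup.index, Nat.card_eq_fintype_card]
    rw [this]
    exact P.not_dvd_index

theorem mem_principal_of_good {J : Type*} [Group J] [Fintype J] (f : J →* G)
    (hNf : ∀ n ∈ N, ∃ j : J, f j = n) {M : Ideal AlgInt} (hMp : M.IsPrime) (χ : G → ℂ)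
    (hgood : ∀ z : MonoidAlgebra ℂ G, NInv N z → IntC z → MemLocalIdeal M (omega χ z - aug z))
    (ξ : J → ℂ) (hξcf : IsClassFunction J ξ) (hξ : ∀ j, ξ j = χ (f j)) (y : J) :
    MemLocalIdeal M (centralChar (fun _ : J => (1 : ℂ)) y - centralChar ξ y) := by
  classical
  set C := Finset.univ.filter (fun x : J => IsConj y x) with hC
  set K : MonoidAlgebra ℂ G := ∑ x ∈ C, MonoidAlgebra.single (f x) 1 with hK
  have hninv : NInv N K := by
    intro x n hn
    obtain ⟨j, hj⟩ := hNf n hn
    rw [hK, coeff_sum_single, coeff_sum_single]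
    symm
    apply Finset.sum_equiv (MulAut.conj j).toEquiv
    · intro i
      rw [hC, Finset.mem_filter, Finset.mem_filter]
      simp only [Finset.mem_univ, true_and]
      constructor
      · intro h
        exact h.trans (isConj_iff.mpr ⟨j, rfl⟩)
      · intro h
        exact h.trans (isConj_iff.mpr ⟨j, rfl⟩).symm
    · intro i _
      have e1 : ((MulAut.conj j).toEquiv i) = j * i * j⁻¹ := rfl
      have hiff : (f i = x) ↔ (f ((MulAut.conj j).toEquiv i) = n * x * n⁻¹) := by
        rw [e1, map_mul, map_mul, map_inv, hj]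
        constructor
        · intro h; rw [h]
        · intro h
          have := congrArg (fun t => n⁻¹ * t * n) h
          simpa [mul_assoc] using this
      simp only [hiff]
  have hint : IntC K := by
    intro x
    rw [hK, coeff_sum_single]
    refine ⟨((C.filter (fun q => f q = x)).card : ℤ), ?_⟩
    rw [Finset.sum_ite, Finset.sum_const_zero, add_zero, Finset.sum_const, nsmul_eq_mul, mul_one]
    push_cast; rfl
  have h := hgood K hninv hint
  have hχ1 : χ 1 = ξ 1 := by rw [hξ 1, map_one]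
  have hom : omega χ K = centralChar ξ y := by
    rw [hK, omega_sum_single]
    unfold centralChar
    rw [hχ1]
    congr 1
    have hconst : ∀ x ∈ C, (1 : ℂ) * χ (f x) = ξ y := by
      intro x hx
      obtain ⟨c, hc⟩ := isConj_iff.mp (Finset.mem_filter.mp hx).2
      rw [one_mul, ← hξ, ← hc, hξcf]
    rw [Finset.sum_congr rfl hconst, Finset.sum_const, nsmul_eq_mul, hC, card_conj_eq_index]
  have hau : aug K = centralChar (fun _ : J => (1 : ℂ)) y := by
    rw [hK, aug_sum_single]
    unfold centralChar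
    rw [Finset.sum_const, nsmul_eq_mul, hC, card_conj_eq_index]
    simp
  rw [hom, hau] at h
  have := memLocalIdeal_neg h
  rwa [neg_sub] at this

/-- The main theorem: a member of the principal block of `N` which extends to `G` has an
extension in the principal block of `G` all of whose restrictions to intermediate subgroups
lie in principal blocks, when `G = N C_G(P)` for a Sylow `p`-subgroup `P` of `N`. -/
theorem main (p : ℕ) [Fact p.Prime] (M : Ideal AlgInt) (hM : IsPModular p M) [N.Normal]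
    (P : Sylow p N)
    (hcov : N ⊔ Subgroup.centralizer (((P : Subgroup N).map N.subtype : Subgroup G) : Set G) = ⊤)
    (θ : IrrCharacter N) (hθ : θ ∈ principalBlock M N)
    (ψ : IrrCharacter G) (hψ : ∀ x : N, (ψ : G → ℂ) x = (θ : N → ℂ) x) :
    ∃ χ : IrrCharacter G, χ ∈ principalBlock M G ∧
      (∀ x : N, (χ : G → ℂ) x = (θ : N → ℂ) x) ∧
      ∀ J : Subgroup G, N ≤ J → ∃ ξ : IrrCharacter J, ξ ∈ principalBlock M J ∧
        ∀ y : J, (ξ : J → ℂ) y = (χ : G → ℂ) y := by
  classical
  have hMp := isPrime_of_isPModular hM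
  obtain ⟨n, ρ, hρ, hρc⟩ := ψ.2
  have hirrN : (resRep ρ N).IsIrreducible :=
    resRep_irr_of_char ρ N θ.1 θ.2 (fun x => by rw [hρc]; exact hψ x)
  have S : Setup N M (ψ : G → ℂ) :=
    { prime := hMp
      one_ne := irr_one_ne_zero ψ
      mul := fun z w hz => by rw [← hρc]; exact omega_mul_of_ninv N ρ hirrN hz w
      base := fun z hz hzi hzs => base_of_principal N hMp θ hθ ψ.1 hψ z hz hzi hzs
      unit := fun g => unit_of_cov N hM P hcov g }
  obtain ⟨lam, hlamN, hrel⟩ := S.exists_lam hM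
  have hgood := fun z hz hzi => S.good N lam hlamN hrel (z := z) hz hzi
  set χf : G → ℂ := fun g => (ψ : G → ℂ) g * ((lam g : ℂˣ) : ℂ) with hχf
  have hχirr : IsIrrCharacter G χf := Cfsg.Agent.H16.isIrrCharacter_mul_hom ψ.2 lam
  have hχN : ∀ x : N, χf x = (θ : N → ℂ) x := by
    intro x
    rw [hχf]
    simp only
    rw [hlamN x x.2, hψ x]
    simp
  refine ⟨⟨χf, hχirr⟩, ?_, hχN, ?_⟩
  · intro y
    exact mem_principal_of_good N (MonoidHom.id G) (fun n _ => ⟨n, rfl⟩) hMp χf hgood χf
      (irr_isClassFunction ⟨χf, hχirr⟩) (fun _ => rfl) y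
  · intro J hNJ
    obtain ⟨n', ρ', hρ', hρc'⟩ := hχirr
    have hirrN' : (resRep ρ' N).IsIrreducible :=
      resRep_irr_of_char ρ' N θ.1 θ.2 (fun x => by rw [hρc']; exact hχN x)
    have hirrJ : (resRep ρ' J).IsIrreducible := resRep_irr_of_le ρ' hNJ hirrN'
    have hξ : IsIrrCharacter J (fun y : J => χf y) :=
      ⟨n', resRep ρ' J, hirrJ, by funext y; rw [resRep_character, hρc']⟩
    refine ⟨⟨_, hξ⟩, ?_, fun y => rfl⟩
    intro y
    exact mem_principal_of_good N J.subtype (fun n hn => ⟨⟨n, hNJ hn⟩, rfl⟩) hMp χf hgood _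
      (irr_isClassFunction ⟨_, hξ⟩) (fun _ => rfl) y

end Cfsg.Agent.H92.DadeExt
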