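import Mathlib
import Cfsg.Prelude.Def_MonsterType
import Cfsg.Agent.H92.Basic
import Cfsg.Agent.H92.PGroup

set_option autoImplicit false
open Cfsg
open scoped Pointwise commutatorElement

/-!
Element-wise package for an extraspecial 2-subgroup `Q` of a group `G` whose centralizer in `G` is
its centre `{1, z}` and which is normalized by the centralizer of `z`.
-/

namespace Cfsg.Agent.H92

/-- `Q` is an "extraspecial pair" with central involution `z`: commutators and squares of elements
of `Q` lie in `{1, z}`, the centralizer of `Q` in `G` is `{1, z}`, and the centralizer of `z`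
normalizes `Q`. -/
structure ESPair {G : Type*} [Group G] (Q : Subgroup G) (z : G) : Prop where
  z_mem : z ∈ Q
  z_ne : z ≠ 1
  z_sq : z * z = 1
  z_central : ∀ q ∈ Q, q * z = z * q
  comm : ∀ x ∈ Q, ∀ y ∈ Q, x * y * x⁻¹ * y⁻¹ = 1 ∨ x * y * x⁻¹ * y⁻¹ = z
  sq : ∀ x ∈ Q, x * x = 1 ∨ x * x = z
  cent : ∀ c : G, (∀ q ∈ Q, q * c = c * q) → c = 1 ∨ c = z
  norm : ∀ c : G, c * z = z * c → ∀ q ∈ Q, c * q * c⁻¹ ∈ Q

/-- The hypotheses (L1), (L2) on an extraspecial 2-subgroup give an `ESPair`. -/
theorem ESPair.of_hyp {G : Type*} [Group G] [Finite G] (Q : Subgroup G)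
    (hL1 : Cfsg.IsExtraspecial 2 ↥Q)
    (hL2 : Subgroup.centralizer (Q : Set G) = ((Subgroup.center ↥Q).map Q.subtype))
    (hL3 : Subgroup.centralizer (((Subgroup.center ↥Q).map Q.subtype) : Set G) ≤
      Subgroup.normalizer (Q : Set G)) :
    ∃ z : G, ESPair Q z ∧ ∀ x, x ∈ (Subgroup.center ↥Q).map Q.subtype ↔ x = 1 ∨ x = z := by
  have : Fact (Nat.Prime 2) := ⟨Nat.prime_two⟩
  obtain ⟨z, hzQ, hz1, hzz, hzc, hZ⟩ := extraspecial_center_gen Q hL1
  refine ⟨z, ⟨hzQ, hz1, hzz, hzc, extraspecial_comm Q hL1 z hZ, ?_, ?_, ?_⟩, hZ⟩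
  · intro x hx
    have hQ2 : IsPGroup 2 ↥Q := hL1.1.1
    have h1 : (⟨x, hx⟩ : ↥Q) ^ 2 ∈ frattini ↥Q := pow_mem_frattini hQ2 _
    have hfr : frattini ↥Q = Subgroup.center ↥Q := hL1.1.2.1
    rw [hfr] at h1
    have h2 : x * x ∈ (Subgroup.center ↥Q).map Q.subtype := ⟨_, h1, by simp [pow_two]⟩
    exact (hZ _).mp h2
  · intro c hc
    have : c ∈ Subgroup.centralizer (Q : Set G) := by
      rw [Subgroup.mem_centralizer_iff]; exact hc
    rw [hL2] at this
    exact (hZ c).mp this
  · intro c hc q hq
    have hcC : c ∈ Subgroup.centralizer (((Subgroup.center ↥Q).map Q.subtype) : Set G) := by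
      rw [Subgroup.mem_centralizer_iff]
      intro x hx
      rcases (hZ x).mp hx with rfl | rfl
      · simp
      · exact hc.symm
    exact (Subgroup.mem_normalizer_iff.mp (hL3 hcC) q).mp hq

/-- Conjugation transports an `ESPair`. -/
theorem ESPair.conj {G : Type*} [Group G] {Q : Subgroup G} {z : G} (h : ESPair Q z) (g : G) :
    ESPair (Q.map (MulAut.conj g).toMonoidHom) (g * z * g⁻¹) := by
  have hmem : ∀ x, x ∈ Q.map (MulAut.conj g).toMonoidHom ↔ g⁻¹ * x * g ∈ Q :=
    mem_map_conj_iff Q g
  refine ⟨?_, ?_, ?_, ?_, ?_, ?_, ?_, ?_⟩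
  · rw [hmem]; simpa [mul_assoc] using h.z_mem
  · intro h1
    apply h.z_ne
    have := congrArg (fun t => g⁻¹ * t * g) h1
    simpa [mul_assoc] using this
  · calc g * z * g⁻¹ * (g * z * g⁻¹) = g * (z * z) * g⁻¹ := by simp [mul_assoc]
      _ = 1 := by rw [h.z_sq]; simp
  · intro q hq
    rw [hmem] at hq
    have := h.z_central _ hq
    have := congrArg (fun t => g * t * g⁻¹) this
    simpa [mul_assoc] using this
  · intro x hx y hy
    rw [hmem] at hx hy
    have e : g⁻¹ * (x * y * x⁻¹ * y⁻¹) * g =
        (g⁻¹ * x * g) * (g⁻¹ * y * g) * (g⁻¹ * x * g)⁻¹ * (g⁻¹ * y * g)⁻¹ := by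
      simp [mul_assoc]
    rcases h.comm _ hx _ hy with h1 | h1
    · left
      rw [← e] at h1
      have := congrArg (fun t => g * t * g⁻¹) h1
      simpa [mul_assoc] using this
    · right
      rw [← e] at h1
      have := congrArg (fun t => g * t * g⁻¹) h1
      simpa [mul_assoc] using this
  · intro x hx
    rw [hmem] at hx
    have e : g⁻¹ * (x * x) * g = (g⁻¹ * x * g) * (g⁻¹ * x * g) := by simp [mul_assoc]
    rcases h.sq _ hx with h1 | h1
    · left
      rw [← e] at h1
      have := congrArg (fun t => g * t * g⁻¹) h1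
      simpa [mul_assoc] using this
    · right
      rw [← e] at h1
      have := congrArg (fun t => g * t * g⁻¹) h1
      simpa [mul_assoc] using this
  · intro c hc
    have hc' : ∀ q ∈ Q, q * (g⁻¹ * c * g) = (g⁻¹ * c * g) * q := by
      intro q hq
      have hq' : g * q * g⁻¹ ∈ Q.map (MulAut.conj g).toMonoidHom := by
        rw [hmem]; simpa [mul_assoc] using hq
      have := hc _ hq'
      have := congrArg (fun t => g⁻¹ * t * g) this
      simpa [mul_assoc] using this
    rcases h.cent _ hc' with h1 | h1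
    · left
      have := congrArg (fun t => g * t * g⁻¹) h1
      simpa [mul_assoc] using this
    · right
      have := congrArg (fun t => g * t * g⁻¹) h1
      simpa [mul_assoc] using this
  · intro c hc q hq
    rw [hmem] at hq ⊢
    have hc' : (g⁻¹ * c * g) * z = z * (g⁻¹ * c * g) := by
      have := congrArg (fun t => g⁻¹ * t * g) hc
      simpa [mul_assoc] using this
    have := h.norm _ hc' _ hq
    simpa [mul_assoc] using this

/-- If every conjugate of `t` by an element of the finite subgroup `H` is `t` or `c`, the centralizer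
of `t` in `H` has index at most 2. -/
theorem card_le_two_mul_centralizer {G : Type*} [Group G] (H : Subgroup G) [Finite H] (t c : G)
    (h : ∀ x ∈ H, x * t * x⁻¹ = t ∨ x * t * x⁻¹ = c) :
    Nat.card H ≤ 2 * Nat.card ↥(H ⊓ Subgroup.centralizer {t}) := by
  classical
  have hmemC : ∀ x : G, x * t * x⁻¹ = t → x ∈ Subgroup.centralizer ({t} : Set G) := by
    intro x hx
    rw [Subgroup.mem_centralizer_singleton_iff]
    have := congrArg (fun u => u * x) hx
    simpa [mul_assoc] using this
  have hfin : Finite ↥(H ⊓ Subgroup.centralizer ({t} : Set G)) :=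
    Finite.of_injective _ (Subgroup.inclusion_injective (inf_le_left : H ⊓ _ ≤ H))
  by_cases hex : ∃ q ∈ H, q * t * q⁻¹ ≠ t
  · obtain ⟨q, hq, hqt⟩ := hex
    have hqc : q * t * q⁻¹ = c := (h q hq).resolve_left hqt
    have hmem2 : ∀ x ∈ H, x * t * x⁻¹ ≠ t → q⁻¹ * x ∈ H ⊓ Subgroup.centralizer ({t} : Set G) := by
      intro x hx hxt
      refine ⟨H.mul_mem (H.inv_mem hq) hx, ?_⟩
      apply hmemC
      have hxc : x * t * x⁻¹ = c := (h x hx).resolve_left hxt
      calc q⁻¹ * x * t * (q⁻¹ * x)⁻¹ = q⁻¹ * (x * t * x⁻¹) * q := by simp [mul_assoc]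
        _ = q⁻¹ * (q * t * q⁻¹) * q := by rw [hxc, hqc]
        _ = t := by simp [mul_assoc]
    let f : H → ↥(H ⊓ Subgroup.centralizer ({t} : Set G)) × Bool := fun x =>
      if hx : (x : G) * t * (x : G)⁻¹ = t then (⟨x, x.2, hmemC x hx⟩, true)
      else (⟨q⁻¹ * x, hmem2 x x.2 hx⟩, false)
    have hinj : Function.Injective f := by
      intro x x' hxx
      simp only [f] at hxx
      by_cases h1 : (x : G) * t * (x : G)⁻¹ = t <;> by_cases h2 : (x' : G) * t * (x' : G)⁻¹ = t
      · rw [dif_pos h1, dif_pos h2] at hxx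
        have := congrArg (fun p => (p.1 : G)) hxx
        exact Subtype.ext this
      · rw [dif_pos h1, dif_neg h2] at hxx
        have := congrArg Prod.snd hxx
        simp at this
      · rw [dif_neg h1, dif_pos h2] at hxx
        have := congrArg Prod.snd hxx
        simp at this
      · rw [dif_neg h1, dif_neg h2] at hxx
        have := congrArg (fun p => (p.1 : G)) hxx
        simp only at this
        exact Subtype.ext (mul_left_cancel this)
    have := Nat.card_le_card_of_injective f hinj
    rw [Nat.card_prod, Nat.card_eq_fintype_card (α := Bool), Fintype.card_bool] at this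
    omega
  · have hle : H ≤ Subgroup.centralizer ({t} : Set G) := by
      intro x hx
      apply hmemC
      by_contra hne
      exact hex ⟨x, hx, hne⟩
    rw [inf_eq_left.mpr hle]
    omega

namespace ESPair

variable {G : Type*} [Group G] {Q : Subgroup G} {z : G}

theorem z_inv (h : ESPair Q z) : z⁻¹ = z := inv_eq_of_mul_eq_one_left h.z_sq

/-- conjugates of `s` within `Q` are `s` or `z * s`. -/
theorem conj_eq (h : ESPair Q z) {x s : G} (hx : x ∈ Q) (hs : s ∈ Q) :
    x * s * x⁻¹ = s ∨ x * s * x⁻¹ = z * s := by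
  rcases h.comm x hx s hs with h1 | h1
  · left
    have := congrArg (fun t => t * s) h1
    simpa [mul_assoc] using this
  · right
    have := congrArg (fun t => t * s) h1
    simpa [mul_assoc] using this

/-- a noncentral element `s` of `Q` is conjugate in `Q` to `z * s`. -/
theorem exists_conj (h : ESPair Q z) {s : G} (hs : s ∈ Q) (hs1 : s ≠ 1) (hsz : s ≠ z) :
    ∃ q ∈ Q, q * s * q⁻¹ = z * s := by
  by_contra hcon
  have : ∀ q ∈ Q, q * s = s * q := by
    intro q hq
    rcases h.conj_eq hq hs with h1 | h1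
    · have := congrArg (fun t => t * q) h1
      simpa [mul_assoc] using this
    · exact absurd ⟨q, hq, h1⟩ hcon
  rcases h.cent s this with h1 | h1
  · exact hs1 h1
  · exact hsz h1

/-- `Q = C_Q(s) ∪ q C_Q(s)` when `q s q⁻¹ = z s`. -/
theorem coset (h : ESPair Q z) {s q : G} (hq : q * s * q⁻¹ = z * s) {x : G} (hx : x ∈ Q)
    (hs : s ∈ Q) : x * s = s * x ∨ (q⁻¹ * x) * s = s * (q⁻¹ * x) := by
  rcases h.conj_eq hx hs with h1 | h1
  · left
    have := congrArg (fun t => t * x) h1
    simpa [mul_assoc] using this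
  · right
    have h2 : x * s * x⁻¹ = q * s * q⁻¹ := by rw [h1, hq]
    have := congrArg (fun t => q⁻¹ * t * x) h2
    simpa [mul_assoc] using this

/-- an element of `Q` commuting with `q` and with `C_Q(s)` is central (`q s q⁻¹ = z s`). -/
theorem central_of_comm (h : ESPair Q z) {s q t : G} (hs : s ∈ Q) (hqQ : q ∈ Q)
    (hq : q * s * q⁻¹ = z * s)
    (htq : q * t = t * q) (htA : ∀ a ∈ Q, a * s = s * a → a * t = t * a) :
    ∀ x ∈ Q, x * t = t * x := by
  intro x hx
  rcases h.coset hq hx hs with h1 | h1
  · exact htA x hx h1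
  · have h2 := htA (q⁻¹ * x) (Q.mul_mem (Q.inv_mem hqQ) hx) h1
    have h3 : q⁻¹ * t = t * q⁻¹ := by
      have := congrArg (fun u => q⁻¹ * u * q⁻¹) htq
      simpa [mul_assoc] using this.symm
    calc x * t = q * (q⁻¹ * x * t) := by simp [mul_assoc]
      _ = q * (t * (q⁻¹ * x)) := by rw [h2]
      _ = (q * t) * q⁻¹ * x := by simp [mul_assoc]
      _ = t * x := by rw [htq]; simp [mul_assoc]

/-- Double centralizer: an element of `Q` commuting with `C_Q(s)` lies in `{1, z, s, z s}`. -/
theorem dcent (h : ESPair Q z) {s t : G} (hs : s ∈ Q) (hs1 : s ≠ 1) (hsz : s ≠ z) (ht : t ∈ Q)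
    (htA : ∀ a ∈ Q, a * s = s * a → a * t = t * a) :
    t = 1 ∨ t = z ∨ t * s = 1 ∨ t * s = z := by
  obtain ⟨q, hqQ, hq⟩ := h.exists_conj hs hs1 hsz
  rcases h.conj_eq hqQ ht with h1 | h1
  · have htq : q * t = t * q := by
      have := congrArg (fun u => u * q) h1
      simpa [mul_assoc] using this
    rcases h.cent t (h.central_of_comm hs hqQ hq htq htA) with h2 | h2
    · exact Or.inl h2
    · exact Or.inr (Or.inl h2)
  · -- q (t s) q⁻¹ = t s
    have hzt : t * z = z * t := h.z_central t ht
    have h2 : q * (t * s) = (t * s) * q := by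
      have e : q * (t * s) * q⁻¹ = (q * t * q⁻¹) * (q * s * q⁻¹) := by simp [mul_assoc]
      have e2 : q * (t * s) * q⁻¹ = t * s := by
        rw [e, h1, hq]
        calc z * t * (z * s) = (z * (t * z)) * s := by simp [mul_assoc]
          _ = (z * (z * t)) * s := by rw [hzt]
          _ = t * s := by rw [← mul_assoc z z t, h.z_sq, one_mul]
      have := congrArg (fun u => u * q) e2
      simpa [mul_assoc] using this
    have h3 : ∀ a ∈ Q, a * s = s * a → a * (t * s) = (t * s) * a := by
      intro a ha has
      rw [← mul_assoc, htA a ha has, mul_assoc, has, mul_assoc]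
    rcases h.cent (t * s) (h.central_of_comm hs hqQ hq h2 h3) with h4 | h4
    · exact Or.inr (Or.inr (Or.inl h4))
    · exact Or.inr (Or.inr (Or.inr h4))

/-- In an `ESPair` of order at least 32, the centralizer in `Q` of a noncentral element contains a
square root of `z`. -/
theorem exists_sqrt (h : ESPair Q z) [Finite Q] (hcard : 32 ≤ Nat.card Q) {s : G} (hs : s ∈ Q)
    (hs1 : s ≠ 1) (hsz : s ≠ z) : ∃ y ∈ Q, y * s = s * y ∧ y * y = z := by
  by_contra hno
  have hsq1 : ∀ y ∈ Q, y * s = s * y → y * y = 1 := by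
    intro y hy hys
    rcases h.sq y hy with h1 | h1
    · exact h1
    · exact absurd ⟨y, hy, hys, h1⟩ hno
  obtain ⟨q, hqQ, hq⟩ := h.exists_conj hs hs1 hsz
  -- C_Q(s) is abelian
  have hab : ∀ a ∈ Q, a * s = s * a → ∀ b ∈ Q, b * s = s * b → a * b = b * a := by
    intro a ha has b hb hbs
    have h1 := hsq1 a ha has
    have h2 := hsq1 b hb hbs
    have h3 : (a * b) * (a * b) = 1 := by
      apply hsq1 _ (Q.mul_mem ha hb)
      rw [mul_assoc, hbs, ← mul_assoc, has, mul_assoc]
    have ha' : a⁻¹ = a := inv_eq_of_mul_eq_one_left h1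
    have hb' : b⁻¹ = b := inv_eq_of_mul_eq_one_left h2
    have h4 : (a * b)⁻¹ = a * b := inv_eq_of_mul_eq_one_left h3
    rw [mul_inv_rev, ha', hb'] at h4
    exact h4.symm
  -- cardinalities
  have c1 := card_le_two_mul_centralizer Q s (z * s) (fun x hx => h.conj_eq hx hs)
  have hfinA : Finite ↥(Q ⊓ Subgroup.centralizer ({s} : Set G)) :=
    Finite.of_injective _ (Subgroup.inclusion_injective (inf_le_left : Q ⊓ _ ≤ Q))
  have c2 := card_le_two_mul_centralizer (Q ⊓ Subgroup.centralizer ({s} : Set G)) q (z * q)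
    (fun x hx => h.conj_eq hx.1 hqQ)
  have hzo : orderOf z = 2 := orderOf_eq_prime (by rw [pow_two]; exact h.z_sq) h.z_ne
  have hB : (Q ⊓ Subgroup.centralizer ({s} : Set G)) ⊓ Subgroup.centralizer ({q} : Set G) ≤
      Subgroup.zpowers z := by
    intro b hb
    have hbQ : b ∈ Q := hb.1.1
    have hbs : b ∈ Subgroup.centralizer ({s} : Set G) := hb.1.2
    have hbq : b ∈ Subgroup.centralizer ({q} : Set G) := hb.2
    rw [Subgroup.mem_centralizer_singleton_iff] at hbs hbq
    have hcen : ∀ x ∈ Q, x * b = b * x := by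
      apply h.central_of_comm hs hqQ hq hbq.symm
      intro a ha has
      exact hab a ha has b hbQ hbs
    rcases h.cent b hcen with h1 | h1
    · rw [h1]; exact Subgroup.one_mem _
    · rw [h1]; exact Subgroup.mem_zpowers z
  have hfinZ : Finite ↥(Subgroup.zpowers z) :=
    Nat.finite_of_card_ne_zero (by rw [Nat.card_zpowers, hzo]; norm_num)
  have c3 := Subgroup.card_le_of_le hB
  rw [Nat.card_zpowers, hzo] at c3
  omega

end ESPair

/-- Abstract descent: on an elementary abelian 2-group, an endomorphism `T` with `T⁴ = 1` whose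
square has no more fixed points than `T` is the identity. -/
theorem descent_abstract {U : Type*} [Group U] (hc : ∀ u v : U, u * v = v * u)
    (hs : ∀ u : U, u * u = 1) (T : U → U) (hT : ∀ u v, T (u * v) = T u * T v)
    (hT4 : ∀ u, T (T (T (T u))) = u) (hker : ∀ u, T (T u) = u → T u = u) : ∀ u, T u = u := by
  intro a
  have h1 : T (a * T (T a)) = a * T (T a) := by
    apply hker
    rw [hT, hT, hT4]
    exact hc _ _
  rw [hT] at h1
  -- h1 : T a * T (T (T a)) = a * T (T a)
  have h2 : T (a * T a) = a * T a := by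
    apply hker
    rw [hT, hT]
    -- goal: T (T a) * T (T (T a)) = a * T a
    have e : T (T (T a)) = T a * (a * T (T a)) := by
      rw [← h1, ← mul_assoc, hs, one_mul]
    rw [e]
    calc T (T a) * (T a * (a * T (T a))) = T (T a) * (T a * (T (T a) * a)) := by rw [hc a]
      _ = T (T a) * (T (T a) * (T a * a)) := by
          rw [← mul_assoc (T a), hc (T a) (T (T a)), mul_assoc]
      _ = T a * a := by rw [← mul_assoc, hs, one_mul]
      _ = a * T a := hc _ _
  rw [hT] at h2
  -- h2 : T a * T (T a) = a * T a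
  have h3 : T (T a) = a := by
    have : T a * T (T a) = T a * a := by rw [h2, hc]
    exact mul_left_cancel this
  exact hker a h3

/-- Descent on a subgroup `P` with a central involution `s` such that `P/⟨s⟩` is elementary
abelian, for an element `y` normalizing `P`, centralizing `s`, with `y⁴ = 1`. -/
theorem descent {G : Type*} [Group G] (P : Subgroup G) (s y : G)
    (hsP : s ∈ P) (hss : s * s = 1) (hsc : ∀ x ∈ P, x * s = s * x)
    (hcomm : ∀ a ∈ P, ∀ b ∈ P, a * b = b * a ∨ a * b = b * a * s)
    (hsq : ∀ a ∈ P, a * a = 1 ∨ a * a = s)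
    (hyP : ∀ x ∈ P, y * x * y⁻¹ ∈ P) (hys : y * s = s * y) (hy4 : y * y * (y * y) = 1)
    (H : ∀ x ∈ P, ((y * y) * x * (y * y)⁻¹ = x ∨ (y * y) * x * (y * y)⁻¹ = x * s) →
        (y * x * y⁻¹ = x ∨ y * x * y⁻¹ = x * s)) :
    ∀ x ∈ P, y * x * y⁻¹ = x ∨ y * x * y⁻¹ = x * s := by
  -- the subgroup {1, s} of P
  let s' : ↥P := ⟨s, hsP⟩
  have hs's' : s' * s' = 1 := Subtype.ext hss
  have hs'inv : s'⁻¹ = s' := inv_eq_of_mul_eq_one_left hs's'
  have hs'c : ∀ x : ↥P, x * s' = s' * x := fun x => Subtype.ext (hsc x x.2)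
  let K : Subgroup ↥P :=
    { carrier := {x | x = 1 ∨ x = s'}
      mul_mem' := by
        rintro a b (rfl | rfl) (rfl | rfl)
        · left; simp
        · right; simp
        · right; simp
        · left; exact hs's'
      one_mem' := Or.inl rfl
      inv_mem' := by
        rintro a (rfl | rfl)
        · left; simp
        · right; exact hs'inv }
  have hKmem : ∀ x : ↥P, x ∈ K ↔ x = 1 ∨ x = s' := fun x => Iff.rfl
  have hKn : K.Normal := by
    constructor
    intro n hn g
    rcases hn with rfl | rfl
    · left; simp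
    · right
      rw [hs'c g]; simp
  -- quotient facts
  have hmk : ∀ a b : ↥P, (QuotientGroup.mk a : ↥P ⧸ K) = QuotientGroup.mk b ↔ (b = a ∨ b = a * s') := by
    intro a b
    rw [QuotientGroup.eq, hKmem]
    constructor
    · rintro (h | h)
      · left
        have := congrArg (fun t => a * t) h
        simpa using this
      · right
        have := congrArg (fun t => a * t) h
        simpa using this
    · rintro (h | h)
      · left; rw [h]; simp
      · right; rw [h]; simp
  have hc : ∀ u v : ↥P ⧸ K, u * v = v * u := by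
    intro u v
    induction u using QuotientGroup.induction_on with
    | H a =>
      induction v using QuotientGroup.induction_on with
      | H b =>
        rw [← QuotientGroup.mk_mul, ← QuotientGroup.mk_mul, eq_comm, hmk]
        rcases hcomm a a.2 b b.2 with h | h
        · left; exact Subtype.ext h
        · right; exact Subtype.ext h
  have hsU : ∀ u : ↥P ⧸ K, u * u = 1 := by
    intro u
    induction u using QuotientGroup.induction_on with
    | H a =>
      rw [← QuotientGroup.mk_mul, QuotientGroup.eq_one_iff, hKmem]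
      rcases hsq a a.2 with h | h
      · left; exact Subtype.ext h
      · right; exact Subtype.ext h
  -- conjugation by y on P
  let f : ↥P →* ↥P :=
    { toFun := fun x => ⟨y * x * y⁻¹, hyP x x.2⟩
      map_one' := by apply Subtype.ext; simp
      map_mul' := by intro a b; apply Subtype.ext; simp [mul_assoc] }
  have hfK : K ≤ K.comap f := by
    intro n hn
    rw [Subgroup.mem_comap, hKmem]
    rcases hn with rfl | rfl
    · left; simp
    · right
      apply Subtype.ext
      show y * s * y⁻¹ = s
      rw [hys]; simp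
  let T : ↥P ⧸ K →* ↥P ⧸ K := QuotientGroup.map K K f hfK
  have hTmk : ∀ a : ↥P, T (QuotientGroup.mk a) = QuotientGroup.mk (f a) := fun a =>
    QuotientGroup.map_mk K K f hfK a
  have hyinv : (y * y)⁻¹ = y * y := inv_eq_of_mul_eq_one_left hy4
  have key := descent_abstract hc hsU T (fun u v => map_mul T u v) ?_ ?_
  · intro x hx
    have := key (QuotientGroup.mk ⟨x, hx⟩)
    rw [hTmk, eq_comm, hmk] at this
    rcases this with h | h
    · left; exact congrArg Subtype.val h
    · right; exact congrArg Subtype.val h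
  · intro u
    induction u using QuotientGroup.induction_on with
    | H a =>
      rw [hTmk, hTmk, hTmk, hTmk]
      congr 1
      apply Subtype.ext
      show y * (y * (y * (y * a * y⁻¹) * y⁻¹) * y⁻¹) * y⁻¹ = a
      calc y * (y * (y * (y * a * y⁻¹) * y⁻¹) * y⁻¹) * y⁻¹
          = (y * y * (y * y)) * a * (y * y * (y * y))⁻¹ := by simp [mul_assoc]
        _ = a := by rw [hy4]; simp
  · intro u
    induction u using QuotientGroup.induction_on with
    | H a =>
      intro h
      rw [hTmk, hTmk, eq_comm, hmk] at h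
      rw [hTmk, eq_comm, hmk]
      have h' : (y * y) * (a : G) * (y * y)⁻¹ = a ∨ (y * y) * (a : G) * (y * y)⁻¹ = a * s := by
        rcases h with h | h
        · left
          have := congrArg Subtype.val h
          simp only [f, MonoidHom.coe_mk, OneHom.coe_mk] at this
          calc y * y * (a : G) * (y * y)⁻¹ = y * (y * (a : G) * y⁻¹) * y⁻¹ := by simp [mul_assoc]
            _ = a := this
        · right
          have := congrArg Subtype.val h
          simp only [f, MonoidHom.coe_mk, OneHom.coe_mk, Subgroup.coe_mul] at this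
          calc y * y * (a : G) * (y * y)⁻¹ = y * (y * (a : G) * y⁻¹) * y⁻¹ := by simp [mul_assoc]
            _ = a * s := this
      rcases H a a.2 h' with h2 | h2
      · left; exact Subtype.ext h2
      · right; exact Subtype.ext h2

namespace ESPair

variable {G : Type*} [Group G] {Q : Subgroup G} {z : G}

/-- Aschbacher 8.7(1): if a conjugate `s = g z g⁻¹ ≠ z` of `z` lies in `Q` (of order at least 32),
then `z` lies in `g Q g⁻¹`. -/
theorem mem_conj (h : ESPair Q z) [Finite Q] (hcard : 32 ≤ Nat.card Q) (g : G)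
    (hs : g * z * g⁻¹ ∈ Q) (hsz : g * z * g⁻¹ ≠ z) :
    z ∈ Q.map (MulAut.conj g).toMonoidHom := by
  have hP : ESPair (Q.map (MulAut.conj g).toMonoidHom) (g * z * g⁻¹) := h.conj g
  have hmemP : ∀ x, x ∈ Q.map (MulAut.conj g).toMonoidHom ↔ g⁻¹ * x * g ∈ Q :=
    mem_map_conj_iff Q g
  generalize hsdef : g * z * g⁻¹ = s at hs hsz hP
  generalize hPdef : Q.map (MulAut.conj g).toMonoidHom = P at hP hmemP ⊢
  by_contra hzP
  have hs1 : s ≠ 1 := hP.z_ne
  have hss : s * s = 1 := hP.z_sq
  have hsinv : s⁻¹ = s := inv_eq_of_mul_eq_one_left hss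
  have hzs : z * s = s * z := (h.z_central s hs).symm
  obtain ⟨y, hyQ, hys, hyy⟩ := h.exists_sqrt hcard hs hs1 hsz
  -- (a) Q ∩ P = {1, s}
  have clA : ∀ e, e ∈ Q → e ∈ P → e = 1 ∨ e = s := by
    intro e heQ heP
    have hdc : ∀ a ∈ Q, a * s = s * a → a * e = e * a := by
      intro a ha has
      rcases h.comm a ha e heQ with h1 | h1
      · have := congrArg (fun t => t * e * a) h1
        simpa [mul_assoc] using this
      · exfalso
        apply hzP
        rw [← h1]
        exact P.mul_mem (hP.norm a has e heP) (P.inv_mem heP)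
    rcases h.dcent hs hs1 hsz heQ hdc with h1 | h1 | h1 | h1
    · exact Or.inl h1
    · exact absurd (h1 ▸ heP) hzP
    · right
      have := eq_inv_of_mul_eq_one_left h1
      rw [this, hsinv]
    · exact absurd (h1 ▸ P.mul_mem heP hP.z_mem) hzP
  -- (b)
  have clB : ∀ x ∈ P, x * z = z * x → ∀ a ∈ Q, a * s = s * a →
      a * x * a⁻¹ = x ∨ a * x * a⁻¹ = x * s := by
    intro x hx hxz a ha has
    have hxinvz : x⁻¹ * z = z * x⁻¹ := by
      have := congrArg (fun t => x⁻¹ * t * x⁻¹) hxz
      simpa [mul_assoc] using this.symm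
    have he1 : x⁻¹ * (a * x * a⁻¹) ∈ P := P.mul_mem (P.inv_mem hx) (hP.norm a has x hx)
    have he2 : x⁻¹ * (a * x * a⁻¹) ∈ Q := by
      have h1 : x⁻¹ * a * x⁻¹⁻¹ ∈ Q := h.norm x⁻¹ hxinvz a ha
      have := Q.mul_mem h1 (Q.inv_mem ha)
      simpa [mul_assoc] using this
    rcases clA _ he2 he1 with h1 | h1
    · left
      have := congrArg (fun t => x * t) h1
      simpa [mul_assoc] using this
    · right
      have := congrArg (fun t => x * t) h1
      simpa [mul_assoc] using this
  -- (c)
  have clC : ∀ x ∈ P, x * z * x⁻¹ ≠ s * z := by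
    intro x hx hxz
    apply hzP
    obtain ⟨q, hqQ, hq⟩ := h.exists_conj hs hs1 hsz
    have hxs : x * s * x⁻¹ = s := by
      have := hP.z_central x hx
      rw [this]; simp
    have hqz : q * z * q⁻¹ = z := by
      have := h.z_central q hqQ
      rw [this]; simp
    -- u = x q
    have hu1 : (x * q) * s * (x * q)⁻¹ = z := by
      calc (x * q) * s * (x * q)⁻¹ = x * (q * s * q⁻¹) * x⁻¹ := by simp [mul_assoc]
        _ = x * (z * s) * x⁻¹ := by rw [hq]
        _ = (x * z * x⁻¹) * (x * s * x⁻¹) := by simp [mul_assoc]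
        _ = s * z * s := by rw [hxz, hxs]
        _ = z := by rw [← hzs, mul_assoc, hss, mul_one]
    have hu2 : (x * q) * z * (x * q)⁻¹ = s * z := by
      calc (x * q) * z * (x * q)⁻¹ = x * (q * z * q⁻¹) * x⁻¹ := by simp [mul_assoc]
        _ = s * z := by rw [hqz, hxz]
    -- c = u g commutes with z
    have hcz : (x * q * g) * z * (x * q * g)⁻¹ = z := by
      calc (x * q * g) * z * (x * q * g)⁻¹ = (x * q) * (g * z * g⁻¹) * (x * q)⁻¹ := by
            simp [mul_assoc]
        _ = z := by rw [hsdef]; exact hu1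
    have hcz' : (x * q * g)⁻¹ * z = z * (x * q * g)⁻¹ := by
      have := congrArg (fun t => (x * q * g)⁻¹ * t) hcz
      simp only [mul_assoc] at this
      simpa [mul_assoc] using this.symm
    have hmem := h.norm _ hcz' (s * z) (Q.mul_mem hs h.z_mem)
    rw [hmemP]
    have e : (x * q * g)⁻¹ * (s * z) * (x * q * g)⁻¹⁻¹ = g⁻¹ * z * g := by
      rw [← hu2]; simp [mul_assoc]
    rw [e] at hmem
    exact hmem
  -- descent
  have hy4 : y * y * (y * y) = 1 := by rw [hyy, h.z_sq]
  have hD := descent P s y hP.z_mem hss hP.z_central ?_ hP.sq (hP.norm y hys) hys hy4 ?_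
  · -- z centralizes P
    have hzc : ∀ x ∈ P, x * z = z * x := by
      intro x hx
      have h1 : y * (y * x * y⁻¹) * y⁻¹ = x := by
        rcases hD x hx with h2 | h2
        · rw [h2, h2]
        · rw [h2]
          calc y * (x * s) * y⁻¹ = (y * x * y⁻¹) * (y * s * y⁻¹) := by simp [mul_assoc]
            _ = x * s * s := by rw [h2, hys]; simp
            _ = x := by rw [mul_assoc, hss, mul_one]
      have h3 : z * x * z⁻¹ = x := by
        rw [← hyy]
        calc y * y * x * (y * y)⁻¹ = y * (y * x * y⁻¹) * y⁻¹ := by simp [mul_assoc]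
          _ = x := h1
      have := congrArg (fun t => t * z) h3
      simpa [mul_assoc] using this.symm
    rcases hP.cent z hzc with h1 | h1
    · exact h.z_ne h1
    · exact hsz h1.symm
  · intro a ha b hb
    rcases hP.comm a ha b hb with h1 | h1
    · left
      have := congrArg (fun t => t * b * a) h1
      simpa [mul_assoc] using this
    · right
      have h2 := congrArg (fun t => t * b * a) h1
      simp only [mul_assoc, inv_mul_cancel, mul_one] at h2
      have e1 := hP.z_central a ha
      have e2 := hP.z_central b hb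
      rw [h2]
      calc s * (b * a) = (s * b) * a := (mul_assoc _ _ _).symm
        _ = (b * s) * a := by rw [e2]
        _ = b * (s * a) := mul_assoc _ _ _
        _ = b * (a * s) := by rw [e1]
        _ = b * a * s := (mul_assoc _ _ _).symm
  · intro x hx hx'
    rw [hyy] at hx'
    rcases hx' with h1 | h1
    · have hxz : x * z = z * x := by
        have := congrArg (fun t => t * z) h1
        simpa [mul_assoc] using this.symm
      exact clB x hx hxz y hyQ hys
    · exfalso
      apply clC x⁻¹ (P.inv_mem hx)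
      have h2 : x⁻¹ * z * x = s * z := by
        have := congrArg (fun t => x⁻¹ * t * z) h1
        simpa [mul_assoc] using this
      simpa using h2

end ESPair

/-- The join of `{1, z}` and `{1, s}` for commuting involutions is `{1, z, s, z s}`. -/
theorem four_group_mem {G : Type*} [Group G] (A B : Subgroup G) (z s : G)
    (hA : ∀ x, x ∈ A ↔ x = 1 ∨ x = z) (hB : ∀ x, x ∈ B ↔ x = 1 ∨ x = s)
    (hzz : z * z = 1) (hss : s * s = 1) (hzs : z * s = s * z) :
    ∀ x, x ∈ A ⊔ B ↔ x = 1 ∨ x = z ∨ x = s ∨ x = z * s := by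
  have hzA : z ∈ A := (hA z).mpr (Or.inr rfl)
  have hsB : s ∈ B := (hB s).mpr (Or.inr rfl)
  have e1 : z * (z * s) = s := by rw [← mul_assoc, hzz, one_mul]
  have e2 : s * (z * s) = z := by rw [← mul_assoc, ← hzs, mul_assoc, hss, mul_one]
  have e3 : z * s * z = s := by rw [mul_assoc, ← hzs, ← mul_assoc, hzz, one_mul]
  have e4 : z * s * s = z := by rw [mul_assoc, hss, mul_one]
  have e5 : z * s * (z * s) = 1 := by rw [mul_assoc, e2, hzz]
  let V : Subgroup G :=
    { carrier := {x | x = 1 ∨ x = z ∨ x = s ∨ x = z * s}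
      one_mem' := Or.inl rfl
      mul_mem' := by
        rintro a b (rfl | rfl | rfl | rfl) (rfl | rfl | rfl | rfl)
        · left; simp
        · right; left; simp
        · right; right; left; simp
        · right; right; right; simp
        · right; left; simp
        · left; exact hzz
        · right; right; right; rfl
        · right; right; left; exact e1
        · right; right; left; simp
        · right; right; right; exact hzs.symm
        · left; exact hss
        · right; left; exact e2
        · right; right; right; simp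
        · right; right; left; exact e3
        · right; left; exact e4
        · left; exact e5
      inv_mem' := by
        rintro a (rfl | rfl | rfl | rfl)
        · left; simp
        · right; left; exact inv_eq_of_mul_eq_one_left hzz
        · right; right; left; exact inv_eq_of_mul_eq_one_left hss
        · right; right; right; exact inv_eq_of_mul_eq_one_left e5 }
  have hV : ∀ x, x ∈ V ↔ x = 1 ∨ x = z ∨ x = s ∨ x = z * s := fun x => Iff.rfl
  have hle : A ⊔ B ≤ V := by
    refine sup_le ?_ ?_
    · intro x hx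
      rcases (hA x).mp hx with h | h
      · exact (hV x).mpr (Or.inl h)
      · exact (hV x).mpr (Or.inr (Or.inl h))
    · intro x hx
      rcases (hB x).mp hx with h | h
      · exact (hV x).mpr (Or.inl h)
      · exact (hV x).mpr (Or.inr (Or.inr (Or.inl h)))
  intro x
  constructor
  · intro hx
    exact (hV x).mp (hle hx)
  · rintro (rfl | rfl | rfl | rfl)
    · exact one_mem _
    · exact (le_sup_left : A ≤ A ⊔ B) hzA
    · exact (le_sup_right : B ≤ A ⊔ B) hsB
    · exact mul_mem ((le_sup_left : A ≤ A ⊔ B) hzA) ((le_sup_right : B ≤ A ⊔ B) hsB)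

/-- The relative index of `H` in `K` is the size of the image of `K` under any function whose
fibres are the left cosets of `H`. -/
theorem relIndex_eq_card_image {G α : Type*} [Group G] (H K : Subgroup G) (f : G → α)
    (hf : ∀ a b, f a = f b ↔ a⁻¹ * b ∈ H) : H.relIndex K = Nat.card (f '' (K : Set G)) := by
  rw [Subgroup.relIndex, Subgroup.index_eq_card]
  let φ : (↥K ⧸ H.subgroupOf K) → (f '' (K : Set G)) :=
    Quotient.lift (fun k : ↥K => (⟨f k, ⟨k, k.2, rfl⟩⟩ : (f '' (K : Set G)))) (by
      intro a b hab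
      have h1 : a⁻¹ * b ∈ H.subgroupOf K := QuotientGroup.leftRel_apply.mp hab
      rw [Subgroup.mem_subgroupOf] at h1
      exact Subtype.ext ((hf a b).mpr (by simpa using h1)))
  have hinj : Function.Injective φ := by
    intro a b
    induction a using Quotient.inductionOn with
    | _ a =>
      induction b using Quotient.inductionOn with
      | _ b =>
        intro hab
        have h1 : f a = f b := congrArg Subtype.val hab
        apply Quotient.sound
        apply QuotientGroup.leftRel_apply.mpr
        rw [Subgroup.mem_subgroupOf]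
        simpa using (hf a b).mp h1
  have hsurj : Function.Surjective φ := by
    rintro ⟨y, k, hk, rfl⟩
    exact ⟨Quotient.mk _ ⟨k, hk⟩, rfl⟩
  exact Nat.card_congr (Equiv.ofBijective φ ⟨hinj, hsurj⟩)

theorem conj_mul_aux {G : Type*} [Group G] (a b t : G) :
    (a * b) * t * (a * b)⁻¹ = a * (b * t * b⁻¹) * a⁻¹ := by simp [mul_assoc]

theorem conj_mul_mul_aux {G : Type*} [Group G] (a t u : G) :
    a * (t * u) * a⁻¹ = (a * t * a⁻¹) * (a * u * a⁻¹) := by simp [mul_assoc]

/-- If a four-group `V = {1, z, s, z s}` admits an element fixing `z` and moving `s` to `z s`, and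
an element fixing `s` and moving `z` to `z s`, then `|N(V) : C(V)| = 6`. -/
theorem four_group_relIndex {G : Type*} [Group G] [Finite G] (V : Subgroup G) (z s q x : G)
    (hV : ∀ v, v ∈ V ↔ v = 1 ∨ v = z ∨ v = s ∨ v = z * s)
    (hz1 : z ≠ 1) (hs1 : s ≠ 1) (hsz : s ≠ z) (hzz : z * z = 1) (hss : s * s = 1)
    (hzs : z * s = s * z)
    (hqz : q * z * q⁻¹ = z) (hqs : q * s * q⁻¹ = z * s)
    (hxz : x * z * x⁻¹ = z * s) (hxs : x * s * x⁻¹ = s) :
    (Subgroup.centralizer (V : Set G)).relIndex (Subgroup.normalizer (V : Set G)) = 6 := by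
  have e1 : z * (z * s) = s := by rw [← mul_assoc, hzz, one_mul]
  have e4 : z * s * s = z := by rw [mul_assoc, hss, mul_one]
  have hqzs : q * (z * s) * q⁻¹ = s := by rw [conj_mul_mul_aux, hqz, hqs, e1]
  have hxzs : x * (z * s) * x⁻¹ = z := by rw [conj_mul_mul_aux, hxz, hxs, e4]
  have hzV : z ∈ V := (hV z).mpr (Or.inr (Or.inl rfl))
  have hsV : s ∈ V := (hV s).mpr (Or.inr (Or.inr (Or.inl rfl)))
  have hqN : q ∈ Subgroup.normalizer (V : Set G) := by
    apply Subgroup.mem_normalizer_fintype
    intro v hv
    rw [SetLike.mem_coe, hV] at hv ⊢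
    rcases hv with h | h | h | h
    · left; rw [h]; simp
    · right; left; rw [h]; exact hqz
    · right; right; right; rw [h]; exact hqs
    · right; right; left; rw [h]; exact hqzs
  have hxN : x ∈ Subgroup.normalizer (V : Set G) := by
    apply Subgroup.mem_normalizer_fintype
    intro v hv
    rw [SetLike.mem_coe, hV] at hv ⊢
    rcases hv with h | h | h | h
    · left; rw [h]; simp
    · right; right; right; rw [h]; exact hxz
    · right; right; left; rw [h]; exact hxs
    · right; left; rw [h]; exact hxzs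
  let f : G → G × G := fun n => (n * z * n⁻¹, n * s * n⁻¹)
  have hf : ∀ a b, f a = f b ↔ a⁻¹ * b ∈ Subgroup.centralizer (V : Set G) := by
    intro a b
    constructor
    · intro h
      have h1 : a * z * a⁻¹ = b * z * b⁻¹ := congrArg Prod.fst h
      have h2 : a * s * a⁻¹ = b * s * b⁻¹ := congrArg Prod.snd h
      have c1 : z * (a⁻¹ * b) = a⁻¹ * b * z := by
        have := congrArg (fun t => a⁻¹ * t * b) h1
        simpa [mul_assoc] using this
      have c2 : s * (a⁻¹ * b) = a⁻¹ * b * s := by
        have := congrArg (fun t => a⁻¹ * t * b) h2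
        simpa [mul_assoc] using this
      rw [Subgroup.mem_centralizer_iff]
      intro v hv
      rcases (hV v).mp hv with h | h | h | h
      · rw [h]; simp
      · rw [h]; exact c1
      · rw [h]; exact c2
      · rw [h, mul_assoc, c2, ← mul_assoc, c1, mul_assoc]
    · intro h
      rw [Subgroup.mem_centralizer_iff] at h
      have c1 := h z hzV
      have c2 := h s hsV
      refine Prod.ext ?_ ?_
      · show a * z * a⁻¹ = b * z * b⁻¹
        have := congrArg (fun t => a * t * b⁻¹) c1
        simpa [mul_assoc] using this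
      · show a * s * a⁻¹ = b * s * b⁻¹
        have := congrArg (fun t => a * t * b⁻¹) c2
        simpa [mul_assoc] using this
  rw [relIndex_eq_card_image _ _ f hf]
  have himg : f '' ((Subgroup.normalizer (V : Set G) : Subgroup G) : Set G) =
      ({(z, s), (z, z * s), (s, z), (s, z * s), (z * s, z), (z * s, s)} : Set (G × G)) := by
    ext p
    constructor
    · rintro ⟨n, hn, rfl⟩
      have hn' : n ∈ Subgroup.normalizer (V : Set G) := hn
      have h1 : n * z * n⁻¹ ∈ V := (Subgroup.mem_normalizer_iff.mp hn' z).mp hzV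
      have h2 : n * s * n⁻¹ ∈ V := (Subgroup.mem_normalizer_iff.mp hn' s).mp hsV
      have hne : n * z * n⁻¹ ≠ n * s * n⁻¹ := fun h => hsz (conj_injective h).symm
      simp only [Set.mem_insert_iff, Set.mem_singleton_iff, f, Prod.mk.injEq]
      rcases (hV _).mp h1 with h1 | h1 | h1 | h1
      · exact absurd (conj_eq_one_iff.mp h1) hz1
      all_goals
        rcases (hV _).mp h2 with h2 | h2 | h2 | h2
        · exact absurd (conj_eq_one_iff.mp h2) hs1
        all_goals
          first
          | exact absurd (h1.trans h2.symm) hne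
          | (rw [h1, h2]; simp)
    · have h1N : (1 : G) ∈ Subgroup.normalizer (V : Set G) := one_mem _
      have hqxN : q * x ∈ Subgroup.normalizer (V : Set G) := mul_mem hqN hxN
      have hxqN : x * q ∈ Subgroup.normalizer (V : Set G) := mul_mem hxN hqN
      have hqxqN : q * x * q ∈ Subgroup.normalizer (V : Set G) := mul_mem hqxN hqN
      rintro (rfl | rfl | rfl | rfl | rfl | rfl)
      · refine ⟨1, h1N, Prod.ext ?_ ?_⟩
        · show 1 * z * 1⁻¹ = z
          simp
        · show 1 * s * 1⁻¹ = s
          simp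
      · exact ⟨q, hqN, Prod.ext hqz hqs⟩
      · refine ⟨q * x * q, hqxqN, Prod.ext ?_ ?_⟩
        · show q * x * q * z * (q * x * q)⁻¹ = s
          rw [conj_mul_aux, hqz, conj_mul_aux, hxz, hqzs]
        · show q * x * q * s * (q * x * q)⁻¹ = z
          rw [conj_mul_aux, hqs, conj_mul_aux, hxzs, hqz]
      · refine ⟨q * x, hqxN, Prod.ext ?_ ?_⟩
        · show q * x * z * (q * x)⁻¹ = s
          rw [conj_mul_aux, hxz, hqzs]
        · show q * x * s * (q * x)⁻¹ = z * s
          rw [conj_mul_aux, hxs, hqs]
      · refine ⟨x * q, hxqN, Prod.ext ?_ ?_⟩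
        · show x * q * z * (x * q)⁻¹ = z * s
          rw [conj_mul_aux, hqz, hxz]
        · show x * q * s * (x * q)⁻¹ = z
          rw [conj_mul_aux, hqs, hxzs]
      · exact ⟨x, hxN, Prod.ext hxz hxs⟩
  rw [himg, Nat.card_coe_set_eq]
  have d1 : z ≠ s := fun h => hsz h.symm
  rw [Set.ncard_insert_of_notMem, Set.ncard_insert_of_notMem, Set.ncard_insert_of_notMem,
    Set.ncard_insert_of_notMem, Set.ncard_insert_of_notMem, Set.ncard_singleton]
  all_goals simp [hz1, hs1, hsz, d1]

end Cfsg.Agent.H92
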