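import Mathlib
import Cfsg.Prelude.Def_MonsterType
import Cfsg.Agent.H92.Extra
import Cfsg.Agent.H1.Coprime
import Cfsg.Agent.H52.Frattini
import Cfsg.Agent.H3.PGroup

set_option autoImplicit false
open Cfsg
open scoped Pointwise commutatorElement

/-!
Further lemmas on extraspecial 2-subgroups (using teammates' libraries on coprime action and the
Frattini subgroup).
-/

namespace Cfsg.Agent.H92

/-- Element-wise criterion for a subgroup to be an extraspecial 2-group. -/
theorem isExtraspecial_two_of {G : Type*} [Group G] [Finite G] (H : Subgroup G) (z : G)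
    (hzH : z ∈ H) (hz1 : z ≠ 1) (hzz : z * z = 1)
    (hzc : ∀ x ∈ H, x * z = z * x)
    (hcomm : ∀ x ∈ H, ∀ y ∈ H, x * y * x⁻¹ * y⁻¹ = 1 ∨ x * y * x⁻¹ * y⁻¹ = z)
    (hsq : ∀ x ∈ H, x * x = 1 ∨ x * x = z)
    (hcent : ∀ c ∈ H, (∀ x ∈ H, x * c = c * x) → c = 1 ∨ c = z)
    (hnab : ∃ x ∈ H, ∃ y ∈ H, x * y ≠ y * x) :
    Cfsg.IsExtraspecial 2 ↥H := by
  have : Fact (Nat.Prime 2) := ⟨Nat.prime_two⟩
  have hcen : ∀ c : ↥H, c ∈ Subgroup.center ↥H ↔ c = 1 ∨ c = ⟨z, hzH⟩ := by
    intro c
    rw [Subgroup.mem_center_iff]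
    constructor
    · intro hc
      rcases hcent c c.2 (fun x hx => congrArg Subtype.val (hc ⟨x, hx⟩)) with h | h
      · left; exact Subtype.ext h
      · right; exact Subtype.ext h
    · rintro (rfl | rfl)
      · intro g; simp
      · intro g; exact Subtype.ext (hzc g g.2)
  have hP : IsPGroup 2 ↥H := by
    intro x
    refine ⟨2, ?_⟩
    apply Subtype.ext
    have h4 : ((x ^ 2 ^ 2 : ↥H) : G) = ((x : G) * x) * ((x : G) * x) := by
      rw [Subgroup.coe_pow]
      norm_num [pow_succ, mul_assoc]
    rw [h4]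
    rcases hsq x x.2 with h | h <;> rw [h] <;> simp [hzz]
  have hcomm_le : commutator ↥H ≤ Subgroup.center ↥H := by
    rw [commutator_def, Subgroup.commutator_le]
    intro a _ b _
    rw [hcen]
    rcases hcomm a a.2 b b.2 with h | h
    · left; exact Subtype.ext (by simpa [commutatorElement_def] using h)
    · right; exact Subtype.ext (by simpa [commutatorElement_def] using h)
  have hz'comm : (⟨z, hzH⟩ : ↥H) ∈ commutator ↥H := by
    obtain ⟨x, hx, y, hy, hxy⟩ := hnab
    have hxyz : x * y * x⁻¹ * y⁻¹ = z := by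
      rcases hcomm x hx y hy with h | h
      · exfalso; apply hxy
        have := congrArg (fun t => t * y * x) h
        simpa [mul_assoc] using this
      · exact h
    have hmem : ⁅(⟨x, hx⟩ : ↥H), (⟨y, hy⟩ : ↥H)⁆ ∈ commutator ↥H := by
      rw [commutator_def]
      exact Subgroup.commutator_mem_commutator (Subgroup.mem_top _) (Subgroup.mem_top _)
    have e : ⁅(⟨x, hx⟩ : ↥H), (⟨y, hy⟩ : ↥H)⁆ = (⟨z, hzH⟩ : ↥H) :=
      Subtype.ext (by simpa [commutatorElement_def] using hxyz)
    rwa [e] at hmem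
  have hcen_le : Subgroup.center ↥H ≤ commutator ↥H := by
    intro c hc
    rcases (hcen c).mp hc with rfl | rfl
    · exact one_mem _
    · exact hz'comm
  have hcomm_eq : commutator ↥H = Subgroup.center ↥H := le_antisymm hcomm_le hcen_le
  have hfr : frattini ↥H = Subgroup.center ↥H := by
    apply le_antisymm
    · apply Cfsg.Agent.H52.frattini_le_of_comm_pow (p := 2) (Subgroup.center ↥H)
      · intro a b
        apply hcomm_le
        rw [commutator_def]
        exact Subgroup.commutator_mem_commutator (Subgroup.mem_top _) (Subgroup.mem_top _)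
      · intro x
        rw [hcen]
        rcases hsq x x.2 with h | h
        · left; exact Subtype.ext (by simpa [pow_two] using h)
        · right; exact Subtype.ext (by simpa [pow_two] using h)
    · rw [← hcomm_eq]
      exact Cfsg.Agent.H3.commutator_le_frattini hP
  refine ⟨⟨hP, hfr, hcomm_eq⟩, ?_⟩
  rw [Nat.card_eq_two_iff]
  refine ⟨⟨1, one_mem _⟩, ⟨⟨z, hzH⟩, (hcen _).mpr (Or.inr rfl)⟩, ?_, ?_⟩
  · intro h
    apply hz1
    have := congrArg (fun t : ↥(Subgroup.center ↥H) => ((t : ↥H) : G)) h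
    simpa using this.symm
  · ext c
    simp only [Set.mem_insert_iff, Set.mem_singleton_iff, Set.mem_univ, iff_true]
    rcases (hcen c.1).mp c.2 with h | h
    · left; exact Subtype.ext h
    · right; exact Subtype.ext h

end Cfsg.Agent.H92
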