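import Mathlib

/-!
# S3793 piece P2: Frobenius averaging

If `X` intertwines a faithful representation `ρ` of a finite group `Q` with its twist by an
automorphism `σ`, `∑_{i<N} X^i = 0`, and `σ^i` is fixed-point-free for `0 < i < N`, then `Q`
is trivial (when `|Q|` is invertible in the field).
-/

set_option autoImplicit false

namespace Cfsg.Agent.H92

theorem fg_frob_triv {K : Type*} [Field K] {Q : Type*} [Group Q] [Finite Q]
    {W : Type*} [AddCommGroup W] [Module K W]
    (ρ : Q →* Module.End K W) (hρ : Function.Injective ρ) (σ : MulAut Q) (X : Module.End K W)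
    (N : ℕ) (hN : 0 < N) (hX : ∀ h, X * ρ h = ρ (σ h) * X)
    (hsum : ∑ i ∈ Finset.range N, X ^ i = 0)
    (hfree : ∀ i, 0 < i → i < N → ∀ x, (σ ^ i) x = x → x = 1)
    (hQK : (Nat.card Q : K) ≠ 0) : ∀ x : Q, x = 1 := by
  classical
  have := Fintype.ofFinite Q
  have hpow : ∀ i : ℕ, ∀ h, X ^ i * ρ h = ρ ((σ ^ i) h) * X ^ i := by
    intro i
    induction i with
    | zero => intro h; simp
    | succ i ih =>
      intro h
      rw [pow_succ, mul_assoc, hX, ← mul_assoc, ih, mul_assoc, pow_succ]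
      rfl
  set E : Module.End K W := ∑ x : Q, ρ x with hE
  have h1 : ∀ h : Q, ∑ i ∈ Finset.range N, ρ (h⁻¹ * (σ ^ i) h) * X ^ i = 0 := by
    intro h
    have : ∑ i ∈ Finset.range N, ρ (h⁻¹ * (σ ^ i) h) * X ^ i
        = ρ h⁻¹ * (∑ i ∈ Finset.range N, X ^ i) * ρ h := by
      rw [Finset.mul_sum, Finset.sum_mul]
      refine Finset.sum_congr rfl fun i _ => ?_
      rw [map_mul, mul_assoc, mul_assoc, hpow]
    rw [this, hsum]; simp
  have h2 : ∑ i ∈ Finset.range N, (∑ h : Q, ρ (h⁻¹ * (σ ^ i) h)) * X ^ i = 0 := by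
    simp_rw [Finset.sum_mul]
    rw [Finset.sum_comm]
    exact Finset.sum_eq_zero fun h _ => h1 h
  have h3 : ∀ i, 0 < i → i < N → ∑ h : Q, ρ (h⁻¹ * (σ ^ i) h) = E := by
    intro i hi hiN
    have hinj : Function.Injective (fun h : Q => h⁻¹ * (σ ^ i) h) := by
      intro a b hab
      simp only at hab
      have h' : (σ ^ i) a = a * (b⁻¹ * (σ ^ i) b) := by rw [← hab]; group
      have hfix : (σ ^ i) (b * a⁻¹) = b * a⁻¹ := by
        rw [map_mul, map_inv, h']; group
      have := hfree i hi hiN _ hfix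
      exact (mul_inv_eq_one.mp this).symm
    have hbij : Function.Bijective (fun h : Q => h⁻¹ * (σ ^ i) h) :=
      Finite.injective_iff_bijective.mp hinj
    exact Fintype.sum_bijective _ hbij _ _ (fun _ => rfl)
  have h0 : ∑ h : Q, ρ (h⁻¹ * (σ ^ 0) h) = (Nat.card Q : K) • (1 : Module.End K W) := by
    have : ∀ h : Q, ρ (h⁻¹ * (σ ^ 0) h) = 1 := by
      intro h
      rw [pow_zero]
      show ρ (h⁻¹ * h) = 1
      rw [inv_mul_cancel, map_one]
    rw [Finset.sum_congr rfl (fun h _ => this h)]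
    rw [Finset.sum_const, Finset.card_univ, Nat.card_eq_fintype_card, Nat.cast_smul_eq_nsmul]
  obtain ⟨M, rfl⟩ : ∃ M, N = M + 1 := ⟨N - 1, by omega⟩
  set S' : Module.End K W := ∑ i ∈ Finset.range M, X ^ (i + 1) with hS'
  have hs1 : S' + 1 = 0 := by
    rw [Finset.sum_range_succ'] at hsum
    simpa using hsum
  have hs2 : E * S' + (Nat.card Q : K) • (1 : Module.End K W) = 0 := by
    rw [Finset.sum_range_succ'] at h2
    rw [h0, pow_zero, mul_one] at h2
    rw [← h2, hS', Finset.mul_sum]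
    congr 1
    refine Finset.sum_congr rfl fun i hi => ?_
    rw [h3 (i + 1) (Nat.succ_pos _) (by have := Finset.mem_range.mp hi; omega)]
  have hS'eq : S' = -1 := eq_neg_of_add_eq_zero_left hs1
  have hEeq : E = (Nat.card Q : K) • (1 : Module.End K W) := by
    rw [hS'eq, mul_neg, mul_one] at hs2
    have := neg_add_eq_zero.mp hs2
    exact this
  intro x
  have hxE : ρ x * E = E := by
    rw [hE, Finset.mul_sum]
    simp_rw [← map_mul]
    exact Fintype.sum_bijective _ (Group.mulLeft_bijective x) _ _ (fun _ => rfl)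
  rw [hEeq] at hxE
  have h4 : (Nat.card Q : K) • ρ x = (Nat.card Q : K) • (1 : Module.End K W) := by
    rw [← hxE, mul_smul_comm, mul_one]
  have h5 : ρ x = 1 := smul_right_injective _ hQK h4
  apply hρ
  rw [h5, map_one]

end Cfsg.Agent.H92
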