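/-
helper92: the torsor fixed-point lemma for power maps and the unique fixed extension across a
normal subgroup of `p`-power index (Isaacs 6.30 in power-map form), for S4892.
-/
import Mathlib
import Cfsg.Prelude.Def_Blocks
import Cfsg.Agent.H92.PRatTwist
import Cfsg.Agent.H92.DadeExt
import Cfsg.Agent.H79.GaloisChar
import Cfsg.Agent.H16.FTBChar

set_option autoImplicit false
set_option linter.unusedSectionVars false
set_option linter.unusedVariables false
set_option linter.style.haveILetI false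

namespace Cfsg.Agent.H92.PRat

open Cfsg Cfsg.Agent.H4 Cfsg.Agent.Clifford

universe u

/-- The torsor fixed-point lemma: a set of functions permuted simply transitively by a group of
linear characters of `p`-power order, stable under the power map `g ↦ g ^ k` with
`k ≢ 1 (mod p)`, contains a unique function fixed by the power map. -/
theorem exists_unique_fixed {J : Type*} [Group J] {p a k : ℕ} (hp : p.Prime) (hk1 : 1 ≤ k)
    (hk : ¬ p ∣ k - 1) (X : Set (J → ℂ)) (hX : X.Nonempty) (Λ : Set (J →* ℂˣ))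
    (hΛpow : ∀ μ ∈ Λ, ∀ g, (μ g) ^ (p ^ a) = 1)
    (hΛclosed : ∀ μ ∈ Λ, ∀ e : ℕ, μ ^ e ∈ Λ)
    (htors : ∀ χ₁ ∈ X, ∀ χ₂ ∈ X, ∃ μ ∈ Λ, ∀ g, χ₂ g = χ₁ g * ((μ g : ℂˣ) : ℂ))
    (hact : ∀ χ ∈ X, ∀ μ ∈ Λ, (fun g => χ g * ((μ g : ℂˣ) : ℂ)) ∈ X)
    (hσ : ∀ χ ∈ X, (fun g => χ (g ^ k)) ∈ X) :
    ∃ χ ∈ X, (∀ g, χ (g ^ k) = χ g) ∧ ∀ χ' ∈ X, (∀ g, χ' (g ^ k) = χ' g) → χ' = χ := by
  obtain ⟨χ₁, hχ₁⟩ := hX
  obtain ⟨ν, hν, hνeq⟩ := htors χ₁ hχ₁ _ (hσ χ₁ hχ₁)
  have hcop : Nat.Coprime (k - 1) (p ^ a) :=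
    Nat.Coprime.pow_right a ((Nat.Prime.coprime_iff_not_dvd hp).mpr hk).symm
  obtain ⟨e, he⟩ : ∃ e : ℕ, p ^ a ∣ (k - 1) * e + 1 := by
    rcases Nat.lt_or_ge 1 (p ^ a) with h1 | h1
    · obtain ⟨m, -, hm⟩ := Nat.exists_mul_mod_eq_one_of_coprime hcop h1
      refine ⟨m * (p ^ a - 1), ?_⟩
      have h2 : (k - 1) * m ≡ 1 [MOD p ^ a] := by
        unfold Nat.ModEq
        rw [hm, Nat.mod_eq_of_lt h1]
      have h3 : (k - 1) * (m * (p ^ a - 1)) + 1 ≡ 1 * (p ^ a - 1) + 1 [MOD p ^ a] := by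
        rw [← mul_assoc]
        exact (h2.mul_right _).add_right 1
      have h4 : 1 * (p ^ a - 1) + 1 = p ^ a := by omega
      rw [h4] at h3
      exact (Nat.modEq_zero_iff_dvd).mp (h3.trans (by simp [Nat.ModEq]))
    · have : p ^ a = 1 := le_antisymm h1 (Nat.one_le_pow _ _ hp.pos)
      exact ⟨0, by rw [this]; exact one_dvd _⟩
  have hμΛ : ν ^ e ∈ Λ := hΛclosed ν hν e
  have hkey : ∀ g, ν g * ((ν ^ e) g) ^ (k - 1) = 1 := by
    intro g
    obtain ⟨t, ht⟩ := he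
    have h2 : (ν g) ^ ((k - 1) * e + 1) = 1 := by
      rw [ht, pow_mul, hΛpow ν hν g, one_pow]
    rw [MonoidHom.pow_apply, ← pow_mul, mul_comm e, ← pow_succ']
    exact h2
  have hk' : k = (k - 1) + 1 := by omega
  set χ₀ : J → ℂ := fun g => χ₁ g * (((ν ^ e) g : ℂˣ) : ℂ) with hχ₀
  have hχ₀X : χ₀ ∈ X := hact χ₁ hχ₁ _ hμΛ
  have hfix₀ : ∀ g, χ₀ (g ^ k) = χ₀ g := by
    intro g
    have h1 := hνeq g
    simp only [hχ₀]
    rw [h1, map_pow]
    have h2 := congrArg (fun u : ℂˣ => (u : ℂ)) (hkey g)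
    simp only [Units.val_mul, Units.val_pow_eq_pow_val, Units.val_one] at h2
    have h3 : (((ν ^ e) g : ℂˣ) : ℂ) ^ k
        = (((ν ^ e) g : ℂˣ) : ℂ) * (((ν ^ e) g : ℂˣ) : ℂ) ^ (k - 1) := by
      conv_lhs => rw [hk', pow_succ']
    rw [Units.val_pow_eq_pow_val, h3]
    calc χ₁ g * ((ν g : ℂˣ) : ℂ) * ((((ν ^ e) g : ℂˣ) : ℂ) * (((ν ^ e) g : ℂˣ) : ℂ) ^ (k - 1))
        = χ₁ g * (((ν ^ e) g : ℂˣ) : ℂ)
          * (((ν g : ℂˣ) : ℂ) * (((ν ^ e) g : ℂˣ) : ℂ) ^ (k - 1)) := by ring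
      _ = χ₁ g * (((ν ^ e) g : ℂˣ) : ℂ) := by rw [h2, mul_one]
  refine ⟨χ₀, hχ₀X, hfix₀, ?_⟩
  · intro χ' hχ' hfix'
    obtain ⟨μ', hμ', hμ'eq⟩ := htors χ₀ hχ₀X χ' hχ'
    funext g
    by_cases h0 : χ₀ g = 0
    · rw [hμ'eq g, h0, zero_mul]
    · have h1 : χ₀ g * ((μ' g : ℂˣ) : ℂ) = χ₀ g * ((μ' g : ℂˣ) : ℂ) ^ k := by
        rw [← hμ'eq g, ← hfix' g, hμ'eq (g ^ k), hfix₀ g, map_pow, Units.val_pow_eq_pow_val]
      have h2 : ((μ' g : ℂˣ) : ℂ) = ((μ' g : ℂˣ) : ℂ) ^ k := mul_left_cancel₀ h0 h1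
      have h3 : (μ' g) ^ (k - 1) = 1 := by
        have h4 : (μ' g) = (μ' g) ^ k := by
          apply Units.ext
          rw [Units.val_pow_eq_pow_val]
          exact h2
        have h5 : (μ' g) * 1 = (μ' g) * (μ' g) ^ (k - 1) := by
          rw [mul_one, ← pow_succ', ← hk']
          exact h4
        exact (mul_left_cancel h5).symm
      have h4 : (μ' g) ^ (p ^ a) = 1 := hΛpow μ' hμ' g
      have h5 : orderOf (μ' g) ∣ Nat.gcd (k - 1) (p ^ a) :=
        Nat.dvd_gcd (orderOf_dvd_of_pow_eq_one h3) (orderOf_dvd_of_pow_eq_one h4)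
      rw [hcop.gcd_eq_one, Nat.dvd_one, orderOf_eq_one_iff] at h5
      rw [hμ'eq g, h5, Units.val_one, mul_one]

section ResIrr

variable {J : Type u} [Group J] [Fintype J] {K : Type u} [Group K] [Fintype K]

/-- If `χ ∘ ι` is irreducible then `χ` restricts irreducibly to every subgroup containing the
range of `ι`. -/
theorem res_irr_hom (ι : K →* J) {χ : J → ℂ} (hχ : IsIrrCharacter J χ)
    (hθ : IsIrrCharacter K (fun n => χ (ι n))) (H : Subgroup J) (hH : ∀ n, ι n ∈ H) :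
    IsIrrCharacter H (fun x : H => χ x) := by
  obtain ⟨n, ρ, hρ, hρc⟩ := hχ
  obtain ⟨k, σ, hσ, hσc⟩ := hθ
  haveI := hσ
  have hc : σ.character
      = Representation.character (MonoidHom.comp ρ ι : Representation ℂ K (Fin n → ℂ)) := by
    funext x
    rw [hσc, ← hρc]
    rfl
  obtain ⟨φ⟩ := equiv_of_character_eq σ (MonoidHom.comp ρ ι : Representation ℂ K (Fin n → ℂ)) hc
  have hirrK : Representation.IsIrreducible
      (MonoidHom.comp ρ ι : Representation ℂ K (Fin n → ℂ)) :=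
    Cfsg.Agent.H82.irreducible_of_equiv φ
  have hirrH : Representation.IsIrreducible
      (MonoidHom.comp ρ H.subtype : Representation ℂ H (Fin n → ℂ)) := by
    rw [isIrreducible_iff] at hirrK ⊢
    exact ⟨hirrK.1, fun U hU => hirrK.2 U (fun x v hv => hU ⟨ι x, hH x⟩ v hv)⟩
  exact ⟨n, MonoidHom.comp ρ H.subtype, hirrH, by funext x; rw [← hρc]; rfl⟩

end ResIrr

section PStep

variable {p : ℕ}

/-- Above a normal subgroup of index `p ^ (b + 1)` there is a normal subgroup of index `p ^ b`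
containing it with index `p`. -/
theorem exists_normal_step {J : Type u} [Group J] [Finite J] (hp : p.Prime) (R : Subgroup J)
    [hR : R.Normal] (b : ℕ) (hidx : R.index = p ^ (b + 1)) :
    ∃ H₁ : Subgroup J, H₁.Normal ∧ R ≤ H₁ ∧ H₁.index = p ^ b ∧ R.relIndex H₁ = p := by
  haveI : Fact p.Prime := ⟨hp⟩
  have hcard : Nat.card (J ⧸ R) = p ^ (b + 1) := by rw [← hidx]; rfl
  have hQ : IsPGroup p (J ⧸ R) := IsPGroup.of_card hcard
  haveI : Nontrivial (J ⧸ R) := by
    rw [← Finite.one_lt_card_iff_nontrivial, hcard]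
    exact Nat.one_lt_pow (Nat.succ_ne_zero b) hp.one_lt
  have hZ : Nontrivial (Subgroup.center (J ⧸ R)) := hQ.center_nontrivial
  have hZp : IsPGroup p (Subgroup.center (J ⧸ R)) := hQ.to_subgroup _
  obtain ⟨c, hc0, hc⟩ := hZp.nontrivial_iff_card.mp hZ
  have hdvd : p ∣ Nat.card (Subgroup.center (J ⧸ R)) := by
    rw [hc]; exact dvd_pow_self p hc0.ne'
  obtain ⟨z, hz⟩ := exists_prime_orderOf_dvd_card' p hdvd
  let Z : Subgroup (J ⧸ R) := Subgroup.zpowers (z : J ⧸ R)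
  have hZn : Z.Normal := by
    constructor
    intro x hx g
    have hcomm : g * x * g⁻¹ = x := by
      obtain ⟨i, rfl⟩ := Subgroup.mem_zpowers_iff.mp hx
      have hzc : Commute g (z : J ⧸ R) := Subgroup.mem_center_iff.mp z.2 g
      have : Commute g ((z : J ⧸ R) ^ i) := Commute.zpow_right hzc i
      rw [this.eq, mul_inv_cancel_right]
    rw [hcomm]; exact hx
  have hZcard : Nat.card Z = p := by
    rw [Nat.card_zpowers, Subgroup.orderOf_coe]; exact hz
  have hle : R ≤ Z.comap (QuotientGroup.mk' R) := by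
    intro r hr
    rw [Subgroup.mem_comap]
    have : (QuotientGroup.mk' R) r = 1 := (QuotientGroup.eq_one_iff r).mpr hr
    rw [this]; exact Z.one_mem
  have hi : (Z.comap (QuotientGroup.mk' R)).index = p ^ b := by
    rw [Subgroup.index_comap_of_surjective Z (QuotientGroup.mk'_surjective R)]
    have h1 := Subgroup.index_mul_card Z
    rw [hZcard, hcard, pow_succ] at h1
    exact Nat.eq_of_mul_eq_mul_right hp.pos h1
  refine ⟨Z.comap (QuotientGroup.mk' R), hZn.comap _, hle, hi, ?_⟩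
  have h1 := Subgroup.relIndex_mul_index hle
  rw [hi, hidx, pow_succ, mul_comm] at h1
  exact Nat.eq_of_mul_eq_mul_left (pow_pos hp.pos b) h1

/-- The unique fixed extension across a normal subgroup of `p`-power index: if `θ` is
invariant and fixed by the power map `g ↦ g ^ k` with `k ≢ 1 (mod p)`, then `θ` has a unique
extension fixed by the power map. -/
theorem pstep (hp : p.Prime) {k : ℕ} (hk1 : 1 ≤ k) (hkp : ¬ p ∣ k - 1)
    {J : Type u} [Group J] [Fintype J] (hkJ : k.Coprime (Nat.card J)) :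
    ∀ (b : ℕ) {K : Type u} [Group K] [Fintype K] (ι : K →* J) (hι : Function.Injective ι)
      (hn : ι.range.Normal) (hidx : ι.range.index = p ^ b) {θ : K → ℂ}
      (hθ : IsIrrCharacter K θ)
      (hinv : ∀ (g : J) (n n' : K), ι n' = g * ι n * g⁻¹ → θ n' = θ n)
      (hfix : ∀ n, θ (n ^ k) = θ n),
      ∃ χ : J → ℂ, IsIrrCharacter J χ ∧ (∀ n, χ (ι n) = θ n) ∧ (∀ g, χ (g ^ k) = χ g) ∧
        ∀ χ' : J → ℂ, IsIrrCharacter J χ' → (∀ n, χ' (ι n) = θ n) →
          (∀ g, χ' (g ^ k) = χ' g) → χ' = χ := by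
  intro b
  induction b with
  | zero =>
    intro K _ _ ι hι hn hidx θ hθ hinv hfix
    have htop : ι.range = ⊤ := Subgroup.index_eq_one.mp (by simpa using hidx)
    have hsurj : Function.Surjective ι := MonoidHom.range_eq_top.mp htop
    let e : K ≃* J := MulEquiv.ofBijective ι ⟨hι, hsurj⟩
    have he : ∀ n, e n = ι n := fun n => rfl
    refine ⟨fun g => θ (e.symm g), isIrrCharacter_comp_equiv e.symm hθ, ?_, ?_, ?_⟩
    · intro n
      simp only
      rw [← he, MulEquiv.symm_apply_apply]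
    · intro g
      simp only
      rw [map_pow, hfix]
    · intro χ' hχ' hres' hfix'
      funext g
      have := hres' (e.symm g)
      rw [← he, MulEquiv.apply_symm_apply] at this
      exact this
  | succ b ih =>
    intro K _ _ ι hι hn hidx θ hθ hinv hfix
    classical
    haveI := hn
    obtain ⟨H₁, hH₁n, hRH, hH₁idx, hrel⟩ := exists_normal_step hp ι.range b hidx
    haveI := hH₁n
    let ι₁ : K →* H₁ := ι.codRestrict H₁ (fun n => hRH (mr ι n))
    have hι₁ : Function.Injective ι₁ := fun a b hab => hι (congrArg Subtype.val hab)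
    have hι₁c : ∀ n, ((ι₁ n : H₁) : J) = ι n := fun n => rfl
    have hrange : ι₁.range = ι.range.subgroupOf H₁ := by
      ext x
      rw [MonoidHom.mem_range, Subgroup.mem_subgroupOf, MonoidHom.mem_range]
      constructor
      · rintro ⟨n, rfl⟩; exact ⟨n, rfl⟩
      · rintro ⟨n, hn'⟩; exact ⟨n, Subtype.ext hn'⟩
    have hn₁ : ι₁.range.Normal := by
      rw [hrange]; exact Subgroup.Normal.subgroupOf hn H₁
    haveI := hn₁
    have hidx₁ : ι₁.range.index = p := by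
      rw [hrange]; exact hrel
    have hcyc : IsCyclic (H₁ ⧸ ι₁.range) := by
      haveI : Fact p.Prime := ⟨hp⟩
      exact isCyclic_of_prime_card (p := p) (by rw [← hidx₁]; rfl)
    have hinv₁ : ∀ (g : H₁) (n n' : K), ι₁ n' = g * ι₁ n * g⁻¹ → θ n' = θ n := by
      intro g n n' h
      have h2 := congrArg Subtype.val h
      rw [Subgroup.coe_mul, Subgroup.coe_mul, Subgroup.coe_inv, hι₁c, hι₁c] at h2
      exact hinv (g : J) n n' h2
    obtain ⟨χ₁, hχ₁, hχ₁res⟩ := cyclic_ext ι₁ hι₁ hcyc hθ hinv₁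
    have hkH : k.Coprime (Nat.card H₁) :=
      Nat.Coprime.coprime_dvd_right (Subgroup.card_subgroup_dvd_card H₁) hkJ
    obtain ⟨η₁, ⟨hη₁irr, hη₁res⟩, hη₁fix, hη₁uniq⟩ := exists_unique_fixed (a := 1) hp hk1 hkp
      {χ : H₁ → ℂ | IsIrrCharacter H₁ χ ∧ ∀ n, χ (ι₁ n) = θ n} ⟨χ₁, hχ₁, hχ₁res⟩
      {μ : H₁ →* ℂˣ | ∀ n, μ (ι₁ n) = 1}
      (by
        intro μ hμ g
        rw [pow_one, ← map_pow]
        have hmem : g ^ p ∈ ι₁.range := by
          have := Subgroup.pow_index_mem ι₁.range g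
          rwa [hidx₁] at this
        obtain ⟨n, hn'⟩ := MonoidHom.mem_range.mp hmem
        rw [← hn']; exact hμ n)
      (by
        intro μ hμ e n
        rw [MonoidHom.pow_apply, hμ n, one_pow])
      (by
        rintro χ ⟨hχ, hres⟩ χ' ⟨hχ', hres'⟩
        obtain ⟨μ, hμ, hμ'⟩ := twist ι₁ hι₁ hθ hχ hχ' hres hres'
        exact ⟨μ, hμ, hμ'⟩)
      (by
        rintro χ ⟨hχ, hres⟩ μ hμ
        refine ⟨Cfsg.Agent.H16.isIrrCharacter_mul_hom hχ μ, fun n => ?_⟩
        simp only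
        rw [hμ n, hres n]; simp)
      (by
        rintro χ ⟨hχ, hres⟩
        refine ⟨Cfsg.Agent.H79.isIrrCharacter_comp_pow k hkH hχ, fun n => ?_⟩
        simp only
        rw [← map_pow, hres, hfix])
    have hη₁inv : ∀ (g : J) (x x' : H₁), (x' : J) = g * (x : J) * g⁻¹ → η₁ x' = η₁ x := by
      intro g x x' hx
      let c : H₁ ≃* H₁ := MulAut.conjNormal g
      have hc : ∀ y : H₁, ((c y : H₁) : J) = g * y * g⁻¹ := fun y => rfl
      have hx' : x' = c x := Subtype.ext (by rw [hc, hx])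
      have hmem : (fun y => η₁ (c y)) ∈
          {χ : H₁ → ℂ | IsIrrCharacter H₁ χ ∧ ∀ n, χ (ι₁ n) = θ n} := by
        refine ⟨isIrrCharacter_comp_equiv c hη₁irr, fun n => ?_⟩
        simp only
        obtain ⟨n₂, hn₂⟩ : ∃ n₂, ι n₂ = g * ι n * g⁻¹ :=
          MonoidHom.mem_range.mp (hn.conj_mem (ι n) (mr ι n) g)
        have e : c (ι₁ n) = ι₁ n₂ := Subtype.ext (by rw [hc, hι₁c, hι₁c, hn₂])
        rw [e, hη₁res]
        exact hinv g n n₂ hn₂
      have hfix' : ∀ y, (fun y => η₁ (c y)) (y ^ k) = (fun y => η₁ (c y)) y := by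
        intro y
        simp only
        rw [map_pow, hη₁fix]
      have := hη₁uniq _ hmem hfix'
      rw [hx']
      exact congrFun this x
    have hrsub : H₁.subtype.range = H₁ := Subgroup.range_subtype H₁
    obtain ⟨χ, hχ, hχres, hχfix, hχuniq⟩ := ih (K := H₁) H₁.subtype Subtype.val_injective
      (by rw [hrsub]; exact hH₁n) (by rw [hrsub]; exact hH₁idx) hη₁irr
      (fun g x x' h => hη₁inv g x x' h) hη₁fix
    refine ⟨χ, hχ, fun n => ?_, hχfix, ?_⟩
    · have := hχres (ι₁ n)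
      rw [hη₁res] at this
      exact this
    · intro χ' hχ' hres' hfix'
      apply hχuniq χ' hχ' ?_ hfix'
      have hirr' : IsIrrCharacter H₁ (fun x : H₁ => χ' x) :=
        res_irr_hom ι hχ' (by
          have : (fun n => χ' (ι n)) = θ := funext hres'
          rw [this]; exact hθ) H₁ (fun n => hRH (mr ι n))
      have hmem : (fun x : H₁ => χ' x) ∈
          {χ : H₁ → ℂ | IsIrrCharacter H₁ χ ∧ ∀ n, χ (ι₁ n) = θ n} :=
        ⟨hirr', fun n => hres' n⟩
      have := hη₁uniq _ hmem (fun y => by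
        show χ' ((y ^ k : H₁) : J) = χ' (y : J)
        rw [Subgroup.coe_pow]
        exact hfix' _)
      intro x
      exact congrFun this x

end PStep

end Cfsg.Agent.H92.PRat
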