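/-
helper92: existence of extensions and the canonical "good" extension over `N C(Q)`, in hom form,
for S4892.

* `pprime_ext`: Alperin–Dade existence across a normal subgroup of index prime to `p`;
* `exists_ext`: existence of an extension over `N C(Q)` of an invariant member of the principal
  block fixed by a power map;
* `Good`: agreement of the central character with the augmentation on the centraliser algebra;
* `exists_canon`: the unique good extension fixed by the power map.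
-/
import Mathlib
import Cfsg.Prelude.Def_Blocks
import Cfsg.Agent.H92.PRatTorsor
import Cfsg.Agent.H92.PrincCover
import Cfsg.Agent.H79.ExtFirstMain
import Cfsg.Agent.H20.PElement

set_option autoImplicit false
set_option linter.unusedSectionVars false
set_option linter.unusedVariables false
set_option linter.style.haveILetI false

namespace Cfsg.Agent.H92.PRat

open Cfsg Cfsg.Agent.H4 Cfsg.Agent.H20 Cfsg.Agent.Clifford Cfsg.Agent.H92.DadeExt

universe u

section Cod

variable {J : Type u} [Group J] {K : Type u} [Group K] (ι : K →* J) (P : Subgroup J)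
  (hP : ι.range ≤ P)

/-- The corestriction of `ι` to a subgroup containing its range. -/
def cod : K →* P := ι.codRestrict P (fun n => hP (MonoidHom.mem_range.mpr ⟨n, rfl⟩))

theorem cod_coe (n : K) : ((cod ι P hP n : P) : J) = ι n := rfl

theorem cod_inj (hι : Function.Injective ι) : Function.Injective (cod ι P hP) :=
  fun a b hab => hι (congrArg Subtype.val hab)

theorem cod_range : (cod ι P hP).range = ι.range.subgroupOf P := by
  ext x
  rw [MonoidHom.mem_range, Subgroup.mem_subgroupOf, MonoidHom.mem_range]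
  constructor
  · rintro ⟨n, rfl⟩; exact ⟨n, rfl⟩
  · rintro ⟨n, hn'⟩; exact ⟨n, Subtype.ext hn'⟩

theorem cod_normal [hn : ι.range.Normal] : (cod ι P hP).range.Normal := by
  rw [cod_range]; exact Subgroup.Normal.subgroupOf hn P

theorem cod_index : (cod ι P hP).range.index = ι.range.relIndex P := by
  rw [cod_range]; rfl

end Cod

/-- The preimage of a Sylow `r`-subgroup of the quotient by a normal subgroup. -/
theorem exists_sylow_over {J : Type u} [Group J] [Finite J] (R : Subgroup J) [R.Normal] (r : ℕ)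
    (hr : r.Prime) :
    ∃ P : Subgroup J, R ≤ P ∧ Nat.Coprime P.index r ∧ ∃ k : ℕ, R.relIndex P = r ^ k := by
  haveI : Fact r.Prime := ⟨hr⟩
  obtain ⟨S⟩ := (inferInstance : Nonempty (Sylow r (J ⧸ R)))
  have hle : R ≤ (S : Subgroup (J ⧸ R)).comap (QuotientGroup.mk' R) := by
    intro x hx
    rw [Subgroup.mem_comap]
    have : (QuotientGroup.mk' R) x = 1 := (QuotientGroup.eq_one_iff x).mpr hx
    rw [this]; exact Subgroup.one_mem _
  have hidx : ((S : Subgroup (J ⧸ R)).comap (QuotientGroup.mk' R)).index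
      = (S : Subgroup (J ⧸ R)).index :=
    Subgroup.index_comap_of_surjective _ (QuotientGroup.mk'_surjective R)
  refine ⟨(S : Subgroup (J ⧸ R)).comap (QuotientGroup.mk' R), hle, ?_, ?_⟩
  · rw [hidx]
    exact ((Nat.Prime.coprime_iff_not_dvd hr).mpr S.not_dvd_index).symm
  · obtain ⟨k, hk⟩ := IsPGroup.iff_card.mp S.isPGroup'
    refine ⟨k, ?_⟩
    have h1 := Subgroup.relIndex_mul_index hle
    rw [hidx] at h1
    have h2 : Nat.card (S : Subgroup (J ⧸ R)) * (S : Subgroup (J ⧸ R)).index = R.index :=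
      Subgroup.card_mul_index _
    rw [← h2, hk] at h1
    exact Nat.eq_of_mul_eq_mul_right (Nat.pos_of_ne_zero Subgroup.index_ne_zero_of_finite) h1

section Ext

variable {p : ℕ} [Fact p.Prime] {M : Ideal AlgInt}
variable {J : Type u} [Group J] [Fintype J] {K : Type u} [Group K] [Fintype K]
  (ι : K →* J) (hι : Function.Injective ι)

/-- The transport of an irreducible character to the range of `ι`. -/
noncomputable def rangeIrr (θ : IrrCharacter K) : IrrCharacter ι.range :=
  ⟨rangeChar ι hι θ.1, isIrr_rangeChar ι hι θ.2⟩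

theorem rangeIrr_mem {θ : IrrCharacter K} (hθ : θ ∈ principalBlock M K) :
    rangeIrr ι hι θ ∈ principalBlock M ι.range :=
  (Cfsg.Agent.H79.sameBlock_comp_equiv (M := M) (MonoidHom.ofInjective hι).symm
    (fun _ => (1 : ℂ)) θ.1).mpr hθ

include hι

/-- Alperin–Dade existence: across a normal subgroup of index prime to `p` covered by the
centraliser of a Sylow `p`-subgroup, members of the principal block extend. -/
theorem pprime_ext [hn : ι.range.Normal] (hM : IsPModular p M) (hidx : ¬ p ∣ ι.range.index)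
    (Q : Sylow p K)
    (hcov : ∀ g : J, ∃ (n : K) (c : J), g = ι n * c ∧ ∀ q ∈ Q, ι q * c = c * ι q)
    (θ : IrrCharacter K) (hθ : θ ∈ principalBlock M K) :
    ∃ χ : J → ℂ, IsIrrCharacter J χ ∧ ∀ n, χ (ι n) = θ.1 n := by
  classical
  have hp : p.Prime := Fact.out
  haveI : Fintype ι.range := Fintype.ofFinite _
  have hgood : ∀ g : J, ∃ n : ι.range,
      ¬ p ∣ (Subgroup.centralizer ({(n : J) * g} : Set J)).index := by
    intro g
    obtain ⟨n, c, hg, hc⟩ := hcov g
    refine ⟨⟨ι n⁻¹, mr ι _⟩, ?_⟩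
    have e : ι n⁻¹ * g = c := by rw [hg, map_inv, inv_mul_cancel_left]
    show ¬ p ∣ (Subgroup.centralizer ({ι n⁻¹ * g} : Set J)).index
    rw [e]
    have hle : (Q : Subgroup K).map ι ≤ Subgroup.centralizer ({c} : Set J) := by
      rintro _ ⟨q, hq, rfl⟩
      rw [Subgroup.mem_centralizer_singleton_iff]
      exact hc q hq
    have hdvd := Subgroup.index_dvd_of_le hle
    intro hpd
    have h2 : p ∣ ((Q : Subgroup K).map ι).index := hpd.trans hdvd
    rw [Subgroup.index_map, (MonoidHom.ker_eq_bot_iff ι).mpr hι, sup_bot_eq] at h2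
    rcases (Nat.Prime.dvd_mul hp).mp h2 with h3 | h3
    · exact Q.not_dvd_index h3
    · exact hidx h3
  obtain ⟨χ, hχ, hne⟩ := PrincCover.cover_up ι.range hM (rangeIrr ι hι θ) (rangeIrr_mem ι hι hθ)
  have hirr := AlperinDade.res_irr ι.range hM hgood χ hχ
  have hres : (fun n : ι.range => (χ : J → ℂ) n) = (rangeIrr ι hι θ).1 :=
    eq_of_classInner_ne_zero hirr (rangeIrr ι hι θ).2 hne
  refine ⟨χ.1, χ.2, fun n => ?_⟩
  have := congrFun hres ⟨ι n, mr ι n⟩
  simp only at this
  rw [this]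
  exact rangeChar_apply ι hι θ.1 n _

/-- Existence of an extension over `N C(Q)` of an invariant member of the principal block
which is fixed by the power map `g ↦ g ^ k`, `k ≢ 1 (mod p)`. -/
theorem exists_ext [hn : ι.range.Normal] (hM : IsPModular p M) {k : ℕ} (hk1 : 1 ≤ k)
    (hkp : ¬ p ∣ k - 1) (hkJ : k.Coprime (Nat.card J)) (Q : Sylow p K)
    (hcov : ∀ g : J, ∃ (n : K) (c : J), g = ι n * c ∧ ∀ q ∈ Q, ι q * c = c * ι q)
    (θ : IrrCharacter K) (hθ : θ ∈ principalBlock M K)
    (hinv : ∀ (g : J) (n n' : K), ι n' = g * ι n * g⁻¹ → θ.1 n' = θ.1 n)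
    (hfix : ∀ n, θ.1 (n ^ k) = θ.1 n) :
    ∃ χ : J → ℂ, IsIrrCharacter J χ ∧ ∀ n, χ (ι n) = θ.1 n := by
  classical
  have hp : p.Prime := Fact.out
  apply sylow_ext ι hι θ.2 hinv
  intro r hr
  obtain ⟨P, hP, hcop, kk, hkk⟩ := exists_sylow_over ι.range r hr
  haveI := cod_normal ι P hP
  have hinvP : ∀ (g : P) (n n' : K), cod ι P hP n' = g * cod ι P hP n * g⁻¹ →
      θ.1 n' = θ.1 n := by
    intro g n n' h
    have h2 := congrArg Subtype.val h
    rw [Subgroup.coe_mul, Subgroup.coe_mul, Subgroup.coe_inv, cod_coe, cod_coe] at h2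
    exact hinv (g : J) n n' h2
  by_cases hrp : r = p
  · subst hrp
    obtain ⟨η, hη, hηres, -, -⟩ := pstep hp hk1 hkp (J := P)
      (hkJ.coprime_dvd_right (Subgroup.card_subgroup_dvd_card P)) kk (cod ι P hP)
      (cod_inj ι P hP hι) (cod_normal ι P hP) (by rw [cod_index]; exact hkk) θ.2 hinvP hfix
    exact ⟨P, hP, η, hcop, ⟨kk, hkk⟩, hη, fun n => hηres n⟩
  · have hidxP : ¬ p ∣ (cod ι P hP).range.index := by
      rw [cod_index, hkk]
      intro h
      exact hrp ((Nat.prime_dvd_prime_iff_eq hp hr).mp (hp.dvd_of_dvd_pow h)).symm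
    have hcovP : ∀ g : P, ∃ (n : K) (c : P), g = cod ι P hP n * c ∧
        ∀ q ∈ Q, cod ι P hP q * c = c * cod ι P hP q := by
      intro g
      obtain ⟨n, c, hg, hc⟩ := hcov (g : J)
      have hcP : c ∈ P := by
        have : c = (ι n)⁻¹ * g := by rw [hg, inv_mul_cancel_left]
        rw [this]
        exact P.mul_mem (P.inv_mem (hP (mr ι n))) g.2
      exact ⟨n, ⟨c, hcP⟩, Subtype.ext hg, fun q hq => Subtype.ext (hc q hq)⟩
    obtain ⟨η, hη, hηres⟩ := pprime_ext (cod ι P hP) (cod_inj ι P hP hι) hM hidxP Q hcovP θ hθ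
    exact ⟨P, hP, η, hcop, ⟨kk, hkk⟩, hη, fun n => hηres n⟩

end Ext

section Good

variable {p : ℕ} {M : Ideal AlgInt}
variable {J : Type u} [Group J] [Fintype J]

/-- Agreement of the central character of `χ` with the augmentation, modulo the local ideal, on
all `R`-invariant elements of the group algebra with integer coefficients. -/
def Good (R : Subgroup J) (M : Ideal AlgInt) (χ : J → ℂ) : Prop :=
  ∀ z : MonoidAlgebra ℂ J, NInv R z → IntC z → MemLocalIdeal M (omega χ z - aug z)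

theorem good_of_congr (hMp : M.IsPrime) (R : Subgroup J) {χ χ' : J → ℂ}
    (hχ1 : MemLocalRing M (χ 1)⁻¹) (h1 : χ' 1 = χ 1) (hc : ∀ g, MemLocalIdeal M (χ' g - χ g))
    (hg : Good R M χ) : Good R M χ' := by
  intro z hz hzi
  have e1 : omega χ' z - omega χ z = ∑ g : J, z.coeff g * (χ' g - χ g) * (χ 1)⁻¹ := by
    unfold omega
    rw [h1, ← sub_div, ← Finset.sum_sub_distrib, div_eq_mul_inv, Finset.sum_mul]
    apply Finset.sum_congr rfl
    intro g _
    ring
  have e2 : omega χ' z - aug z = (omega χ' z - omega χ z) + (omega χ z - aug z) := by ring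
  rw [e2, e1]
  refine memLocalIdeal_add hMp (memLocalIdeal_sum hMp _ _ (fun g _ => ?_)) (hg z hz hzi)
  obtain ⟨k, hk⟩ := hzi g
  rw [hk]
  exact memLocalIdeal_mul_right hMp
    (memLocalIdeal_mul_left hMp (memLocalRing_intCast hMp k) (hc g)) hχ1

theorem good_equiv (R : Subgroup J) {χ : J → ℂ} (hg : Good R M χ) (α : J ≃* J)
    (hα : ∀ x ∈ R, α.symm x ∈ R) : Good R M (fun g => χ (α g)) := by
  classical
  intro z hz hzi
  set z' : MonoidAlgebra ℂ J := ∑ g : J, MonoidAlgebra.single (α g) (z.coeff g) with hz'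
  have hcoef : ∀ y, z'.coeff y = z.coeff (α.symm y) := by
    intro y
    rw [hz', coeff_sum_single]
    rw [Finset.sum_eq_single (α.symm y)]
    · simp
    · intro g _ hgy
      rw [if_neg]
      intro h
      exact hgy (by rw [← h, MulEquiv.symm_apply_apply])
    · intro h; exact absurd (Finset.mem_univ _) h
  have hninv : NInv R z' := by
    intro y n hn
    have e : α.symm (n * y * n⁻¹) = α.symm n * α.symm y * (α.symm n)⁻¹ := by
      rw [map_mul, map_mul, map_inv]
    rw [hcoef, hcoef, e]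
    exact hz _ _ (hα n hn)
  have hint : IntC z' := fun y => by rw [hcoef]; exact hzi _
  have h := hg z' hninv hint
  have e1 : omega χ z' = omega (fun g => χ (α g)) z := by
    rw [hz', omega_sum_single]
    unfold omega
    simp only [map_one]
  have e2 : aug z' = aug z := by
    rw [hz', aug_sum_single]; rfl
  rw [e1, e2] at h
  exact h

theorem pow_sub_one_loc (hMp : M.IsPrime) {x : ℂ} (h : MemLocalIdeal M (x - 1)) (n : ℕ) :
    MemLocalIdeal M (x ^ n - 1) := by
  have hx : MemLocalRing M x := by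
    have := memLocalRing_add hMp (Cfsg.Agent.H20.MemLocalIdeal.memLocalRing h)
      (memLocalRing_one hMp)
    rwa [sub_add_cancel] at this
  induction n with
  | zero => rw [pow_zero, sub_self]; exact memLocalIdeal_zero hMp
  | succ n ih =>
    have e : x ^ (n + 1) - 1 = x ^ n * (x - 1) + (x ^ n - 1) := by ring
    rw [e]
    exact memLocalIdeal_add hMp (memLocalIdeal_mul_left hMp (memLocalRing_pow hMp hx n) h) ih

/-- Character values at `g ^ u` and `g` are congruent when `g ^ (u - 1)` is a `p`-element. -/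
theorem pow_congr (hM : IsPModular p M) (a m₀ : ℕ) (hexp : ∀ g : J, g ^ (p ^ a * m₀) = 1)
    {u : ℕ} (hu0 : 1 ≤ u) (hum : u ≡ 1 [MOD m₀]) {χ : J → ℂ} (hχ : IsIrrCharacter J χ) (g : J) :
    MemLocalIdeal M (χ (g ^ u) - χ g) := by
  have hu' : u = (u - 1) + 1 := by omega
  have e : g ^ u = g ^ (u - 1) * g := by conv_lhs => rw [hu', pow_succ]
  rw [e]
  have hm : m₀ ∣ u - 1 := (Nat.modEq_iff_dvd' hu0).mp hum.symm
  have hx : (g ^ (u - 1)) ^ p ^ a = 1 := by
    rw [← pow_mul]
    obtain ⟨t, ht⟩ := hm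
    have e2 : (u - 1) * p ^ a = (p ^ a * m₀) * t := by rw [ht]; ring
    rw [e2, pow_mul, hexp, one_pow]
  exact irr_mul_sub_of_commute hM ⟨χ, hχ⟩ (g ^ (u - 1)) g ((Commute.refl g).pow_left _) hx

theorem good_pow (hM : IsPModular p M) (R : Subgroup J) (a m₀ : ℕ)
    (hexp : ∀ g : J, g ^ (p ^ a * m₀) = 1) {u : ℕ} (hu0 : 1 ≤ u) (hum : u ≡ 1 [MOD m₀])
    {χ : J → ℂ} (hχ : IsIrrCharacter J χ) (hχ1 : MemLocalRing M (χ 1)⁻¹) (hg : Good R M χ) :
    Good R M (fun g => χ (g ^ u)) :=
  good_of_congr (isPrime_of_isPModular hM) R hχ1 (by simp)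
    (fun g => pow_congr hM a m₀ hexp hu0 hum hχ g) hg

theorem deg_inv_loc (hM : IsPModular p M) {K : Type u} [Group K] (θ : IrrCharacter K)
    (hdeg : ¬ p ∣ charDegree θ.1) : MemLocalRing M (θ.1 1)⁻¹ := by
  obtain ⟨d, hd0, hd⟩ := irr_one_eq_natCast θ
  have : charDegree θ.1 = d := by
    unfold charDegree
    rw [hd]
    simp
  rw [this] at hdeg
  rw [hd]
  exact memLocalRing_inv_natCast hM hdeg

variable {K : Type u} [Group K] [Fintype K] (ι : K →* J) (hι : Function.Injective ι)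

include hι

/-- Every coset of the range of `ι` carries an invariant element with integer coefficients and
augmentation prime to `p`, when the coset meets the centraliser of a Sylow `p`-subgroup. -/
theorem unit_hom [hn : ι.range.Normal] [Fact p.Prime] (hM : IsPModular p M) (Q : Sylow p K)
    (g : J) (n : K) (c : J) (hg : g = ι n * c) (hc : ∀ q ∈ Q, ι q * c = c * ι q) :
    ∃ k : MonoidAlgebra ℂ J, NInv ι.range k ∧ IntC k ∧ Supp ι.range g k ∧
      ¬ MemLocalIdeal M (aug k) := by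
  classical
  let F : K ⧸ (Q : Subgroup K) → J := fun q => ι (q.out : K) * c * (ι (q.out : K))⁻¹
  refine ⟨∑ q : K ⧸ (Q : Subgroup K), MonoidAlgebra.single (F q) 1, ?_, ?_, ?_, ?_⟩
  · intro x m hm
    obtain ⟨m', rfl⟩ := MonoidHom.mem_range.mp hm
    rw [coeff_sum_single, coeff_sum_single]
    have hF : ∀ q : K ⧸ (Q : Subgroup K), F (m' • q) = ι m' * F q * (ι m')⁻¹ := by
      intro q
      have h1 : ((m' * q.out : K) : K ⧸ (Q : Subgroup K))
          = (((m' • q).out : K) : K ⧸ (Q : Subgroup K)) := by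
        rw [QuotientGroup.out_eq']
        conv_rhs => rw [← QuotientGroup.out_eq' q]
        rfl
      have h2 := QuotientGroup.eq.mp h1
      have h3 := hc _ h2
      have h4 : ι ((m' • q).out : K)
          = ι m' * ι (q.out : K) * ι ((m' * q.out)⁻¹ * (m' • q).out) := by
        rw [← map_mul, ← map_mul]; congr 1; group
      simp only [F]
      rw [h4]
      set w : J := ι ((m' * q.out)⁻¹ * (m' • q).out) with hw
      have e1 : ι m' * ι (q.out : K) * w * c * (ι m' * ι (q.out : K) * w)⁻¹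
          = ι m' * ι (q.out : K) * (w * c) * w⁻¹ * (ι (q.out : K))⁻¹ * (ι m')⁻¹ := by group
      rw [e1, h3]; group
    rw [← Equiv.sum_comp (MulAction.toPerm m' : K ⧸ (Q : Subgroup K) ≃ K ⧸ (Q : Subgroup K))]
    apply Finset.sum_congr rfl
    intro q _
    have hiff : (F ((MulAction.toPerm m') q) = ι m' * x * (ι m')⁻¹) ↔ (F q = x) := by
      rw [show (MulAction.toPerm m') q = m' • q from rfl, hF]
      constructor
      · intro h
        have := congrArg (fun t => (ι m')⁻¹ * t * ι m') h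
        simpa [mul_assoc] using this
      · intro h; rw [h]
    simp only [hiff]
  · intro x
    rw [coeff_sum_single]
    refine ⟨((Finset.univ.filter (fun q => F q = x)).card : ℤ), ?_⟩
    rw [Finset.sum_ite, Finset.sum_const_zero, add_zero, Finset.sum_const, nsmul_eq_mul, mul_one]
    push_cast; rfl
  · intro x hx
    rw [coeff_sum_single] at hx
    obtain ⟨q, -, hq⟩ := Finset.exists_ne_zero_of_sum_ne_zero hx
    have hFq : F q = x := by by_contra h; exact hq (if_neg h)
    rw [← hFq, hg]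
    have e : F q * (ι n * c)⁻¹
        = ι (q.out : K) * (c * (ι (q.out : K))⁻¹ * c⁻¹) * (ι n)⁻¹ := by
      simp only [F]; group
    rw [e]
    exact ι.range.mul_mem (ι.range.mul_mem (mr ι _)
      (hn.conj_mem _ (ι.range.inv_mem (mr ι _)) c)) (ι.range.inv_mem (mr ι n))
  · rw [aug_sum_single]
    simp only [Finset.sum_const, Finset.card_univ, nsmul_eq_mul, mul_one]
    rw [memLocalIdeal_natCast_iff hM]
    have : Fintype.card (K ⧸ (Q : Subgroup K)) = (Q : Subgroup K).index := by
      rw [Subgroup.index, Nat.card_eq_fintype_card]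
    rw [this]
    exact Q.not_dvd_index

/-- The canonical extension: among the good extensions of `θ` there is exactly one fixed by the
power map `g ↦ g ^ k`. -/
theorem exists_canon [Fact p.Prime] [hn : ι.range.Normal] (hM : IsPModular p M)
    (a m₀ : ℕ) (hm₀ : ¬ p ∣ m₀) (hcard : Nat.card J ∣ p ^ a * m₀)
    (Q : Sylow p K)
    (hcov : ∀ g : J, ∃ (n : K) (c : J), g = ι n * c ∧ ∀ q ∈ Q, ι q * c = c * ι q)
    (θ : IrrCharacter K) (hθ : θ ∈ principalBlock M K) (hdeg : ¬ p ∣ charDegree θ.1)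
    (hinv : ∀ (g : J) (n n' : K), ι n' = g * ι n * g⁻¹ → θ.1 n' = θ.1 n)
    {k : ℕ} (hkp : ¬ p ∣ k) (hkm : k ≡ 1 [MOD m₀]) (hk1 : ¬ p ∣ k - 1)
    (hfix : ∀ n, θ.1 (n ^ k) = θ.1 n) :
    ∃ η : J → ℂ, (IsIrrCharacter J η ∧ (∀ n, η (ι n) = θ.1 n) ∧ Good ι.range M η) ∧
      (∀ g, η (g ^ k) = η g) ∧
      ∀ η' : J → ℂ, (IsIrrCharacter J η' ∧ (∀ n, η' (ι n) = θ.1 n) ∧ Good ι.range M η') →
        (∀ g, η' (g ^ k) = η' g) → η' = η := by
  classical
  have hp : p.Prime := Fact.out
  have hMp := isPrime_of_isPModular hM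
  have hk0 : 1 ≤ k := Nat.pos_of_ne_zero (fun h => hkp (h ▸ dvd_zero p))
  have hm₀pos : 0 < m₀ := Nat.pos_of_ne_zero (fun h => hm₀ (h ▸ dvd_zero p))
  have hLpos : 0 < p ^ a * m₀ := Nat.mul_pos (pow_pos hp.pos a) hm₀pos
  have hkcop : k.Coprime (p ^ a * m₀) := by
    apply Nat.Coprime.mul_right
    · exact Nat.Coprime.pow_right a ((Nat.Prime.coprime_iff_not_dvd hp).mpr hkp).symm
    · have h1 := hkm.gcd_eq
      unfold Nat.Coprime
      rw [h1]; exact Nat.gcd_one_left m₀
  have hkJ : k.Coprime (Nat.card J) := Nat.Coprime.coprime_dvd_right hcard hkcop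
  have hexp : ∀ g : J, g ^ (p ^ a * m₀) = 1 := fun g =>
    orderOf_dvd_iff_pow_eq_one.mp ((orderOf_dvd_natCard g).trans hcard)
  have hθ1 : MemLocalRing M (θ.1 1)⁻¹ := deg_inv_loc hM θ hdeg
  -- an extension
  obtain ⟨ψ, hψirr, hψres⟩ := exists_ext ι hι hM hk0 hk1 hkJ Q hcov θ hθ hinv hfix
  -- the Dade setup
  have hψ' : ∀ x : ι.range, ψ x = (rangeIrr ι hι θ).1 x := by
    intro x
    obtain ⟨n, hn', rfl⟩ := exists_eq_range ι x
    show ψ (ι n) = rangeChar ι hι θ.1 ⟨ι n, hn'⟩
    rw [rangeChar_apply]; exact hψres n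
  obtain ⟨d, ρ, hρ, hρc⟩ := hψirr
  have hψirr : IsIrrCharacter J ψ := ⟨d, ρ, hρ, hρc⟩
  have hirrN : (resRep ρ ι.range).IsIrreducible :=
    resRep_irr_of_char ρ ι.range (rangeIrr ι hι θ).1 (rangeIrr ι hι θ).2
      (fun x => by rw [hρc]; exact hψ' x)
  have S : Setup ι.range M ψ :=
    { prime := hMp
      one_ne := irr_one_ne_zero ⟨ψ, hψirr⟩
      mul := fun z w hz => by rw [← hρc]; exact omega_mul_of_ninv ι.range ρ hirrN hz w
      base := fun z hz hzi hzs => base_of_principal ι.range hMp (rangeIrr ι hι θ)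
        (rangeIrr_mem ι hι hθ) ψ hψ' z hz hzi hzs
      unit := fun g => by
        obtain ⟨n, c, hg, hc⟩ := hcov g
        exact unit_hom ι hι hM Q g n c hg hc }
  obtain ⟨lam, hlamN, hrel⟩ := S.exists_lam hM
  have hgood₁ : Good ι.range M (fun g => ψ g * ((lam g : ℂˣ) : ℂ)) :=
    fun z hz hzi => S.good ι.range lam hlamN hrel hz hzi
  -- the torsor
  have hone : ∀ χ : J → ℂ, (∀ n, χ (ι n) = θ.1 n) → χ 1 = θ.1 1 := by
    intro χ h
    have := h 1
    rwa [map_one] at this
  have hint : ∀ χ : J → ℂ, IsIrrCharacter J χ → ∀ g, MemLocalRing M (χ g) := fun χ hχ g =>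
    memLocalRing_algInt hMp ⟨χ g, Cfsg.Agent.H81.irr_isIntegral ⟨χ, hχ⟩ g⟩
  have hμloc : ∀ (μ : J →* ℂˣ) (g : J), MemLocalRing M ((μ g : ℂˣ) : ℂ) := by
    intro μ g
    have h : ((μ g : ℂˣ) : ℂ) ^ (p ^ a * m₀) = 1 := by
      rw [← Units.val_pow_eq_pow_val, ← map_pow, hexp, map_one, Units.val_one]
    exact memLocalRing_algInt hMp ⟨_, IsIntegral.of_pow hLpos (by rw [h]; exact isIntegral_one)⟩
  have key := exists_unique_fixed (a := a) hp hk0 hk1
    {χ : J → ℂ | IsIrrCharacter J χ ∧ (∀ n, χ (ι n) = θ.1 n) ∧ Good ι.range M χ}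
    ⟨_, Cfsg.Agent.H16.isIrrCharacter_mul_hom hψirr lam, fun n => by
        show ψ (ι n) * ((lam (ι n) : ℂˣ) : ℂ) = θ.1 n
        rw [hlamN _ (mr ι n), hψres n]; simp, hgood₁⟩
    {μ : J →* ℂˣ | (∀ n, μ (ι n) = 1) ∧ ∀ g, MemLocalIdeal M (((μ g : ℂˣ) : ℂ) - 1)}
    ?hΛpow ?hΛclosed ?htors ?hact ?hσ
  case hΛpow =>
    rintro μ ⟨hμN, hμc⟩ g
    have h1 : ((μ g : ℂˣ) : ℂ) ^ (p ^ a) = 1 := by
      apply AlperinDade.root_eq_one hM hm₀ (m := m₀)
      · rw [← pow_mul, ← Units.val_pow_eq_pow_val, ← map_pow, hexp, map_one, Units.val_one]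
      · have h2 := pow_sub_one_loc hMp (hμc g) (p ^ a)
        have := memLocalIdeal_neg h2
        rwa [neg_sub] at this
    exact Units.ext (by rw [Units.val_pow_eq_pow_val, h1, Units.val_one])
  case hΛclosed =>
    rintro μ ⟨hμN, hμc⟩ e
    refine ⟨fun n => by rw [MonoidHom.pow_apply, hμN n, one_pow], fun g => ?_⟩
    rw [MonoidHom.pow_apply, Units.val_pow_eq_pow_val]
    exact pow_sub_one_loc hMp (hμc g) e
  case htors =>
    rintro χ₁ ⟨hχ₁, hres₁, hg₁⟩ χ₂ ⟨hχ₂, hres₂, hg₂⟩
    obtain ⟨μ, hμ, hμ'⟩ := twist ι hι θ.2 hχ₁ hχ₂ hres₁ hres₂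
    refine ⟨μ, ⟨hμ, fun g => ?_⟩, hμ'⟩
    obtain ⟨kk, hkn, hki, hks, hka⟩ := S.unit g
    have h1 := hg₁ kk hkn hki
    have h2 := hg₂ kk hkn hki
    have e : omega χ₂ kk = ((μ g : ℂˣ) : ℂ) * omega χ₁ kk := by
      unfold omega
      rw [hone χ₂ hres₂, hone χ₁ hres₁, ← mul_div_assoc, Finset.mul_sum]
      congr 1
      apply Finset.sum_congr rfl
      intro x _
      by_cases hx : kk.coeff x = 0
      · rw [hx]; simp
      · have hxN := hks x hx
        obtain ⟨n, hn'⟩ := MonoidHom.mem_range.mp hxN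
        have hμx : μ x = μ g := by
          have : x = ι n * g := by rw [hn']; group
          rw [this, map_mul, hμ n, one_mul]
        rw [hμ' x, hμx]; ring
    have h3 : MemLocalIdeal M ((((μ g : ℂˣ) : ℂ) - 1) * omega χ₁ kk) := by
      have := memLocalIdeal_sub hMp h2 h1
      rw [e] at this
      convert this using 1; ring
    have hloc1 : MemLocalRing M (omega χ₁ kk) := by
      have := memLocalRing_add hMp (Cfsg.Agent.H20.MemLocalIdeal.memLocalRing h1)
        (S.augloc hki)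
      rwa [sub_add_cancel] at this
    have hnot : ¬ MemLocalIdeal M (omega χ₁ kk) := by
      intro h
      apply hka
      have := memLocalIdeal_sub hMp h h1
      rwa [sub_sub_cancel] at this
    have hμl : MemLocalRing M (((μ g : ℂˣ) : ℂ) - 1) :=
      memLocalRing_sub hMp (hμloc μ g) (memLocalRing_one hMp)
    exact (memLocalIdeal_or_of_mul hMp hμl hloc1 h3).resolve_right hnot
  case hact =>
    rintro χ ⟨hχ, hres, hg⟩ μ ⟨hμN, hμc⟩
    refine ⟨Cfsg.Agent.H16.isIrrCharacter_mul_hom hχ μ, fun n => ?_, ?_⟩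
    · simp only
      rw [hμN n, hres n]; simp
    · apply good_of_congr hMp ι.range (χ := χ) (by rw [hone χ hres]; exact hθ1) (by simp)
        (fun g => ?_) hg
      have e : χ g * ((μ g : ℂˣ) : ℂ) - χ g = χ g * (((μ g : ℂˣ) : ℂ) - 1) := by ring
      rw [e]
      exact memLocalIdeal_mul_left hMp (hint χ hχ g) (hμc g)
  case hσ =>
    rintro χ ⟨hχ, hres, hg⟩
    refine ⟨Cfsg.Agent.H79.isIrrCharacter_comp_pow k hkJ hχ, fun n => ?_, ?_⟩
    · simp only
      rw [← map_pow, hres, hfix]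
    · exact good_pow hM ι.range a m₀ hexp hk0 hkm hχ (by rw [hone χ hres]; exact hθ1) hg
  exact key

end Good

end Cfsg.Agent.H92.PRat
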