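/-
helper92: the `p`-rational extension theorem (S4892).

Let `p` be odd, `N ⊴ G`, `θ ∈ Irr(N)` a `G`-invariant `p`-rational member of the principal block
of `N` of degree prime to `p`, `Q` a Sylow `p`-subgroup of `N` and `H = N C_G(Q)` of `p`-power
index in `G`.  Then `H ⊴ G`; among the extensions of `θ` to `H` whose central characters agree
with the augmentation on the centraliser algebra of `N` there is exactly one fixed by a suitable
power map; it is `G`-invariant and fixed by all the relevant power maps, and has a unique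
extension to `G` fixed by the same power map.  The latter is `p`-rational and lies in the
principal block.
-/
import Mathlib
import Cfsg.Prelude.Def_Blocks
import Cfsg.Agent.H92.PRatGood
import Cfsg.Agent.H92.PRatField
import Cfsg.Agent.H20.SecondMain

set_option autoImplicit false
set_option linter.unusedSectionVars false
set_option linter.unusedVariables false
set_option linter.style.haveILetI false

namespace Cfsg.Agent.H92.PRat

open Cfsg Cfsg.Agent.H4 Cfsg.Agent.H20 Cfsg.Agent.Clifford Cfsg.Agent.H92.DadeExt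

universe u

/-- `N C_G(Q)` is normal in `G` for a Sylow subgroup `Q` of the normal subgroup `N`. -/
theorem sup_centralizer_normal {G : Type*} [Group G] [Finite G] (p : ℕ) [Fact p.Prime]
    (N : Subgroup G) [hN : N.Normal] (Q : Sylow p N) :
    (N ⊔ Subgroup.centralizer
      (((Q : Subgroup N).map N.subtype : Subgroup G) : Set G)).Normal := by
  obtain ⟨Q', hQ'⟩ : ∃ Q' : Subgroup G, Q' = (Q : Subgroup N).map N.subtype := ⟨_, rfl⟩
  have hfrat : Subgroup.normalizer (Q' : Set G) ⊔ N = ⊤ := by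
    rw [hQ']; exact Sylow.normalizer_sup_eq_top Q
  rw [← hQ']
  have hCn : ∀ x ∈ Subgroup.normalizer (Q' : Set G),
      ∀ c ∈ Subgroup.centralizer (Q' : Set G), x * c * x⁻¹ ∈ Subgroup.centralizer (Q' : Set G) := by
    intro x hx c hc
    rw [Subgroup.mem_centralizer_iff] at hc ⊢
    intro q hq
    have hq' : x⁻¹ * q * x ∈ Q' := by
      have := (Subgroup.mem_normalizer_iff.mp (inv_mem hx) q).mp hq
      simpa using this
    have h1 := hc _ hq'
    calc q * (x * c * x⁻¹) = x * ((x⁻¹ * q * x) * c) * x⁻¹ := by group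
      _ = x * (c * (x⁻¹ * q * x)) * x⁻¹ := by rw [h1]
      _ = x * c * x⁻¹ * q := by group
  constructor
  intro h hh g
  have hg : g ∈ ((Subgroup.normalizer (Q' : Set G) ⊔ N : Subgroup G) : Set G) := by
    rw [hfrat]; exact Set.mem_univ g
  rw [Subgroup.mul_normal] at hg
  obtain ⟨x, hx, n, hn, rfl⟩ := Set.mem_mul.mp hg
  have hh' : h ∈ ((N ⊔ Subgroup.centralizer (Q' : Set G) : Subgroup G) : Set G) := hh
  rw [Subgroup.normal_mul] at hh'
  obtain ⟨n', hn', c, hc, rfl⟩ := Set.mem_mul.mp hh'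
  have e : x * n * (n' * c) * (x * n)⁻¹
      = (x * (n * n' * (c * n⁻¹ * c⁻¹)) * x⁻¹) * (x * c * x⁻¹) := by group
  rw [e]
  exact Subgroup.mul_mem _
    (Subgroup.mem_sup_left (hN.conj_mem _
      (N.mul_mem (N.mul_mem hn hn') (hN.conj_mem _ (N.inv_mem hn) c)) x))
    (Subgroup.mem_sup_right (hCn x hx c hc))

theorem cop_of {p : ℕ} (hp : p.Prime) {a m₀ u : ℕ} (hup : ¬ p ∣ u) (hum : u ≡ 1 [MOD m₀]) :
    u.Coprime (p ^ a * m₀) := by
  apply Nat.Coprime.mul_right
  · exact Nat.Coprime.pow_right a ((Nat.Prime.coprime_iff_not_dvd hp).mpr hup).symm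
  · have h1 := hum.gcd_eq
    unfold Nat.Coprime
    rw [h1]; exact Nat.gcd_one_left m₀

/-- Class sizes in a normal subgroup divide the class sizes in the group. -/
theorem index_centralizer_dvd {G : Type*} [Group G] [Finite G] (H : Subgroup G) [H.Normal]
    (y : H) : (Subgroup.centralizer ({y} : Set H)).index ∣
      (Subgroup.centralizer ({(y : G)} : Set G)).index := by
  obtain ⟨C, hC⟩ : ∃ C : Subgroup G, C = Subgroup.centralizer ({(y : G)} : Set G) := ⟨_, rfl⟩
  have e : Subgroup.centralizer ({y} : Set H) = C.subgroupOf H := by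
    ext x
    rw [Subgroup.mem_centralizer_singleton_iff, Subgroup.mem_subgroupOf, hC,
      Subgroup.mem_centralizer_singleton_iff]
    constructor
    · intro h; exact congrArg Subtype.val h
    · intro h; exact Subtype.ext h
  rw [e, ← hC]
  show C.relIndex H ∣ C.index
  have h1 : H.relIndex C * C.index = (H ⊓ C).index := by
    have := Subgroup.relIndex_inf_mul_relIndex H C ⊤
    simpa using this
  have h2 : C.relIndex H * H.index = (C ⊓ H).index := by
    have := Subgroup.relIndex_inf_mul_relIndex C H ⊤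
    simpa using this
  obtain ⟨t, ht⟩ := Subgroup.relIndex_dvd_index_of_normal H C
  rw [inf_comm, ← h1, ht] at h2
  have hne : H.relIndex C ≠ 0 := by
    show (H.subgroupOf C).index ≠ 0
    exact Subgroup.index_ne_zero_of_finite
  refine ⟨t, ?_⟩
  apply Nat.eq_of_mul_eq_mul_left (Nat.pos_of_ne_zero hne)
  rw [← h2]; ring

/-- The `p`-rational extension theorem. -/
theorem main {G : Type u} [Group G] [Fintype G] (p : ℕ) [Fact p.Prime] (hp2 : p ≠ 2)
    (M : Ideal AlgInt) (hM : IsPModular p M) (N : Subgroup G) [hN : N.Normal]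
    (θ : IrrCharacter N)
    (hinv : ∀ g : G, ∀ n n' : N, (n' : G) = g * (n : G) * g⁻¹ → θ.1 n' = θ.1 n)
    (hdeg : ¬ p ∣ charDegree θ.1)
    (hrat : ∃ m : ℕ, ¬ p ∣ m ∧ ∀ n : N, θ.1 n ∈ IntermediateField.adjoin ℚ
      ({Complex.exp (2 * Real.pi * Complex.I / m)} : Set ℂ))
    (hB : θ ∈ principalBlock M N) (Q : Sylow p N)
    (hidx : ∃ a : ℕ, (N ⊔ Subgroup.centralizer
      (((Q : Subgroup N).map N.subtype : Subgroup G) : Set G)).index = p ^ a) :
    ∃ χ : IrrCharacter G, χ ∈ principalBlock M G ∧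
      (∃ n : ℕ, ¬ p ∣ n ∧ ∀ g : G, χ.1 g ∈ IntermediateField.adjoin ℚ
        ({Complex.exp (2 * Real.pi * Complex.I / n)} : Set ℂ)) ∧
      ∀ n : N, χ.1 n = θ.1 n := by
  classical
  have hp : p.Prime := Fact.out
  have hMp := isPrime_of_isPModular hM
  obtain ⟨a₀, m₀, hm₀, hcardG⟩ :=
    Nat.exists_eq_pow_mul_and_not_dvd (Nat.card_pos (α := G)).ne' p hp.ne_one
  have hexpG : ∀ g : G, g ^ (p ^ a₀ * m₀) = 1 := fun g => by
    rw [← hcardG]; exact pow_card_eq_one'
  obtain ⟨r, hpr, hrat'⟩ := hrat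
  obtain ⟨b, hb⟩ := hidx
  -- the subgroup `H`
  obtain ⟨H, hHdef⟩ : ∃ H : Subgroup G, H = N ⊔ Subgroup.centralizer
      (((Q : Subgroup N).map N.subtype : Subgroup G) : Set G) := ⟨_, rfl⟩
  rw [← hHdef] at hb
  have hHn : H.Normal := by rw [hHdef]; exact sup_centralizer_normal p N Q
  haveI := hHn
  have hNH : N ≤ H := by rw [hHdef]; exact le_sup_left
  have hle : N.subtype.range ≤ H := by rw [Subgroup.range_subtype]; exact hNH
  haveI hrn : N.subtype.range.Normal := by rw [Subgroup.range_subtype]; exact hN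
  obtain ⟨ι, hιdef⟩ : ∃ ι : N →* H, ι = cod N.subtype H hle := ⟨_, rfl⟩
  have hι : Function.Injective ι := by
    rw [hιdef]; exact cod_inj N.subtype H hle Subtype.val_injective
  haveI hιn : ι.range.Normal := by rw [hιdef]; exact cod_normal N.subtype H hle
  have hιc : ∀ n : N, ((ι n : H) : G) = n := fun n => by rw [hιdef]; rfl
  have hcardH : Nat.card H ∣ p ^ a₀ * m₀ := by
    rw [← hcardG]; exact Subgroup.card_subgroup_dvd_card H
  have hexpH : ∀ g : H, g ^ (p ^ a₀ * m₀) = 1 := fun g =>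
    Subtype.ext (by rw [Subgroup.coe_pow, hexpG]; rfl)
  have hexpN : ∀ g : N, g ^ (p ^ a₀ * m₀) = 1 := fun g =>
    Subtype.ext (by rw [Subgroup.coe_pow, hexpG]; rfl)
  have hcov : ∀ g : H, ∃ (n : N) (c : H), g = ι n * c ∧ ∀ q ∈ Q, ι q * c = c * ι q := by
    intro g
    have hg : (g : G) ∈ ((N ⊔ Subgroup.centralizer
        (((Q : Subgroup N).map N.subtype : Subgroup G) : Set G) : Subgroup G) : Set G) := by
      rw [← hHdef]; exact g.2
    rw [Subgroup.normal_mul] at hg
    obtain ⟨n, hn, c, hc, hnc⟩ := Set.mem_mul.mp hg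
    have hcH : c ∈ H := by rw [hHdef]; exact Subgroup.mem_sup_right hc
    refine ⟨⟨n, hn⟩, ⟨c, hcH⟩, Subtype.ext ?_, fun q hq => Subtype.ext ?_⟩
    · rw [Subgroup.coe_mul, hιc]; exact hnc.symm
    · rw [Subgroup.coe_mul, Subgroup.coe_mul, hιc]
      exact Subgroup.mem_centralizer_iff.mp hc (q : G) (Subgroup.mem_map.mpr ⟨q, hq, rfl⟩)
  have hinvH : ∀ (g : H) (n n' : N), ι n' = g * ι n * g⁻¹ → θ.1 n' = θ.1 n := by
    intro g n n' h
    have h2 := congrArg Subtype.val h
    rw [Subgroup.coe_mul, Subgroup.coe_mul, Subgroup.coe_inv, hιc, hιc] at h2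
    exact hinv (g : G) n n' h2
  have hθfix : ∀ u : ℕ, ¬ p ∣ u → u ≡ 1 [MOD m₀] → ∀ n : N, θ.1 (n ^ u) = θ.1 n :=
    fun u hup hum n => pow_eq_of_rat hp (isCharacter_of_isIrrCharacter θ.2) hpr hrat' a₀ m₀ hm₀
      hexpN u hup hum n
  -- the power `k`
  have hcopm : Nat.Coprime p m₀ := (Nat.Prime.coprime_iff_not_dvd hp).mpr hm₀
  obtain ⟨k, hk2, hkm⟩ : ∃ k : ℕ, k ≡ 2 [MOD p] ∧ k ≡ 1 [MOD m₀] :=
    ⟨Nat.chineseRemainder hcopm 2 1, (Nat.chineseRemainder hcopm 2 1).2.1,
      (Nat.chineseRemainder hcopm 2 1).2.2⟩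
  have hkp : ¬ p ∣ k := by
    intro h
    have h2 : p ∣ 2 := (hk2.dvd_iff (dvd_refl p)).mp h
    exact hp2 (le_antisymm (Nat.le_of_dvd (by norm_num) h2) hp.two_le)
  have hk0 : 1 ≤ k := Nat.pos_of_ne_zero (fun h => hkp (h ▸ dvd_zero p))
  have hk1 : ¬ p ∣ k - 1 := by
    intro h
    have h1 : 1 ≡ k [MOD p] := (Nat.modEq_iff_dvd' hk0).mpr h
    have h2 : 1 ≡ 2 [MOD p] := h1.trans hk2
    have h3 : p ∣ 2 - 1 := (Nat.modEq_iff_dvd' (by norm_num)).mp h2
    exact hp.one_lt.ne' (Nat.dvd_one.mp (by simpa using h3))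
  -- the canonical extension to `H`
  obtain ⟨η, ⟨hηirr, hηres, hηgood⟩, hηfix, hηuniq⟩ := exists_canon ι hι hM a₀ m₀ hm₀ hcardH Q
    hcov θ hB hdeg hinvH hkp hkm hk1 (hθfix k hkp hkm)
  have hη1 : η 1 = θ.1 1 := by
    have := hηres 1
    rwa [map_one] at this
  have hη1loc : MemLocalRing M (η 1)⁻¹ := by rw [hη1]; exact deg_inv_loc hM θ hdeg
  -- `η` is `G`-invariant
  have hηinv : ∀ (g : G) (x x' : H), (x' : G) = g * (x : G) * g⁻¹ → η x' = η x := by
    intro g x x' hx
    let c : H ≃* H := MulAut.conjNormal g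
    have hc : ∀ y : H, ((c y : H) : G) = g * y * g⁻¹ := fun y => rfl
    have hx' : x' = c x := Subtype.ext (by rw [hc, hx])
    have hmem : IsIrrCharacter H (fun y => η (c y)) ∧
        (∀ n, (fun y => η (c y)) (ι n) = θ.1 n) ∧ Good ι.range M (fun y => η (c y)) := by
      refine ⟨isIrrCharacter_comp_equiv c hηirr, fun n => ?_, good_equiv ι.range hηgood c ?_⟩
      · have e : c (ι n) = ι ⟨g * n * g⁻¹, hN.conj_mem n n.2 g⟩ :=
          Subtype.ext (by rw [hc, hιc, hιc])
        show η (c (ι n)) = θ.1 n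
        rw [e, hηres]
        exact hinv g n _ rfl
      · intro x hx
        obtain ⟨n, rfl⟩ := MonoidHom.mem_range.mp hx
        have e : c.symm (ι n) = ι ⟨g⁻¹ * n * g, by simpa using hN.conj_mem n n.2 g⁻¹⟩ := by
          rw [MulEquiv.symm_apply_eq]
          apply Subtype.ext
          rw [hc, hιc, hιc]
          group
        rw [e]
        exact MonoidHom.mem_range.mpr ⟨_, rfl⟩
    have hfix' : ∀ y, (fun y => η (c y)) (y ^ k) = (fun y => η (c y)) y := by
      intro y
      show η (c (y ^ k)) = η (c y)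
      rw [map_pow, hηfix]
    have := hηuniq _ hmem hfix'
    rw [hx']
    exact congrFun this x
  -- `η` is fixed by the power maps
  have hηpow : ∀ u : ℕ, ¬ p ∣ u → u ≡ 1 [MOD m₀] → ∀ x : H, η (x ^ u) = η x := by
    intro u hup hum x
    have hu0 : 1 ≤ u := Nat.pos_of_ne_zero (fun h => hup (h ▸ dvd_zero p))
    have hucop : u.Coprime (Nat.card H) :=
      Nat.Coprime.coprime_dvd_right hcardH (cop_of hp hup hum)
    have hmem : IsIrrCharacter H (fun y => η (y ^ u)) ∧
        (∀ n, (fun y => η (y ^ u)) (ι n) = θ.1 n) ∧ Good ι.range M (fun y => η (y ^ u)) := by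
      refine ⟨Cfsg.Agent.H79.isIrrCharacter_comp_pow u hucop hηirr, fun n => ?_,
        good_pow hM ι.range a₀ m₀ hexpH hu0 hum hηirr hη1loc hηgood⟩
      show η ((ι n) ^ u) = θ.1 n
      rw [← map_pow, hηres, hθfix u hup hum]
    have hfix' : ∀ y, (fun y => η (y ^ u)) (y ^ k) = (fun y => η (y ^ u)) y := by
      intro y
      show η ((y ^ k) ^ u) = η (y ^ u)
      rw [← pow_mul, mul_comm, pow_mul, hηfix]
    exact congrFun (hηuniq _ hmem hfix') x
  -- the extension to `G`
  have hkG : k.Coprime (Nat.card G) := by rw [hcardG]; exact cop_of hp hkp hkm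
  have hrsub : H.subtype.range = H := Subgroup.range_subtype H
  obtain ⟨χ, hχirr, hχres, hχfix, hχuniq⟩ := pstep hp hk0 hk1 (J := G) hkG b H.subtype
    Subtype.val_injective (by rw [hrsub]; exact hHn) (by rw [hrsub]; exact hb) hηirr
    (fun g x x' h => hηinv g x x' h) hηfix
  have hχpow : ∀ u : ℕ, ¬ p ∣ u → u ≡ 1 [MOD m₀] → ∀ g : G, χ (g ^ u) = χ g := by
    intro u hup hum g
    have hucop : u.Coprime (Nat.card G) := by rw [hcardG]; exact cop_of hp hup hum
    have h1 := hχuniq (fun y => χ (y ^ u))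
      (Cfsg.Agent.H79.isIrrCharacter_comp_pow u hucop hχirr)
      (fun x => by
        show χ ((H.subtype x) ^ u) = η x
        rw [← map_pow, hχres, hηpow u hup hum])
      (fun y => by
        show χ ((y ^ k) ^ u) = χ (y ^ u)
        rw [← pow_mul, mul_comm, pow_mul, hχfix])
    exact congrFun h1 g
  have hχN : ∀ n : N, χ n = θ.1 n := by
    intro n
    have h1 := hχres (ι n)
    rw [hηres] at h1
    have h2 : (H.subtype (ι n) : G) = n := hιc n
    rw [h2] at h1
    exact h1
  have hχ1 : χ 1 = θ.1 1 := by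
    have := hχN 1
    simpa using this
  refine ⟨⟨χ, hχirr⟩, ?_, ⟨m₀, hm₀, fun g => rat_of_fixed hp
    (isCharacter_of_isIrrCharacter hχirr) a₀ m₀ hm₀ hexpG hχpow g⟩, hχN⟩
  -- the principal block
  intro x
  rw [Cfsg.Agent.H80.centralChar_const_one]
  show MemLocalIdeal M (((Subgroup.centralizer ({x} : Set G)).index : ℂ)
    - ((Subgroup.centralizer ({x} : Set G)).index : ℂ) * χ x / χ 1)
  have hχ1loc : MemLocalRing M (χ 1)⁻¹ := by rw [hχ1]; exact deg_inv_loc hM θ hdeg
  have hχ1ne : χ 1 ≠ 0 := irr_one_ne_zero ⟨χ, hχirr⟩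
  have hχloc : ∀ g, MemLocalRing M (χ g) := fun g =>
    memLocalRing_algInt hMp ⟨χ g, Cfsg.Agent.H81.irr_isIntegral ⟨χ, hχirr⟩ g⟩
  have e : ((Subgroup.centralizer ({x} : Set G)).index : ℂ)
        - ((Subgroup.centralizer ({x} : Set G)).index : ℂ) * χ x / χ 1
      = ((Subgroup.centralizer ({x} : Set G)).index : ℂ) * ((χ 1 - χ x) * (χ 1)⁻¹) := by
    field_simp
  rw [e]
  by_cases hpx : p ∣ (Subgroup.centralizer ({x} : Set G)).index
  · exact memLocalIdeal_mul_right hMp ((memLocalIdeal_natCast_iff hM _).mpr hpx)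
      (memLocalRing_mul hMp (memLocalRing_sub hMp (hχloc 1) (hχloc x)) hχ1loc)
  · apply memLocalIdeal_mul_left hMp (memLocalRing_natCast hMp _)
    refine memLocalIdeal_mul_right hMp ?_ hχ1loc
    obtain ⟨a, bb, c, hab, hac, hbb⟩ := exists_pPart_decomp hp x
    have h1 : MemLocalIdeal M (χ (x ^ a * x ^ bb) - χ (x ^ bb)) :=
      irr_mul_sub_of_commute hM ⟨χ, hχirr⟩ (x ^ a) (x ^ bb) ((Commute.refl x).pow_pow a bb) hac
    rw [hab] at h1
    have hyH : x ^ bb ∈ H := by
      have h2 : (x ^ bb) ^ H.index ∈ H := Subgroup.pow_index_mem H (x ^ bb)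
      rw [hb] at h2
      have hco : (p ^ b).Coprime (orderOf (x ^ bb)) :=
        Nat.Coprime.pow_left b ((Nat.Prime.coprime_iff_not_dvd hp).mpr hbb)
      obtain ⟨s, hs⟩ := exists_pow_eq_self_of_coprime hco
      rw [← hs]
      exact H.pow_mem h2 s
    obtain ⟨y, hy⟩ : ∃ y : H, (y : G) = x ^ bb := ⟨⟨x ^ bb, hyH⟩, rfl⟩
    have hidxy : ¬ p ∣ (Subgroup.centralizer ({y} : Set H)).index := by
      intro h
      apply hpx
      have h3 : (Subgroup.centralizer ({(y : G)} : Set G)).index ∣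
          (Subgroup.centralizer ({x} : Set G)).index := by
        apply Subgroup.index_dvd_of_le
        intro z hz
        rw [Subgroup.mem_centralizer_singleton_iff] at hz ⊢
        rw [hy]
        exact (Commute.pow_right (show Commute z x from hz) bb).eq
      exact (h.trans (index_centralizer_dvd H y)).trans h3
    have h4 := mem_principal_of_good ι.range (MonoidHom.id H) (fun n _ => ⟨n, rfl⟩) hMp η hηgood
      η (irr_isClassFunction ⟨η, hηirr⟩) (fun _ => rfl) y
    rw [Cfsg.Agent.H80.centralChar_const_one] at h4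
    have h4' : MemLocalIdeal M (((Subgroup.centralizer ({y} : Set H)).index : ℂ)
        - ((Subgroup.centralizer ({y} : Set H)).index : ℂ) * η y / η 1) := h4
    have hη1ne : η 1 ≠ 0 := irr_one_ne_zero ⟨η, hηirr⟩
    have e2 : ((Subgroup.centralizer ({y} : Set H)).index : ℂ)
          - ((Subgroup.centralizer ({y} : Set H)).index : ℂ) * η y / η 1
        = ((Subgroup.centralizer ({y} : Set H)).index : ℂ) * ((η 1 - η y) * (η 1)⁻¹) := by
      field_simp
    rw [e2] at h4'
    have hηloc : ∀ g, MemLocalRing M (η g) := fun g =>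
      memLocalRing_algInt hMp ⟨η g, Cfsg.Agent.H81.irr_isIntegral ⟨η, hηirr⟩ g⟩
    have h5 : MemLocalIdeal M ((η 1 - η y) * (η 1)⁻¹) :=
      (memLocalIdeal_or_of_mul hMp (memLocalRing_natCast hMp _)
        (memLocalRing_mul hMp (memLocalRing_sub hMp (hηloc 1) (hηloc y)) hη1loc) h4').resolve_left
        (fun h => hidxy ((memLocalIdeal_natCast_iff hM _).mp h))
    have h6 : MemLocalIdeal M (η 1 - η y) := by
      have := memLocalIdeal_mul_right hMp h5 (hηloc 1)
      rwa [mul_assoc, inv_mul_cancel₀ hη1ne, mul_one] at this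
    have hχy : χ (x ^ bb) = η y := by
      rw [← hy]; exact hχres y
    have hχη1 : χ 1 = η 1 := by rw [hχ1, hη1]
    have e3 : χ 1 - χ x = (η 1 - η y) - (χ x - χ (x ^ bb)) := by rw [hχy, hχη1]; ring
    rw [e3]
    exact memLocalIdeal_sub hMp h6 h1

end Cfsg.Agent.H92.PRat
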