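import Mathlib
import Cfsg.Prelude.Def_TwoFusion

/-!
# Sylow 2-subgroup `Q × R` with `Q` generalized quaternion (helper92)

If a Sylow 2-subgroup `S` of a finite group is an internal direct product `Q × R`, where `Q` has a
unique involution `z` which is a commutator in `Q`, and all involutions of `R` are central in `R`,
then all involutions of `S` are central in `S`, and the product of the `N_G(S)`-conjugates of `z`
is an involution of `Z(S)` fixed by `N_G(S)`.
-/

set_option autoImplicit false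

namespace Cfsg.Agent.H92.QuatDirect

open Subgroup

variable {G : Type*} [Group G]

/-- the subgroup of products `q * r` for elementwise commuting subgroups -/
def prodSub (Q R : Subgroup G) (comm : ∀ a ∈ Q, ∀ b ∈ R, a * b = b * a) : Subgroup G where
  carrier := {x | ∃ q ∈ Q, ∃ r ∈ R, x = q * r}
  mul_mem' := by
    rintro x y ⟨q, hq, r, hr, rfl⟩ ⟨q', hq', r', hr', rfl⟩
    refine ⟨q * q', Q.mul_mem hq hq', r * r', R.mul_mem hr hr', ?_⟩
    have := comm q' hq' r hr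
    calc q * r * (q' * r') = q * (r * q') * r' := by group
      _ = q * (q' * r) * r' := by rw [this]
      _ = q * q' * (r * r') := by group
  one_mem' := ⟨1, Q.one_mem, 1, R.one_mem, by simp⟩
  inv_mem' := by
    rintro x ⟨q, hq, r, hr, rfl⟩
    refine ⟨q⁻¹, Q.inv_mem hq, r⁻¹, R.inv_mem hr, ?_⟩
    have := comm q⁻¹ (Q.inv_mem hq) r⁻¹ (R.inv_mem hr)
    rw [this, mul_inv_rev]

theorem exists_decomp {Q R S : Subgroup G} (h : Cfsg.IsInternalDirectProduct Q R S) {s : G}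
    (hs : s ∈ S) : ∃ q ∈ Q, ∃ r ∈ R, s = q * r := by
  obtain ⟨hQ, hR, comm, disj, sup⟩ := h
  have key : Q ⊔ R ≤ prodSub Q R comm := sup_le
    (fun q hq => ⟨q, hq, 1, R.one_mem, by simp⟩) (fun r hr => ⟨1, Q.one_mem, r, hr, by simp⟩)
  rw [sup] at key
  exact key hs

theorem decomp_unique {Q R S : Subgroup G} (h : Cfsg.IsInternalDirectProduct Q R S)
    {q q' r r' : G} (hq : q ∈ Q) (hq' : q' ∈ Q) (hr : r ∈ R) (hr' : r' ∈ R)
    (e : q * r = q' * r') : q = q' ∧ r = r' := by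
  obtain ⟨hQ, hR, comm, disj, sup⟩ := h
  have e1 : q'⁻¹ * q = r' * r⁻¹ := by
    rw [inv_mul_eq_iff_eq_mul, ← mul_assoc, eq_mul_inv_iff_mul_eq]; exact e
  have hmem : q'⁻¹ * q ∈ Q ⊓ R :=
    ⟨Q.mul_mem (Q.inv_mem hq') hq, e1 ▸ R.mul_mem hr' (R.inv_mem hr)⟩
  rw [disj, Subgroup.mem_bot, inv_mul_eq_one] at hmem
  subst hmem
  exact ⟨rfl, mul_left_cancel e⟩

open Classical in
/-- the `Q`-component of an element of `Q × R` (junk value `1` outside) -/
noncomputable def pQ (Q R : Subgroup G) (s : G) : G :=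
  if h : ∃ q ∈ Q, ∃ r ∈ R, s = q * r then h.choose else 1

/-- the `R`-component -/
noncomputable def pR (Q R : Subgroup G) (s : G) : G := (pQ Q R s)⁻¹ * s

theorem pQ_mul_pR (Q R : Subgroup G) (s : G) : pQ Q R s * pR Q R s = s := by
  simp [pR]

section DP

variable {Q R S : Subgroup G} (h : Cfsg.IsInternalDirectProduct Q R S)
include h

theorem pQ_mem {s : G} (hs : s ∈ S) : pQ Q R s ∈ Q := by
  have hex := exists_decomp h hs
  simp only [pQ, dif_pos hex]
  exact hex.choose_spec.1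

theorem pR_mem {s : G} (hs : s ∈ S) : pR Q R s ∈ R := by
  have hex := exists_decomp h hs
  obtain ⟨r, hr, e⟩ := hex.choose_spec.2
  have e1 : pQ Q R s = hex.choose := by simp only [pQ, dif_pos hex]
  have e2 : hex.choose⁻¹ * s = r := by rw [inv_mul_eq_iff_eq_mul]; exact e
  rw [pR, e1, e2]; exact hr

theorem pQ_eq {q r : G} (hq : q ∈ Q) (hr : r ∈ R) : pQ Q R (q * r) = q := by
  have hs : q * r ∈ S := S.mul_mem (h.1 hq) (h.2.1 hr)
  exact (decomp_unique h (pQ_mem h hs) hq (pR_mem h hs) hr (pQ_mul_pR Q R _)).1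

theorem pR_eq {q r : G} (hq : q ∈ Q) (hr : r ∈ R) : pR Q R (q * r) = r := by
  have hs : q * r ∈ S := S.mul_mem (h.1 hq) (h.2.1 hr)
  exact (decomp_unique h (pQ_mem h hs) hq (pR_mem h hs) hr (pQ_mul_pR Q R _)).2

theorem mul_decomp {s t : G} (hs : s ∈ S) (ht : t ∈ S) :
    s * t = (pQ Q R s * pQ Q R t) * (pR Q R s * pR Q R t) := by
  have c := h.2.2.1 (pQ Q R t) (pQ_mem h ht) (pR Q R s) (pR_mem h hs)
  calc s * t = (pQ Q R s * pR Q R s) * (pQ Q R t * pR Q R t) := by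
        rw [pQ_mul_pR, pQ_mul_pR]
    _ = pQ Q R s * (pR Q R s * pQ Q R t) * pR Q R t := by group
    _ = pQ Q R s * (pQ Q R t * pR Q R s) * pR Q R t := by rw [c]
    _ = _ := by group

theorem pQ_mul {s t : G} (hs : s ∈ S) (ht : t ∈ S) :
    pQ Q R (s * t) = pQ Q R s * pQ Q R t := by
  have e := mul_decomp h hs ht
  have := pQ_eq h (Q.mul_mem (pQ_mem h hs) (pQ_mem h ht)) (R.mul_mem (pR_mem h hs) (pR_mem h ht))
  rw [← e] at this
  exact this

theorem pR_mul {s t : G} (hs : s ∈ S) (ht : t ∈ S) :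
    pR Q R (s * t) = pR Q R s * pR Q R t := by
  have e := mul_decomp h hs ht
  have := pR_eq h (Q.mul_mem (pQ_mem h hs) (pQ_mem h ht)) (R.mul_mem (pR_mem h hs) (pR_mem h ht))
  rw [← e] at this
  exact this

theorem pQ_one : pQ Q R 1 = 1 := by
  have := pQ_eq h Q.one_mem R.one_mem
  simpa using this

theorem pR_one : pR Q R 1 = 1 := by
  have := pR_eq h Q.one_mem R.one_mem
  simpa using this

theorem pQ_inv {s : G} (hs : s ∈ S) : pQ Q R s⁻¹ = (pQ Q R s)⁻¹ := by
  have := pQ_mul h hs (S.inv_mem hs)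
  rw [mul_inv_cancel, pQ_one h] at this
  exact eq_inv_of_mul_eq_one_right this.symm

theorem pR_inv {s : G} (hs : s ∈ S) : pR Q R s⁻¹ = (pR Q R s)⁻¹ := by
  have := pR_mul h hs (S.inv_mem hs)
  rw [mul_inv_cancel, pR_one h] at this
  exact eq_inv_of_mul_eq_one_right this.symm

theorem pQ_of_mem_R {r : G} (hr : r ∈ R) : pQ Q R r = 1 := by
  have := pQ_eq h Q.one_mem hr
  simpa using this

theorem pQ_of_mem_Q {q : G} (hq : q ∈ Q) : pQ Q R q = q := by
  have := pQ_eq h hq R.one_mem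
  simpa using this

theorem mem_R_of_pQ_eq_one {s : G} (hs : s ∈ S) (h1 : pQ Q R s = 1) : s ∈ R := by
  have := pQ_mul_pR Q R s
  rw [h1, one_mul] at this
  rw [← this]; exact pR_mem h hs

/-- commutator formula for the `Q`-component -/
theorem pQ_comm {a b : G} (ha : a ∈ S) (hb : b ∈ S) :
    pQ Q R (a * b * a⁻¹ * b⁻¹) = pQ Q R a * pQ Q R b * (pQ Q R a)⁻¹ * (pQ Q R b)⁻¹ := by
  rw [pQ_mul h (S.mul_mem (S.mul_mem ha hb) (S.inv_mem ha)) (S.inv_mem hb),
    pQ_mul h (S.mul_mem ha hb) (S.inv_mem ha), pQ_mul h ha hb, pQ_inv h ha, pQ_inv h hb]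

theorem pR_comm {a b : G} (ha : a ∈ S) (hb : b ∈ S) :
    pR Q R (a * b * a⁻¹ * b⁻¹) = pR Q R a * pR Q R b * (pR Q R a)⁻¹ * (pR Q R b)⁻¹ := by
  rw [pR_mul h (S.mul_mem (S.mul_mem ha hb) (S.inv_mem ha)) (S.inv_mem hb),
    pR_mul h (S.mul_mem ha hb) (S.inv_mem ha), pR_mul h ha hb, pR_inv h ha, pR_inv h hb]

end DP

/-- the hypotheses -/
structure Ctx (S Q R : Subgroup G) (z u v : G) : Prop where
  dp : Cfsg.IsInternalDirectProduct Q R S
  hz : z ∈ Q
  hu : u ∈ Q
  hv : v ∈ Q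
  hz2 : orderOf z = 2
  hcomm : z = u * v * u⁻¹ * v⁻¹
  huniq : ∀ t ∈ Q, orderOf t = 2 → t = z
  hR : ∀ r ∈ R, orderOf r = 2 → ∀ s ∈ R, r * s = s * r
  p2 : ∀ s ∈ S, ∃ k : ℕ, orderOf s = 2 ^ k

/-- `g` normalizes `S` and the `Q`-component of `g z g⁻¹` is `z` -/
def Good (S Q R : Subgroup G) (z : G) (g : G) : Prop :=
  g ∈ normalizer (S : Set G) ∧ pQ Q R (g * z * g⁻¹) = z

theorem sq_cases (x : G) (hx : x * x = 1) : x = 1 ∨ orderOf x = 2 := by
  by_cases h1 : x = 1
  · exact Or.inl h1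
  · exact Or.inr (orderOf_eq_prime (by rw [pow_two]; exact hx) h1)

theorem conj_mem_of_normalizer {S : Subgroup G} {g s : G} (hg : g ∈ normalizer (S : Set G))
    (hs : s ∈ S) : g * s * g⁻¹ ∈ S :=
  (Subgroup.mem_normalizer_iff.mp hg s).mp hs

namespace Ctx

variable {S Q R : Subgroup G} {z u v : G} (C : Ctx S Q R z u v)
include C

theorem z_ne_one : z ≠ 1 := fun h => by
  have := C.hz2; rw [h, orderOf_one] at this; omega

theorem zz : z * z = 1 := by
  have := pow_orderOf_eq_one z; rw [C.hz2, pow_two] at this; exact this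

theorem z_comm {q : G} (hq : q ∈ Q) : q * z = z * q := by
  have h1 : q * z * q⁻¹ ∈ Q := Q.mul_mem (Q.mul_mem hq C.hz) (Q.inv_mem hq)
  have h2 : orderOf (q * z * q⁻¹) = 2 := by
    refine orderOf_eq_prime ?_ ?_
    · rw [conj_pow, pow_two, C.zz]; group
    · rw [Ne, conj_eq_one_iff]; exact C.z_ne_one
  have h3 := C.huniq _ h1 h2
  exact mul_inv_eq_iff_eq_mul.mp h3

/-- involutions of `S` are central, with `Q`-component `1` or `z` -/
theorem invol {t : G} (ht : t ∈ S) (ht2 : t * t = 1) :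
    (pQ Q R t = 1 ∨ pQ Q R t = z) ∧ ∀ s ∈ S, t * s = s * t := by
  have hq := pQ_mem C.dp ht
  have hr := pR_mem C.dp ht
  have e := pQ_mul_pR Q R t
  have c := C.dp.2.2.1 (pQ Q R t) hq (pR Q R t) hr
  have e2 : (pQ Q R t * pQ Q R t) * (pR Q R t * pR Q R t) = 1 * 1 := by
    have := mul_decomp C.dp ht ht
    rw [ht2] at this
    rw [← this, one_mul]
  obtain ⟨hqq, hrr⟩ := decomp_unique C.dp (Q.mul_mem hq hq) Q.one_mem (R.mul_mem hr hr) R.one_mem e2
  have hq1 : pQ Q R t = 1 ∨ pQ Q R t = z := by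
    rcases sq_cases _ hqq with h1 | h1
    · exact Or.inl h1
    · exact Or.inr (C.huniq _ hq h1)
  refine ⟨hq1, ?_⟩
  intro s hs
  have hq' := pQ_mem C.dp hs
  have hr' := pR_mem C.dp hs
  have es := pQ_mul_pR Q R s
  -- the Q-part of t commutes with s
  have hqs : pQ Q R t * s = s * pQ Q R t := by
    have a1 : pQ Q R t * pQ Q R s = pQ Q R s * pQ Q R t := by
      rcases hq1 with h1 | h1
      · rw [h1, one_mul, mul_one]
      · rw [h1]; exact (C.z_comm hq').symm
    have a2 := C.dp.2.2.1 (pQ Q R t) hq (pR Q R s) hr'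
    calc pQ Q R t * s = pQ Q R t * (pQ Q R s * pR Q R s) := by rw [es]
      _ = (pQ Q R t * pQ Q R s) * pR Q R s := by group
      _ = (pQ Q R s * pQ Q R t) * pR Q R s := by rw [a1]
      _ = pQ Q R s * (pQ Q R t * pR Q R s) := by group
      _ = pQ Q R s * (pR Q R s * pQ Q R t) := by rw [a2]
      _ = (pQ Q R s * pR Q R s) * pQ Q R t := by group
      _ = s * pQ Q R t := by rw [es]
  have hrs : pR Q R t * s = s * pR Q R t := by
    have a1 : pR Q R t * pR Q R s = pR Q R s * pR Q R t := by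
      rcases sq_cases _ hrr with h1 | h1
      · rw [h1, one_mul, mul_one]
      · exact C.hR _ hr h1 _ hr'
    have a2 := C.dp.2.2.1 (pQ Q R s) hq' (pR Q R t) hr
    calc pR Q R t * s = pR Q R t * (pQ Q R s * pR Q R s) := by rw [es]
      _ = (pR Q R t * pQ Q R s) * pR Q R s := by group
      _ = (pQ Q R s * pR Q R t) * pR Q R s := by rw [a2]
      _ = pQ Q R s * (pR Q R t * pR Q R s) := by group
      _ = pQ Q R s * (pR Q R s * pR Q R t) := by rw [a1]
      _ = (pQ Q R s * pR Q R s) * pR Q R t := by group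
      _ = s * pR Q R t := by rw [es]
  calc t * s = pQ Q R t * (pR Q R t * s) := by rw [← mul_assoc, e]
    _ = pQ Q R t * (s * pR Q R t) := by rw [hrs]
    _ = (pQ Q R t * s) * pR Q R t := by group
    _ = (s * pQ Q R t) * pR Q R t := by rw [hqs]
    _ = s * (pQ Q R t * pR Q R t) := by group
    _ = s * t := by rw [e]

/-- every nontrivial element of `Q` has a power equal to `z` -/
theorem pow_eq_z {w : G} (hw : w ∈ Q) (hne : w ≠ 1) : ∃ k : ℕ, w ^ k = z := by
  obtain ⟨j, hj⟩ := C.p2 w (C.dp.1 hw)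
  have hj0 : j ≠ 0 := by
    rintro rfl
    rw [pow_zero, orderOf_eq_one_iff] at hj
    exact hne hj
  obtain ⟨i, rfl⟩ := Nat.exists_eq_succ_of_ne_zero hj0
  refine ⟨2 ^ i, C.huniq _ (Q.pow_mem hw _) (orderOf_eq_prime ?_ ?_)⟩
  · rw [← pow_mul, ← pow_succ, ← hj, pow_orderOf_eq_one]
  · refine pow_ne_one_of_lt_orderOf (by positivity) ?_
    rw [hj]; exact Nat.pow_lt_pow_right (by norm_num) (Nat.lt_succ_self i)

theorem theta_inj {g a : G} (hg : Good S Q R z g) (ha : a ∈ Q)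
    (h1 : pQ Q R (g * a * g⁻¹) = 1) : a = 1 := by
  by_contra hne
  obtain ⟨k, hk⟩ := C.pow_eq_z ha hne
  have hS : g * a * g⁻¹ ∈ S := conj_mem_of_normalizer hg.1 (C.dp.1 ha)
  have hR : g * a * g⁻¹ ∈ R := mem_R_of_pQ_eq_one C.dp hS h1
  have hR' : g * z * g⁻¹ ∈ R := by
    have := R.pow_mem hR k
    rwa [conj_pow, hk] at this
  have := pQ_of_mem_R C.dp hR'
  rw [hg.2] at this
  exact C.z_ne_one this

theorem theta_surj [Finite G] {g : G} (hg : Good S Q R z g) {q : G} (hq : q ∈ Q) :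
    ∃ a ∈ Q, pQ Q R (g * a * g⁻¹) = q := by
  let f : ↥Q → ↥Q := fun a =>
    ⟨pQ Q R (g * a * g⁻¹), pQ_mem C.dp (conj_mem_of_normalizer hg.1 (C.dp.1 a.2))⟩
  have hinj : Function.Injective f := by
    intro a b hab
    have hab' : pQ Q R (g * a * g⁻¹) = pQ Q R (g * b * g⁻¹) := congrArg Subtype.val hab
    have ha := conj_mem_of_normalizer hg.1 (C.dp.1 a.2)
    have hb := conj_mem_of_normalizer hg.1 (C.dp.1 b.2)
    have e : g * ((a : G) * (b : G)⁻¹) * g⁻¹ = (g * a * g⁻¹) * (g * b * g⁻¹)⁻¹ := by group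
    have h1 : pQ Q R (g * ((a : G) * (b : G)⁻¹) * g⁻¹) = 1 := by
      rw [e, pQ_mul C.dp ha (S.inv_mem hb), pQ_inv C.dp hb, hab', mul_inv_cancel]
    have := C.theta_inj hg (Q.mul_mem a.2 (Q.inv_mem b.2)) h1
    exact Subtype.ext (mul_inv_eq_one.mp this)
  obtain ⟨a, ha⟩ := (Finite.injective_iff_surjective.mp hinj) ⟨q, hq⟩
  exact ⟨a, a.2, congrArg Subtype.val ha⟩

theorem central [Finite G] {g x q : G} (hg : Good S Q R z g) (hx : x ∈ R) (hq : q ∈ Q) :
    pQ Q R (g * x * g⁻¹) * q = q * pQ Q R (g * x * g⁻¹) := by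
  obtain ⟨a, ha, rfl⟩ := C.theta_surj hg hq
  have c := C.dp.2.2.1 a ha x hx
  have hX := conj_mem_of_normalizer hg.1 (C.dp.2.1 hx)
  have hA := conj_mem_of_normalizer hg.1 (C.dp.1 ha)
  have e : (g * x * g⁻¹) * (g * a * g⁻¹) = (g * a * g⁻¹) * (g * x * g⁻¹) := by
    calc (g * x * g⁻¹) * (g * a * g⁻¹) = g * (x * a) * g⁻¹ := by group
      _ = g * (a * x) * g⁻¹ := by rw [c]
      _ = _ := by group
  rw [← pQ_mul C.dp hX hA, ← pQ_mul C.dp hA hX, e]

theorem comm_R [Finite G] {g x y : G} (hg : Good S Q R z g) (hx : x ∈ R) (hy : y ∈ R) :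
    pQ Q R (g * (x * y * x⁻¹ * y⁻¹) * g⁻¹) = 1 := by
  have hX := conj_mem_of_normalizer hg.1 (C.dp.2.1 hx)
  have hY := conj_mem_of_normalizer hg.1 (C.dp.2.1 hy)
  have e : g * (x * y * x⁻¹ * y⁻¹) * g⁻¹
      = (g * x * g⁻¹) * (g * y * g⁻¹) * (g * x * g⁻¹)⁻¹ * (g * y * g⁻¹)⁻¹ := by group
  rw [e, pQ_comm C.dp hX hY, C.central hg hx (pQ_mem C.dp hY)]
  group

theorem good_one : Good S Q R z 1 := by
  refine ⟨one_mem _, ?_⟩
  rw [one_mul, inv_one, mul_one]
  exact pQ_of_mem_Q C.dp C.hz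

theorem good_mul [Finite G] {g h : G} (hg : Good S Q R z g) (hh : Good S Q R z h) :
    Good S Q R z (g * h) := by
  refine ⟨mul_mem hg.1 hh.1, ?_⟩
  have hzS : z ∈ S := C.dp.1 C.hz
  have ht : h * z * h⁻¹ ∈ S := conj_mem_of_normalizer hh.1 hzS
  have hU : h * u * h⁻¹ ∈ S := conj_mem_of_normalizer hh.1 (C.dp.1 C.hu)
  have hV : h * v * h⁻¹ ∈ S := conj_mem_of_normalizer hh.1 (C.dp.1 C.hv)
  -- the R-component of h z h⁻¹ is a commutator in R
  have hr : pR Q R (h * z * h⁻¹) = pR Q R (h * u * h⁻¹) * pR Q R (h * v * h⁻¹)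
      * (pR Q R (h * u * h⁻¹))⁻¹ * (pR Q R (h * v * h⁻¹))⁻¹ := by
    have e : h * z * h⁻¹ = (h * u * h⁻¹) * (h * v * h⁻¹) * (h * u * h⁻¹)⁻¹ * (h * v * h⁻¹)⁻¹ := by
      rw [C.hcomm]; group
    rw [e, pR_comm C.dp hU hV]
  have hrR : pR Q R (h * z * h⁻¹) ∈ R := pR_mem C.dp ht
  have h1 : pQ Q R (g * pR Q R (h * z * h⁻¹) * g⁻¹) = 1 := by
    rw [hr]; exact C.comm_R hg (pR_mem C.dp hU) (pR_mem C.dp hV)
  have e : g * h * z * (g * h)⁻¹ = (g * z * g⁻¹) * (g * pR Q R (h * z * h⁻¹) * g⁻¹) := by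
    have e0 : h * z * h⁻¹ = z * pR Q R (h * z * h⁻¹) := by
      have := pQ_mul_pR Q R (h * z * h⁻¹)
      rw [hh.2] at this
      exact this.symm
    calc g * h * z * (g * h)⁻¹ = g * (h * z * h⁻¹) * g⁻¹ := by group
      _ = g * (z * pR Q R (h * z * h⁻¹)) * g⁻¹ := by rw [← e0]
      _ = _ := by group
  rw [e, pQ_mul C.dp (conj_mem_of_normalizer hg.1 hzS)
    (conj_mem_of_normalizer hg.1 (C.dp.2.1 hrR)), hg.2, h1, mul_one]

theorem good_pow [Finite G] {g : G} (hg : Good S Q R z g) (k : ℕ) : Good S Q R z (g ^ k) := by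
  induction k with
  | zero => rw [pow_zero]; exact C.good_one
  | succ k ih => rw [pow_succ]; exact C.good_mul ih hg

/-- the subgroup of `N_G(S)` of elements `g` with `Q`-component of `g z g⁻¹` equal to `z` -/
def N1 [Finite G] : Subgroup G where
  carrier := {g | Good S Q R z g}
  mul_mem' := fun hg hh => C.good_mul hg hh
  one_mem' := C.good_one
  inv_mem' := by
    intro g hg
    have e : g⁻¹ = g ^ (orderOf g - 1) := by
      apply inv_eq_of_mul_eq_one_right
      rw [← pow_succ', Nat.sub_add_cancel (orderOf_pos g), pow_orderOf_eq_one]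
    show Good S Q R z g⁻¹
    rw [e]; exact C.good_pow hg _

theorem le_N1 [Finite G] : S ≤ C.N1 := by
  intro s hs
  refine ⟨Subgroup.le_normalizer hs, ?_⟩
  have hzS : z ∈ S := C.dp.1 C.hz
  have c := (C.invol hzS C.zz).2 s hs
  have e : s * z * s⁻¹ = z := by rw [← c]; group
  rw [e]; exact pQ_of_mem_Q C.dp C.hz

/-- the elementary abelian group of involutions of `S` -/
def E : Subgroup G where
  carrier := {t | t ∈ S ∧ t * t = 1}
  mul_mem' := by
    rintro a b ⟨ha, ha2⟩ ⟨hb, hb2⟩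
    refine ⟨S.mul_mem ha hb, ?_⟩
    have c := (C.invol hb hb2).2 a ha
    calc a * b * (a * b) = a * (b * a) * b := by group
      _ = a * (a * b) * b := by rw [c]
      _ = (a * a) * (b * b) := by group
      _ = 1 := by rw [ha2, hb2, one_mul]
  one_mem' := ⟨S.one_mem, one_mul 1⟩
  inv_mem' := by
    rintro a ⟨ha, ha2⟩
    refine ⟨S.inv_mem ha, ?_⟩
    rw [← mul_inv_rev, ha2, inv_one]

/-- `E` is commutative -/
@[reducible] noncomputable def commE : CommGroup ↥C.E :=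
  { (inferInstance : Group ↥C.E) with
    mul_comm := fun a b => Subtype.ext ((C.invol a.2.1 a.2.2).2 b b.2.1) }

open Classical in
/-- the sign character on `E` detecting the `Q`-component -/
noncomputable def lam : ↥C.E →* ℤˣ where
  toFun t := if pQ Q R (t : G) = z then -1 else 1
  map_one' := by
    have : pQ Q R (1 : G) ≠ z := by
      rw [pQ_one C.dp]; exact C.z_ne_one.symm
    simp [this]
  map_mul' := fun a b => by
    have ha := (C.invol a.2.1 a.2.2).1
    have hb := (C.invol b.2.1 b.2.2).1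
    have hm : pQ Q R ((a * b : ↥C.E) : G) = pQ Q R (a : G) * pQ Q R (b : G) := by
      rw [Subgroup.coe_mul]; exact pQ_mul C.dp a.2.1 b.2.1
    simp only [hm]
    rcases ha with ha | ha <;> rcases hb with hb | hb <;>
      simp [ha, hb, C.zz, C.z_ne_one.symm]

/-- conjugation by an element of `N_G(S)` on `E` -/
def conjE {g : G} (hg : g ∈ normalizer (S : Set G)) : ↥C.E →* ↥C.E where
  toFun t := ⟨g * t * g⁻¹, conj_mem_of_normalizer hg t.2.1, by
    have := t.2.2
    calc g * ↑t * g⁻¹ * (g * ↑t * g⁻¹) = g * (↑t * ↑t) * g⁻¹ := by group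
      _ = 1 := by rw [this]; group⟩
  map_one' := by ext; simp
  map_mul' a b := by ext; simp

theorem conjE_coe {g : G} (hg : g ∈ normalizer (S : Set G)) (t : ↥C.E) :
    ((C.conjE hg t : ↥C.E) : G) = g * t * g⁻¹ := rfl


/-- the number of `N_G(S)`-conjugates of `z` with `Q`-component `z` is odd -/
theorem odd_orbit [Finite G] (hodd : ¬ 2 ∣ S.index) :
    Odd (Set.ncard {t : G | ∃ g ∈ normalizer (S : Set G), t = g * z * g⁻¹ ∧ pQ Q R t = z}) := by
  classical
  let _ : MulAction ↥C.N1 G := MulAction.compHom G ((MulAut.conj (G := G)).comp C.N1.subtype)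
  have hsmul : ∀ (g : ↥C.N1) (x : G), g • x = (g : G) * x * (g : G)⁻¹ := fun g x => rfl
  have h1 : (MulAction.stabilizer ↥C.N1 z).index = (MulAction.orbit ↥C.N1 z).ncard :=
    MulAction.index_stabilizer _ z
  have h2 : S.subgroupOf C.N1 ≤ MulAction.stabilizer ↥C.N1 z := by
    intro g hg
    rw [Subgroup.mem_subgroupOf] at hg
    rw [MulAction.mem_stabilizer_iff, hsmul]
    have c := (C.invol (C.dp.1 C.hz) C.zz).2 (g : G) hg
    rw [← c]; group
  have h3 : (MulAction.stabilizer ↥C.N1 z).index ∣ S.index := by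
    refine (Subgroup.index_dvd_of_le h2).trans ?_
    have := Subgroup.relIndex_mul_index C.le_N1
    exact Dvd.intro _ this
  have hset : {t : G | ∃ g ∈ normalizer (S : Set G), t = g * z * g⁻¹ ∧ pQ Q R t = z}
      = MulAction.orbit ↥C.N1 z := by
    ext t
    constructor
    · rintro ⟨g, hg, rfl, hq⟩
      exact ⟨⟨g, hg, hq⟩, rfl⟩
    · rintro ⟨g, rfl⟩
      exact ⟨g, g.2.1, rfl, g.2.2⟩
  rw [hset, ← h1]
  rw [Nat.odd_iff, ← Nat.two_dvd_ne_zero]
  exact fun hd => hodd (hd.trans h3)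

/-- there is an involution of `Z(S)` fixed by `N_G(S)` -/
theorem exists_fixed [Finite G] (hodd : ¬ 2 ∣ S.index) :
    ∃ w ∈ S, orderOf w = 2 ∧ (∀ s ∈ S, w * s = s * w) ∧
      ∀ g ∈ normalizer (S : Set G), g * w * g⁻¹ = w := by
  classical
  let _ := C.commE
  have : Fintype ↥(normalizer (S : Set G)) := Fintype.ofFinite _
  let zE : ↥C.E := ⟨z, C.dp.1 C.hz, C.zz⟩
  let O : Finset ↥C.E :=
    Finset.univ.image (fun g : ↥(normalizer (S : Set G)) => C.conjE g.2 zE)
  let w : ↥C.E := ∏ t ∈ O, t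
  have hinv : ∀ (g : G) (hg : g ∈ normalizer (S : Set G)), C.conjE hg w = w := by
    intro g hg
    have himg : O.image (C.conjE hg) = O := by
      ext t
      simp only [O, Finset.mem_image, Finset.mem_univ, true_and]
      constructor
      · rintro ⟨_, ⟨n, rfl⟩, rfl⟩
        refine ⟨⟨g * n, mul_mem hg n.2⟩, ?_⟩
        apply Subtype.ext
        simp only [conjE_coe]
        group
      · rintro ⟨n, rfl⟩
        refine ⟨_, ⟨⟨g⁻¹ * n, mul_mem (inv_mem hg) n.2⟩, rfl⟩, ?_⟩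
        apply Subtype.ext
        simp only [conjE_coe]
        group
    have hinj : ∀ x ∈ O, ∀ y ∈ O, C.conjE hg x = C.conjE hg y → x = y := by
      intro x _ y _ hxy
      have := congrArg (fun t : ↥C.E => (t : G)) hxy
      simp only [conjE_coe] at this
      apply Subtype.ext
      have h2 := mul_right_cancel this
      exact mul_left_cancel h2
    calc C.conjE hg w = ∏ t ∈ O, C.conjE hg t := map_prod _ _ _
      _ = ∏ t ∈ O.image (C.conjE hg), t := (Finset.prod_image (f := fun t => t) hinj).symm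
      _ = w := by rw [himg]
  have hcard : (O.filter (fun t : ↥C.E => pQ Q R (t : G) = z)).card
      = Set.ncard {t : G | ∃ g ∈ normalizer (S : Set G), t = g * z * g⁻¹ ∧ pQ Q R t = z} := by
    rw [← Finset.card_image_of_injective _ Subtype.val_injective, ← Set.ncard_coe_finset]
    congr 1
    ext t
    simp only [O, Finset.coe_image, Finset.coe_filter, Finset.mem_image, Finset.mem_univ,
      true_and, Set.mem_image, Set.mem_ofPred_eq]
    constructor
    · rintro ⟨x, ⟨⟨n, rfl⟩, hq⟩, rfl⟩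
      exact ⟨n, n.2, rfl, hq⟩
    · rintro ⟨g, hg, rfl, hq⟩
      exact ⟨C.conjE hg zE, ⟨⟨⟨g, hg⟩, rfl⟩, hq⟩, rfl⟩
  have hOdd : Odd (O.filter (fun t : ↥C.E => pQ Q R (t : G) = z)).card := by
    rw [hcard]; exact C.odd_orbit hodd
  have hlam : C.lam w = -1 := by
    calc C.lam w = ∏ t ∈ O, C.lam t := map_prod _ _ _
      _ = ∏ t ∈ O, (if pQ Q R (t : G) = z then (-1 : ℤˣ) else 1) := rfl
      _ = (-1) ^ (O.filter (fun t : ↥C.E => pQ Q R (t : G) = z)).card := by
          rw [Finset.prod_ite, Finset.prod_const, Finset.prod_const_one, mul_one]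
      _ = -1 := Odd.neg_one_pow hOdd
  have hw1 : (w : G) ≠ 1 := by
    intro h1
    have : w = 1 := Subtype.ext h1
    rw [this, map_one] at hlam
    exact absurd hlam (by decide)
  refine ⟨(w : G), w.2.1, orderOf_eq_prime (by rw [pow_two]; exact w.2.2) hw1,
    (C.invol w.2.1 w.2.2).2, ?_⟩
  intro g hg
  have := congrArg (fun t : ↥C.E => (t : G)) (hinv g hg)
  simpa only [conjE_coe] using this

end Ctx


/-- facts on the generalized quaternion group of order `4 * 2 ^ n`, `n ≥ 1` -/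
theorem quat_facts (n : ℕ) (hn : 1 ≤ n) :
    ∃ z u v : QuaternionGroup (2 ^ n), orderOf z = 2 ∧ z = u * v * u⁻¹ * v⁻¹ ∧
      ∀ t : QuaternionGroup (2 ^ n), orderOf t = 2 → t = z := by
  obtain ⟨k, rfl⟩ : ∃ k, n = k + 1 := ⟨n - 1, by omega⟩
  have hm : (2 * 2 ^ (k + 1) : ℕ) ≠ 0 := by positivity
  have : NeZero (2 ^ (k + 1)) := ⟨by positivity⟩
  have hcast : ((2 ^ (k + 1) : ℕ) : ZMod (2 * 2 ^ (k + 1))) + ((2 ^ (k + 1) : ℕ) : ZMod (2 * 2 ^ (k + 1))) = 0 := by
    rw [← Nat.cast_add, ← two_mul]; exact ZMod.natCast_self _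
  have hne : ((2 ^ (k + 1) : ℕ) : ZMod (2 * 2 ^ (k + 1))) ≠ 0 := by
    rw [Ne, ZMod.natCast_eq_zero_iff]
    intro hd
    have := Nat.le_of_dvd (by positivity) hd
    have : 0 < 2 ^ (k + 1) := by positivity
    omega
  refine ⟨QuaternionGroup.a ((2 ^ (k + 1) : ℕ) : ZMod (2 * 2 ^ (k + 1))),
    QuaternionGroup.a ((2 ^ k : ℕ) : ZMod (2 * 2 ^ (k + 1))), QuaternionGroup.xa 0, ?_, ?_, ?_⟩
  · refine orderOf_eq_prime ?_ ?_
    · rw [pow_two, QuaternionGroup.a_mul_a, hcast]; rfl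
    · intro h
      rw [QuaternionGroup.one_def] at h
      exact hne (QuaternionGroup.a.inj h)
  · rw [eq_mul_inv_iff_mul_eq, eq_mul_inv_iff_mul_eq]
    rw [QuaternionGroup.a_mul_xa, QuaternionGroup.xa_mul_a, QuaternionGroup.a_mul_xa]
    congr 1
    have h2 : ((2 ^ (k + 1) : ℕ) : ZMod (2 * 2 ^ (k + 1)))
        = ((2 ^ k : ℕ) : ZMod (2 * 2 ^ (k + 1))) + ((2 ^ k : ℕ) : ZMod (2 * 2 ^ (k + 1))) := by
      rw [← Nat.cast_add]; congr 1; ring
    rw [h2]; ring
  · rintro (i | i) ht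
    · have h1 : (QuaternionGroup.a i : QuaternionGroup (2 ^ (k + 1))) ^ 2 = 1 := by
        have := pow_orderOf_eq_one (QuaternionGroup.a i : QuaternionGroup (2 ^ (k + 1)))
        rwa [ht] at this
      rw [pow_two, QuaternionGroup.a_mul_a, QuaternionGroup.one_def] at h1
      have h2 : i + i = 0 := QuaternionGroup.a.inj h1
      have hi0 : i ≠ 0 := by
        rintro rfl
        rw [← QuaternionGroup.one_def, orderOf_one] at ht
        omega
      congr 1
      -- i + i = 0 in ZMod (2m) with i ≠ 0 forces i = m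
      have hv : (i.val + i.val) % (2 * 2 ^ (k + 1)) = 0 := by
        have := congrArg ZMod.val h2
        rwa [ZMod.val_add, ZMod.val_zero] at this
      have hlt : i.val < 2 * 2 ^ (k + 1) := ZMod.val_lt i
      have hpos : 0 < i.val := by
        rcases Nat.eq_zero_or_pos i.val with h0 | h0
        · exact absurd ((ZMod.val_eq_zero i).mp h0) hi0
        · exact h0
      have hval : i.val = 2 ^ (k + 1) := by
        have hd : 2 * 2 ^ (k + 1) ∣ i.val + i.val := Nat.dvd_of_mod_eq_zero hv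
        obtain ⟨c, hc⟩ := hd
        have hc1 : c = 1 := by
          have h1 : c < 2 := by
            by_contra hcon
            push Not at hcon
            have : 2 * 2 ^ (k + 1) * 2 ≤ 2 * 2 ^ (k + 1) * c := Nat.mul_le_mul_left _ hcon
            omega
          have h0 : c ≠ 0 := by
            rintro rfl
            omega
          omega
        rw [hc1] at hc
        omega
      calc i = ((i.val : ℕ) : ZMod (2 * 2 ^ (k + 1))) := (ZMod.natCast_zmod_val i).symm
        _ = _ := by rw [hval]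
    · rw [QuaternionGroup.orderOf_xa] at ht
      omega

/-- transport of the quaternion facts to a subgroup -/
theorem quat_facts_subgroup (Q : Subgroup G) (n : ℕ) (hn : 1 ≤ n)
    (eQ : ↥Q ≃* QuaternionGroup (2 ^ n)) :
    ∃ z u v : G, z ∈ Q ∧ u ∈ Q ∧ v ∈ Q ∧ orderOf z = 2 ∧ z = u * v * u⁻¹ * v⁻¹ ∧
      ∀ t ∈ Q, orderOf t = 2 → t = z := by
  obtain ⟨z, u, v, hz2, hcomm, huniq⟩ := quat_facts n hn
  refine ⟨(eQ.symm z : ↥Q), (eQ.symm u : ↥Q), (eQ.symm v : ↥Q), (eQ.symm z).2, (eQ.symm u).2,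
    (eQ.symm v).2, ?_, ?_, ?_⟩
  · rw [Subgroup.orderOf_coe, MulEquiv.orderOf_eq]; exact hz2
  · rw [hcomm]; simp
  · intro t ht ht2
    have h1 : orderOf (eQ ⟨t, ht⟩) = 2 := by
      rw [MulEquiv.orderOf_eq, Subgroup.orderOf_mk]; exact ht2
    have h2 := huniq _ h1
    have h3 : (⟨t, ht⟩ : ↥Q) = eQ.symm z := by rw [← h2, MulEquiv.symm_apply_apply]
    exact congrArg Subtype.val h3

end Cfsg.Agent.H92.QuatDirect
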