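import Mathlib

set_option autoImplicit false

/-!
# S2953, kill of (R1), the case `V ⊄ Q1`: abstract core (statement of helper1, post 11052)
-/

universe u

namespace Cfsg.Agent.H92.R1

variable {G : Type u} [Group G]

/-- `T = (W × C)⟨v⟩` with `W = {1, z1, z2, z1 z2}` central in `Q = W × C`, `v` an involution swapping
`z1, z2` and centralizing `C`, `z1 z2 ∉ C`, `z1 z2` central in `T`. Then every `x` normalizing `T` and
`⟨z1 z2, v⟩` normalizes `Q`. -/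
theorem out_core2 (T Q C : Subgroup G) (z1 z2 v x : G)
    (hQT : Q ≤ T) (hCQ : C ≤ Q) (hz1Q : z1 ∈ Q) (hz2Q : z2 ∈ Q)
    (hz1 : z1 * z1 = 1) (hvv : v * v = 1) (hswap : v * z1 * v⁻¹ = z2)
    (hz1c : ∀ q ∈ Q, q * z1 = z1 * q) (hz2c : ∀ q ∈ Q, q * z2 = z2 * q)
    (hCv : ∀ c ∈ C, c * v = v * c)
    (hdec : ∀ q ∈ Q, ∃ c ∈ C, q = c ∨ q = z1 * c ∨ q = z2 * c ∨ q = z1 * z2 * c)
    (hzC : z1 * z2 ∉ C)
    (hidx : ∀ t ∈ T, t ∈ Q ∨ t * v ∈ Q)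
    (hxT : ∀ t ∈ T, x * t * x⁻¹ ∈ T)
    (hxv : x * v * x⁻¹ = v ∨ x * v * x⁻¹ = v * (z1 * z2))
    (hzT : ∀ t ∈ T, t * (z1 * z2) = (z1 * z2) * t) :
    ∀ q ∈ Q, x * q * x⁻¹ ∈ Q := by
  have hvinv : v⁻¹ = v := inv_eq_of_mul_eq_one_right hvv
  have hz1inv : z1⁻¹ = z1 := inv_eq_of_mul_eq_one_right hz1
  have hswap' : v * z2 * v⁻¹ = z1 := by
    rw [← hswap]
    calc v * (v * z1 * v⁻¹) * v⁻¹ = (v * v) * z1 * (v * v)⁻¹ := by group
      _ = z1 := by rw [hvv]; group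
  have hz12 : z2 * z1 = z1 * z2 := hz1c z2 hz2Q
  have hz2 : z2 * z2 = 1 := by
    rw [← hswap]
    calc v * z1 * v⁻¹ * (v * z1 * v⁻¹) = v * (z1 * z1) * v⁻¹ := by group
      _ = 1 := by rw [hz1]; group
  have hz2inv : z2⁻¹ = z2 := inv_eq_of_mul_eq_one_right hz2
  have hzne : z1 * z2 ≠ 1 := fun h => hzC (h ▸ C.one_mem)
  have hcv : ∀ c ∈ C, v * c * v⁻¹ = c := by
    intro c hc; rw [← hCv c hc]; group
  have hCn : ∀ q ∈ Q, ∀ c ∈ C, q * c * q⁻¹ ∈ C := by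
    have aux : ∀ w : G, (∀ q ∈ Q, q * w = w * q) → ∀ c' ∈ C, ∀ c ∈ C, (w * c') * c * (w * c')⁻¹ ∈ C := by
      intro w hw c' hc' c hc
      have hd : c' * c * c'⁻¹ ∈ C := C.mul_mem (C.mul_mem hc' hc) (C.inv_mem hc')
      have e : (w * c') * c * (w * c')⁻¹ = c' * c * c'⁻¹ := by
        calc (w * c') * c * (w * c')⁻¹ = w * (c' * c * c'⁻¹) * w⁻¹ := by group
          _ = (c' * c * c'⁻¹) * w * w⁻¹ := by rw [hw _ (hCQ hd)]
          _ = c' * c * c'⁻¹ := by group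
      rw [e]; exact hd
    intro q hq c hc
    obtain ⟨c', hc', h | h | h | h⟩ := hdec q hq
    · rw [h]; exact C.mul_mem (C.mul_mem hc' hc) (C.inv_mem hc')
    · rw [h]; exact aux z1 hz1c c' hc' c hc
    · rw [h]; exact aux z2 hz2c c' hc' c hc
    · rw [h]
      refine aux (z1 * z2) ?_ c' hc' c hc
      intro q' hq'
      calc q' * (z1 * z2) = (q' * z1) * z2 := by group
        _ = z1 * (q' * z2) := by rw [hz1c q' hq']; group
        _ = z1 * z2 * q' := by rw [hz2c q' hq']; group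
  obtain ⟨y, hy⟩ : ∃ y, y = x * z1 * x⁻¹ := ⟨_, rfl⟩
  have hyT : y ∈ T := by rw [hy]; exact hxT z1 (hQT hz1Q)
  have hyy : y * y = 1 := by
    rw [hy]
    calc x * z1 * x⁻¹ * (x * z1 * x⁻¹) = x * (z1 * z1) * x⁻¹ := by group
      _ = 1 := by rw [hz1]; group
  have hyv : y * v ≠ v * y := by
    intro h
    have e0 : x * (z1 * z2) * x⁻¹ = y * (x * v * x⁻¹) * y * (x * v * x⁻¹)⁻¹ := by
      rw [hy, ← hswap]; group
    have e1 : y * v * y * v⁻¹ = 1 := by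
      rw [h]
      calc v * y * y * v⁻¹ = v * (y * y) * v⁻¹ := by group
        _ = 1 := by rw [hyy]; group
    have e2 : x * (z1 * z2) * x⁻¹ = 1 := by
      rcases hxv with hx | hx
      · rw [hx] at e0; rw [e0]; exact e1
      · rw [hx] at e0; rw [e0]
        have hzy := hzT y hyT
        calc y * (v * (z1 * z2)) * y * (v * (z1 * z2))⁻¹
            = y * v * ((z1 * z2) * y) * (z1 * z2)⁻¹ * v⁻¹ := by group
          _ = y * v * (y * (z1 * z2)) * (z1 * z2)⁻¹ * v⁻¹ := by rw [hzy]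
          _ = y * v * y * v⁻¹ := by group
          _ = 1 := e1
    exact hzne (conj_eq_one_iff.mp e2)
  have comm1 : ∀ w : G, w * v = v * w → ∀ c ∈ C, (w * c) * v = v * (w * c) := by
    intro w hw c hc
    calc (w * c) * v = w * (c * v) := by group
      _ = w * (v * c) := by rw [hCv c hc]
      _ = (w * v) * c := by group
      _ = v * (w * c) := by rw [hw]; group
  have hzv : (z1 * z2) * v = v * (z1 * z2) := by
    have e : v * (z1 * z2) * v⁻¹ = z1 * z2 := by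
      calc v * (z1 * z2) * v⁻¹ = (v * z1 * v⁻¹) * (v * z2 * v⁻¹) := by group
        _ = z2 * z1 := by rw [hswap, hswap']
        _ = z1 * z2 := hz12
    calc (z1 * z2) * v = (v * (z1 * z2) * v⁻¹) * v := by rw [e]
      _ = v * (z1 * z2) := by group
  have main : ∀ zi zj : G, (∀ q ∈ Q, q * zj = zj * q) → v * zi * v⁻¹ = zj → zj⁻¹ * zi ∉ C →
      ∀ c ∈ C, y = zi * c → ∀ t ∈ T, t * y = y * t → t ∈ Q := by
    intro zi zj hzjc hsw hnot c hc hyc t ht hcomm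
    rcases hidx t ht with h | h
    · exact h
    · exfalso
      obtain ⟨q', hq', e1⟩ : ∃ q' ∈ Q, t = q' * v := ⟨t * v, h, by rw [mul_assoc, hvv, mul_one]⟩
      have e2 : t * y * t⁻¹ = y := by rw [hcomm]; group
      have e3 : t * y * t⁻¹ = zj * (q' * c * q'⁻¹) := by
        rw [e1, hyc]
        calc q' * v * (zi * c) * (q' * v)⁻¹ = q' * (v * zi * v⁻¹) * (v * c * v⁻¹) * q'⁻¹ := by group
          _ = q' * zj * c * q'⁻¹ := by rw [hsw, hcv c hc]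
          _ = zj * q' * c * q'⁻¹ := by rw [hzjc q' hq']
          _ = zj * (q' * c * q'⁻¹) := by group
      have e4 : q' * c * q'⁻¹ * c⁻¹ = zj⁻¹ * zi := by
        have e5 : zj * (q' * c * q'⁻¹) = zi * c := by rw [← e3, e2, hyc]
        calc q' * c * q'⁻¹ * c⁻¹ = zj⁻¹ * (zj * (q' * c * q'⁻¹)) * c⁻¹ := by group
          _ = zj⁻¹ * (zi * c) * c⁻¹ := by rw [e5]
          _ = zj⁻¹ * zi := by group
      exact hnot (e4 ▸ C.mul_mem (hCn q' hq' c hc) (C.inv_mem hc))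
  have sq : ∀ zi zj : G, v * zi * v⁻¹ = zj → (∀ q ∈ Q, q * zj = zj * q) → zi * zj = z1 * z2 →
      ∀ c ∈ C, y * v = zi * c → False := by
    intro zi zj hsw hzjc hprod c hc hyc
    have e1 : y = zi * c * v := by
      calc y = (y * v) * v⁻¹ := by group
        _ = zi * c * v := by rw [hyc, hvinv]
    have e2 : y * y = zi * zj * (c * c) := by
      rw [e1]
      calc zi * c * v * (zi * c * v) = zi * c * (v * zi * v⁻¹) * (v * c * v⁻¹) * (v * v) := by group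
        _ = zi * (c * zj) * c := by rw [hsw, hcv c hc, hvv]; group
        _ = zi * (zj * c) * c := by rw [hzjc c (hCQ hc)]
        _ = zi * zj * (c * c) := by group
    rw [hyy, hprod] at e2
    apply hzC
    have e3 : z1 * z2 = (c * c)⁻¹ := by
      calc z1 * z2 = (z1 * z2 * (c * c)) * (c * c)⁻¹ := by group
        _ = (c * c)⁻¹ := by rw [← e2, one_mul]
    rw [e3]; exact C.inv_mem (C.mul_mem hc hc)
  have key : ∀ t ∈ T, t * y = y * t → t ∈ Q := by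
    rcases hidx y hyT with hyQ | hyvQ
    · obtain ⟨c, hc, h | h | h | h⟩ := hdec y hyQ
      · exact absurd (by rw [h]; exact hCv c hc) hyv
      · exact main z1 z2 hz2c hswap (by rw [hz2inv, hz12]; exact hzC) c hc h
      · exact main z2 z1 hz1c hswap' (by rw [hz1inv]; exact hzC) c hc h
      · exact absurd (by rw [h]; exact comm1 (z1 * z2) hzv c hc) hyv
    · obtain ⟨c, hc, h | h | h | h⟩ := hdec (y * v) hyvQ
      · exfalso
        apply hyv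
        have e1 : y = c * v := by
          calc y = (y * v) * v⁻¹ := by group
            _ = c * v := by rw [h, hvinv]
        rw [e1]
        calc c * v * v = (c * v) * v := rfl
          _ = (v * c) * v := by rw [hCv c hc]
          _ = v * (c * v) := by group
      · exact (sq z1 z2 hswap hz2c rfl c hc h).elim
      · exact (sq z2 z1 hswap' hz1c hz12 c hc h).elim
      · exfalso
        apply hyv
        have e1 : y = z1 * z2 * c * v := by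
          calc y = (y * v) * v⁻¹ := by group
            _ = z1 * z2 * c * v := by rw [h, hvinv]
        have e2 := comm1 (z1 * z2) hzv c hc
        rw [e1]
        calc z1 * z2 * c * v * v = (z1 * z2 * c * v) * v := rfl
          _ = (v * (z1 * z2 * c)) * v := by rw [e2]
          _ = v * (z1 * z2 * c * v) := by group
  intro q hq
  apply key _ (hxT q (hQT hq))
  rw [hy]
  calc x * q * x⁻¹ * (x * z1 * x⁻¹) = x * (q * z1) * x⁻¹ := by group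
    _ = x * (z1 * q) * x⁻¹ := by rw [hz1c q hq]
    _ = x * z1 * x⁻¹ * (x * q * x⁻¹) := by group

/-- The abstract core of the case `V ⊄ Q1` (exact statement of helper1's post 11052). -/
theorem r1_out {G : Type u} [Group G] [Finite G] (T' Q₁ K' O : Subgroup G) (z v k s : G) (hQT : Q₁ ≤ T')
    (hT2 : IsPGroup 2 ↥T') (hvT : v ∈ T') (hvQ : v ∉ Q₁) (hTQv : ∀ t ∈ T', t ∈ Q₁ ∨ t * v ∈ Q₁)
    (hv2 : v * v = 1) (hz2 : z * z = 1) (hzQ : z ∈ Q₁) (hzT : ∀ t ∈ T', t * z = z * t)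
    (hQv : ∀ q ∈ Q₁, v * q * v⁻¹ = q ∨ v * q * v⁻¹ = q * z) (hkK : k ∈ K') (hk3 : k ^ 3 = 1)
    (hkz : k * z * k⁻¹ ≠ z) (hkQ : ∀ q ∈ Q₁, k * q * k⁻¹ ∈ Q₁) (hOQ : O ≤ Q₁)
    (hKO : ∀ g ∈ K', ∃ o ∈ O, ∃ i : ℕ, g = o * k ^ i)
    (hKgen : Subgroup.closure {g : G | g ∈ K' ∧ Odd (orderOf g)} = K') (hvk : v * k * v⁻¹ ∈ K')
    (hvk' : v * k * v⁻¹ * k ∈ Q₁) (hsT : ∀ t ∈ T', s * t * s⁻¹ ∈ T')
    (hsv : s * v * s⁻¹ = v ∨ s * v * s⁻¹ = v * z) : ∀ q ∈ Q₁, s * q * s⁻¹ ∈ Q₁ := by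
  have hvinv : v⁻¹ = v := inv_eq_of_mul_eq_one_right hv2
  have hk3' : k * k * k = 1 := by
    have h := hk3
    rw [pow_succ, pow_succ, pow_one] at h
    exact h
  have hkk : k * k = k⁻¹ := by
    symm; apply inv_eq_of_mul_eq_one_right
    rw [← mul_assoc]; exact hk3'
  have conjk2 : ∀ q : G, k⁻¹ * q * k = k * (k * q * k⁻¹) * k⁻¹ := by
    intro q
    calc k⁻¹ * q * k = (k * k) * q * (k * k)⁻¹ := by rw [hkk, inv_inv]
      _ = k * (k * q * k⁻¹) * k⁻¹ := by group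
  have hkQ' : ∀ q ∈ Q₁, k⁻¹ * q * k ∈ Q₁ := by
    intro q hq
    rw [conjk2 q]; exact hkQ _ (hkQ q hq)
  obtain ⟨z1, hz1def⟩ : ∃ z1, z1 = k * z * k⁻¹ := ⟨_, rfl⟩
  obtain ⟨z2, hz2def⟩ : ∃ z2, z2 = k * z1 * k⁻¹ := ⟨_, rfl⟩
  obtain ⟨q₀, hq₀⟩ : ∃ q₀, q₀ = v * k * v⁻¹ * k := ⟨_, rfl⟩
  have hq₀Q : q₀ ∈ Q₁ := by rw [hq₀]; exact hvk'
  have hk_z2 : k * z2 * k⁻¹ = z := by
    rw [hz2def, hz1def]
    calc k * (k * (k * z * k⁻¹) * k⁻¹) * k⁻¹ = (k * k * k) * z * (k * k * k)⁻¹ := by group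
      _ = z := by rw [hk3']; group
  have hz1Q : z1 ∈ Q₁ := by rw [hz1def]; exact hkQ z hzQ
  have hz2Q : z2 ∈ Q₁ := by rw [hz2def]; exact hkQ z1 hz1Q
  have hz1sq : z1 * z1 = 1 := by
    rw [hz1def]
    calc k * z * k⁻¹ * (k * z * k⁻¹) = k * (z * z) * k⁻¹ := by group
      _ = 1 := by rw [hz2]; group
  have hz2sq : z2 * z2 = 1 := by
    rw [hz2def]
    calc k * z1 * k⁻¹ * (k * z1 * k⁻¹) = k * (z1 * z1) * k⁻¹ := by group
      _ = 1 := by rw [hz1sq]; group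
  have cent_k : ∀ a : G, (∀ q ∈ Q₁, q * a = a * q) → ∀ q ∈ Q₁, q * (k * a * k⁻¹) = (k * a * k⁻¹) * q := by
    intro a ha q hq
    have h1 := ha _ (hkQ' q hq)
    calc q * (k * a * k⁻¹) = k * ((k⁻¹ * q * k) * a) * k⁻¹ := by group
      _ = k * (a * (k⁻¹ * q * k)) * k⁻¹ := by rw [h1]
      _ = (k * a * k⁻¹) * q := by group
  have hzc : ∀ q ∈ Q₁, q * z = z * q := fun q hq => hzT q (hQT hq)
  have hz1c : ∀ q ∈ Q₁, q * z1 = z1 * q := by rw [hz1def]; exact cent_k z hzc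
  have hz2c : ∀ q ∈ Q₁, q * z2 = z2 * q := by rw [hz2def]; exact cent_k z1 hz1c
  have hvkv : v * k * v⁻¹ = q₀ * k⁻¹ := by rw [hq₀]; group
  have hvz : v * z * v⁻¹ = z := by rw [hzT v hvT]; group
  have hkz2 : k⁻¹ * z * k = z2 := by rw [conjk2 z, ← hz1def, ← hz2def]
  have hswap : v * z1 * v⁻¹ = z2 := by
    calc v * z1 * v⁻¹ = (v * k * v⁻¹) * (v * z * v⁻¹) * (v * k * v⁻¹)⁻¹ := by rw [hz1def]; group
      _ = (q₀ * k⁻¹) * z * (q₀ * k⁻¹)⁻¹ := by rw [hvkv, hvz]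
      _ = q₀ * (k⁻¹ * z * k) * q₀⁻¹ := by group
      _ = q₀ * z2 * q₀⁻¹ := by rw [hkz2]
      _ = z2 := by rw [hz2c q₀ hq₀Q]; group
  have hswap' : v * z2 * v⁻¹ = z1 := by
    rw [← hswap]
    calc v * (v * z1 * v⁻¹) * v⁻¹ = (v * v) * z1 * (v * v)⁻¹ := by group
      _ = z1 := by rw [hv2]; group
  have hz1z : z2 = z1 * z := by
    rcases hQv z1 hz1Q with h | h
    · exfalso
      rw [hswap] at h
      apply hkz
      calc k * z * k⁻¹ = z1 := hz1def.symm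
        _ = z2 := h.symm
        _ = k * z1 * k⁻¹ := hz2def
        _ = k * z2 * k⁻¹ := by rw [h]
        _ = z := hk_z2
    · rw [hswap] at h; exact h
  have hzne : z ≠ 1 := by
    intro h; apply hkz; rw [h]; group
  -- the multiplication table of `W = {1, z, z1, z2}`
  have e12 : z1 * z2 = z := by rw [hz1z, ← mul_assoc, hz1sq, one_mul]
  have e21 : z2 * z1 = z := by rw [hz1c z2 hz2Q, e12]
  have e1z : z1 * z = z2 := hz1z.symm
  have ez1 : z * z1 = z2 := by rw [← hzc z1 hz1Q, e1z]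
  have e2z : z2 * z = z1 := by rw [hz1z, mul_assoc, hz2, mul_one]
  have ez2 : z * z2 = z1 := by rw [← hzc z2 hz2Q, e2z]
  have hz1ne2 : z1 ≠ z2 := by
    intro h; apply hzne; rw [← e12, ← h]; exact hz1sq
  let W : Subgroup G :=
    { carrier := {g | g = 1 ∨ g = z ∨ g = z1 ∨ g = z2}
      one_mem' := Or.inl rfl
      mul_mem' := by
        rintro a b (rfl | rfl | rfl | rfl) (rfl | rfl | rfl | rfl) <;>
          simp [hz2, hz1sq, hz2sq, e12, e21, e1z, ez1, e2z, ez2]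
      inv_mem' := by
        rintro a (rfl | rfl | rfl | rfl)
        · simp
        · right; left; exact inv_eq_of_mul_eq_one_right hz2
        · right; right; left; exact inv_eq_of_mul_eq_one_right hz1sq
        · right; right; right; exact inv_eq_of_mul_eq_one_right hz2sq }
  have hWmem : ∀ g : G, g ∈ W ↔ (g = 1 ∨ g = z ∨ g = z1 ∨ g = z2) := fun g => Iff.rfl
  have hWQ : ∀ w ∈ W, w ∈ Q₁ := by
    rintro w (rfl | rfl | rfl | rfl)
    · exact Q₁.one_mem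
    · exact hzQ
    · exact hz1Q
    · exact hz2Q
  have hWc : ∀ w ∈ W, ∀ q ∈ Q₁, q * w = w * q := by
    rintro w (rfl | rfl | rfl | rfl) q hq
    · simp
    · exact hzc q hq
    · exact hz1c q hq
    · exact hz2c q hq
  have hWk : ∀ w ∈ W, k⁻¹ * w * k ∈ W := by
    rintro w (rfl | rfl | rfl | rfl)
    · rw [hWmem]; left; group
    · rw [hWmem, hkz2]; right; right; right; rfl
    · rw [hWmem]; right; left; rw [hz1def]; group
    · rw [hWmem]; right; right; left; rw [hz2def]; group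
  have hWk' : ∀ w ∈ W, k * w * k⁻¹ ∈ W := by
    rintro w (rfl | rfl | rfl | rfl)
    · rw [hWmem]; left; group
    · rw [hWmem, ← hz1def]; right; right; left; rfl
    · rw [hWmem, ← hz2def]; right; right; right; rfl
    · rw [hWmem, hk_z2]; right; left; rfl
  have hWv : ∀ w ∈ W, v * w * v⁻¹ ∈ W := by
    rintro w (rfl | rfl | rfl | rfl)
    · rw [hWmem]; left; group
    · rw [hWmem, hvz]; right; left; rfl
    · rw [hWmem, hswap]; right; right; right; rfl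
    · rw [hWmem, hswap']; right; right; left; rfl
  have hQvW : ∀ q ∈ Q₁, ∃ w ∈ W, v * q * v⁻¹ = q * w := by
    intro q hq
    rcases hQv q hq with h | h
    · exact ⟨1, W.one_mem, by rw [h, mul_one]⟩
    · exact ⟨z, (hWmem z).mpr (Or.inr (Or.inl rfl)), h⟩
  have hv' : ∀ a : G, v⁻¹ * a * v = v * a * v⁻¹ := by
    intro a; rw [hvinv]
  -- the basic relation
  have BR : ∀ a ∈ Q₁, ∃ w ∈ W, q₀ * (k⁻¹ * a * k) * q₀⁻¹ = (k * a * k⁻¹) * w := by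
    intro a ha
    obtain ⟨w1, hw1, e1⟩ := hQvW a ha
    obtain ⟨w2, hw2, e2⟩ := hQvW (k * a * k⁻¹) (hkQ a ha)
    refine ⟨w2 * (v * (k * w1 * k⁻¹) * v⁻¹), W.mul_mem hw2 (hWv _ (hWk' w1 hw1)), ?_⟩
    calc q₀ * (k⁻¹ * a * k) * q₀⁻¹ = (q₀ * k⁻¹) * a * (q₀ * k⁻¹)⁻¹ := by group
      _ = (v * k * v⁻¹) * a * (v * k * v⁻¹)⁻¹ := by rw [hvkv]
      _ = v * (k * (v⁻¹ * a * v) * k⁻¹) * v⁻¹ := by group
      _ = v * (k * (a * w1) * k⁻¹) * v⁻¹ := by rw [hv' a, e1]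
      _ = (v * (k * a * k⁻¹) * v⁻¹) * (v * (k * w1 * k⁻¹) * v⁻¹) := by group
      _ = (k * a * k⁻¹) * w2 * (v * (k * w1 * k⁻¹) * v⁻¹) := by rw [e2]
      _ = (k * a * k⁻¹) * (w2 * (v * (k * w1 * k⁻¹) * v⁻¹)) := by group
  have R : ∀ q ∈ Q₁, ∃ w ∈ W, k⁻¹ * q * k = (q₀ * q * q₀⁻¹) * w := by
    intro q hq
    obtain ⟨w, hw, e⟩ := BR (k * q * k⁻¹) (hkQ q hq)
    refine ⟨w⁻¹, W.inv_mem hw, ?_⟩
    have e1 : q₀ * q * q₀⁻¹ = (k⁻¹ * q * k) * w := by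
      calc q₀ * q * q₀⁻¹ = q₀ * (k⁻¹ * (k * q * k⁻¹) * k) * q₀⁻¹ := by group
        _ = (k * (k * q * k⁻¹) * k⁻¹) * w := e
        _ = (k⁻¹ * q * k) * w := by rw [← conjk2 q]
    rw [e1]; group
  have P : ∀ n : ℕ, ∀ q ∈ Q₁, ∃ w ∈ W, k⁻¹ ^ n * q * k ^ n = (q₀ ^ n * q * q₀⁻¹ ^ n) * w := by
    intro n
    induction n with
    | zero => intro q hq; exact ⟨1, W.one_mem, by simp⟩
    | succ n ih =>
      intro q hq
      obtain ⟨w, hw, e⟩ := ih q hq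
      obtain ⟨X, hX⟩ : ∃ X, X = q₀ ^ n * q * q₀⁻¹ ^ n := ⟨_, rfl⟩
      have hmem : X ∈ Q₁ := by
        rw [hX]
        exact Q₁.mul_mem (Q₁.mul_mem (Q₁.pow_mem hq₀Q n) hq) (Q₁.pow_mem (Q₁.inv_mem hq₀Q) n)
      obtain ⟨w', hw', e'⟩ := R X hmem
      refine ⟨w' * (k⁻¹ * w * k), W.mul_mem hw' (hWk w hw), ?_⟩
      have s1 : k⁻¹ ^ (n + 1) * q * k ^ (n + 1) = k⁻¹ * (k⁻¹ ^ n * q * k ^ n) * k := by
        rw [pow_succ' k⁻¹ n, pow_succ k n]; simp only [mul_assoc]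
      have s2 : q₀ ^ (n + 1) * q * q₀⁻¹ ^ (n + 1) = q₀ * X * q₀⁻¹ := by
        rw [hX, pow_succ' q₀ n, pow_succ q₀⁻¹ n]; simp only [mul_assoc]
      rw [s1, s2, e, ← hX]
      calc k⁻¹ * (X * w) * k = (k⁻¹ * X * k) * (k⁻¹ * w * k) := by group
        _ = (q₀ * X * q₀⁻¹) * w' * (k⁻¹ * w * k) := by rw [e']
        _ = q₀ * X * q₀⁻¹ * (w' * (k⁻¹ * w * k)) := by group
  -- `k` centralizes `Q₁ / W`
  obtain ⟨m, hm⟩ := hT2 ⟨q₀, hQT hq₀Q⟩
  have hm' : q₀ ^ 2 ^ m = 1 := by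
    have := congrArg Subtype.val hm
    simpa using this
  have h4 : (4 : ℕ) ^ m = 2 ^ m * 2 ^ m := by
    rw [← mul_pow]; norm_num
  have hq4 : q₀ ^ 4 ^ m = 1 := by rw [h4, pow_mul, hm', one_pow]
  have hq4' : q₀⁻¹ ^ 4 ^ m = 1 := by rw [inv_pow, hq4, inv_one]
  have hk4 : k ^ 4 ^ m = k := by
    rw [pow_eq_pow_mod (4 ^ m) hk3]
    have : 4 ^ m % 3 = 1 := by simp [Nat.pow_mod]
    rw [this, pow_one]
  have hk4' : k⁻¹ ^ 4 ^ m = k⁻¹ := by rw [inv_pow, hk4]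
  have F1 : ∀ q ∈ Q₁, ∃ w ∈ W, k⁻¹ * q * k = q * w := by
    intro q hq
    obtain ⟨w, hw, e⟩ := P (4 ^ m) q hq
    rw [hk4, hk4', hq4, hq4', one_mul, mul_one] at e
    exact ⟨w, hw, e⟩
  have F0 : ∀ q ∈ Q₁, ∃ w ∈ W, k * q * k⁻¹ = q * w := by
    intro q hq
    obtain ⟨w, hw, e⟩ := F1 (k * q * k⁻¹) (hkQ q hq)
    refine ⟨w⁻¹, W.inv_mem hw, ?_⟩
    have e1 : q = (k * q * k⁻¹) * w := by rw [← e]; group
    calc k * q * k⁻¹ = ((k * q * k⁻¹) * w) * w⁻¹ := by group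
      _ = q * w⁻¹ := by rw [← e1]
  let C1 : Subgroup G :=
    { carrier := {q | q ∈ Q₁ ∧ k * q * k⁻¹ = q}
      one_mem' := ⟨Q₁.one_mem, by group⟩
      mul_mem' := by
        rintro a b ⟨ha, ha'⟩ ⟨hb, hb'⟩
        refine ⟨Q₁.mul_mem ha hb, ?_⟩
        calc k * (a * b) * k⁻¹ = (k * a * k⁻¹) * (k * b * k⁻¹) := by group
          _ = a * b := by rw [ha', hb']
      inv_mem' := by
        rintro a ⟨ha, ha'⟩
        refine ⟨Q₁.inv_mem ha, ?_⟩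
        calc k * a⁻¹ * k⁻¹ = (k * a * k⁻¹)⁻¹ := by group
          _ = a⁻¹ := by rw [ha'] }
  have hC1mem : ∀ g : G, g ∈ C1 ↔ (g ∈ Q₁ ∧ k * g * k⁻¹ = g) := fun g => Iff.rfl
  have hCQ : C1 ≤ Q₁ := fun g hg => ((hC1mem g).mp hg).1
  have hdec : ∀ q ∈ Q₁, ∃ c ∈ C1, q = c ∨ q = z1 * c ∨ q = z2 * c ∨ q = z1 * z2 * c := by
    intro q hq
    obtain ⟨w, hw, e⟩ := F0 q hq
    rcases (hWmem w).mp hw with h | h | h | h
    · rw [h, mul_one] at e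
      exact ⟨q, (hC1mem q).mpr ⟨hq, e⟩, Or.inl rfl⟩
    · rw [h] at e
      refine ⟨z1 * q, (hC1mem _).mpr ⟨Q₁.mul_mem hz1Q hq, ?_⟩, Or.inr (Or.inl ?_)⟩
      · calc k * (z1 * q) * k⁻¹ = (k * z1 * k⁻¹) * (k * q * k⁻¹) := by group
          _ = z2 * (q * z) := by rw [← hz2def, e]
          _ = z2 * (z * q) := by rw [hzc q hq]
          _ = (z2 * z) * q := by group
          _ = z1 * q := by rw [e2z]
      · rw [← mul_assoc, hz1sq, one_mul]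
    · rw [h] at e
      refine ⟨z2 * q, (hC1mem _).mpr ⟨Q₁.mul_mem hz2Q hq, ?_⟩, Or.inr (Or.inr (Or.inl ?_))⟩
      · calc k * (z2 * q) * k⁻¹ = (k * z2 * k⁻¹) * (k * q * k⁻¹) := by group
          _ = z * (q * z1) := by rw [hk_z2, e]
          _ = z * (z1 * q) := by rw [hz1c q hq]
          _ = (z * z1) * q := by group
          _ = z2 * q := by rw [ez1]
      · rw [← mul_assoc, hz2sq, one_mul]
    · rw [h] at e
      refine ⟨z * q, (hC1mem _).mpr ⟨Q₁.mul_mem hzQ hq, ?_⟩, Or.inr (Or.inr (Or.inr ?_))⟩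
      · calc k * (z * q) * k⁻¹ = (k * z * k⁻¹) * (k * q * k⁻¹) := by group
          _ = z1 * (q * z2) := by rw [← hz1def, e]
          _ = z1 * (z2 * q) := by rw [hz2c q hq]
          _ = (z1 * z2) * q := by group
          _ = z * q := by rw [e12]
      · rw [e12, ← mul_assoc, hz2, one_mul]
  have hzC : z1 * z2 ∉ C1 := by
    rw [e12]
    intro h
    exact hkz ((hC1mem z).mp h).2
  have hz1C : z1 ∉ C1 := by
    intro h
    apply hz1ne2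
    rw [hz2def]; exact ((hC1mem z1).mp h).2.symm
  have hCv : ∀ c ∈ C1, c * v = v * c := by
    intro c hc
    have hcQ := ((hC1mem c).mp hc).1
    have hck := ((hC1mem c).mp hc).2
    rcases hQv c hcQ with h | h
    · calc c * v = (v * c * v⁻¹) * v := by rw [h]
        _ = v * c := by group
    · exfalso
      have h1 : (v * k * v⁻¹) * (v * c * v⁻¹) * (v * k * v⁻¹)⁻¹ = v * c * v⁻¹ := by
        calc (v * k * v⁻¹) * (v * c * v⁻¹) * (v * k * v⁻¹)⁻¹ = v * (k * c * k⁻¹) * v⁻¹ := by group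
          _ = v * c * v⁻¹ := by rw [hck]
      rw [hvkv, h] at h1
      have hc' : k⁻¹ * c * k = c := by
        calc k⁻¹ * c * k = k⁻¹ * (k * c * k⁻¹) * k := by rw [hck]
          _ = c := by group
      have h2 : q₀ * c * q₀⁻¹ * z2 = c * z := by
        calc q₀ * c * q₀⁻¹ * z2 = q₀ * c * (q₀⁻¹ * z2) := by group
          _ = q₀ * c * (z2 * q₀⁻¹) := by rw [hz2c q₀⁻¹ (Q₁.inv_mem hq₀Q)]
          _ = q₀ * ((k⁻¹ * c * k) * (k⁻¹ * z * k)) * q₀⁻¹ := by rw [hc', hkz2]; group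
          _ = q₀ * k⁻¹ * (c * z) * (q₀ * k⁻¹)⁻¹ := by group
          _ = c * z := h1
      have h4 : q₀ * c * q₀⁻¹ = c * z1 := by
        calc q₀ * c * q₀⁻¹ = (q₀ * c * q₀⁻¹ * z2) * z2 := by rw [mul_assoc _ z2 z2, hz2sq, mul_one]
          _ = c * z * z2 := by rw [h2]
          _ = c * (z * z2) := by group
          _ = c * z1 := by rw [ez2]
      have h3 : q₀ * c * q₀⁻¹ * c⁻¹ = z1 := by
        rw [h4, hz1c c hcQ]; group
      have h5 : q₀ * c * q₀⁻¹ * c⁻¹ ∈ C1 := by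
        have aux : ∀ w : G, (∀ q ∈ Q₁, q * w = w * q) → ∀ c₀ ∈ C1,
            (w * c₀) * c * (w * c₀)⁻¹ * c⁻¹ ∈ C1 := by
          intro w hw c₀ hc₀
          have hd : c₀ * c * c₀⁻¹ ∈ C1 := C1.mul_mem (C1.mul_mem hc₀ hc) (C1.inv_mem hc₀)
          have e : (w * c₀) * c * (w * c₀)⁻¹ = c₀ * c * c₀⁻¹ := by
            calc (w * c₀) * c * (w * c₀)⁻¹ = w * (c₀ * c * c₀⁻¹) * w⁻¹ := by group
              _ = (c₀ * c * c₀⁻¹) * w * w⁻¹ := by rw [hw _ (hCQ hd)]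
              _ = c₀ * c * c₀⁻¹ := by group
          rw [e]; exact C1.mul_mem hd (C1.inv_mem hc)
        obtain ⟨c₀, hc₀, hq0 | hq0 | hq0 | hq0⟩ := hdec q₀ hq₀Q
        · rw [hq0]; exact C1.mul_mem (C1.mul_mem (C1.mul_mem hc₀ hc) (C1.inv_mem hc₀)) (C1.inv_mem hc)
        · rw [hq0]; exact aux z1 hz1c c₀ hc₀
        · rw [hq0]; exact aux z2 hz2c c₀ hc₀
        · rw [hq0]
          refine aux (z1 * z2) ?_ c₀ hc₀
          rw [e12]; exact hzc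
      rw [h3] at h5
      exact hz1C h5
  have hsv' : s * v * s⁻¹ = v ∨ s * v * s⁻¹ = v * (z1 * z2) := by rw [e12]; exact hsv
  have hzT' : ∀ t ∈ T', t * (z1 * z2) = (z1 * z2) * t := by rw [e12]; exact hzT
  exact out_core2 T' Q₁ C1 z1 z2 v s hQT hCQ hz1Q hz2Q hz1sq hv2 hswap hz1c hz2c hCv hdec hzC hTQv hsT
    hsv' hzT'

end Cfsg.Agent.H92.R1

example : ∀ {G : Type u} [Group G] [Finite G] (T' Q₁ K' O : Subgroup G) (z v k s : G) (hQT : Q₁ ≤ T') (hT2 : IsPGroup 2 ↥T') (hvT : v ∈ T') (hvQ : v ∉ Q₁) (hTQv : ∀ t ∈ T', t ∈ Q₁ ∨ t * v ∈ Q₁) (hv2 : v * v = 1) (hz2 : z * z = 1) (hzQ : z ∈ Q₁) (hzT : ∀ t ∈ T', t * z = z * t) (hQv : ∀ q ∈ Q₁, v * q * v⁻¹ = q ∨ v * q * v⁻¹ = q * z) (hkK : k ∈ K') (hk3 : k ^ 3 = 1) (hkz : k * z * k⁻¹ ≠ z) (hkQ : ∀ q ∈ Q₁, k * q * k⁻¹ ∈ Q₁) (hOQ : O ≤ Q₁) (hKO : ∀ g ∈ K', ∃ o ∈ O, ∃ i : ℕ, g = o * k ^ i) (hKgen : Subgroup.closure {g : G | g ∈ K' ∧ Odd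 (orderOf g)} = K') (hvk : v * k * v⁻¹ ∈ K') (hvk' : v * k * v⁻¹ * k ∈ Q₁) (hsT : ∀ t ∈ T', s * t * s⁻¹ ∈ T') (hsv : s * v * s⁻¹ = v ∨ s * v * s⁻¹ = v * z), ∀ q ∈ Q₁, s * q * s⁻¹ ∈ Q₁ :=
  @Cfsg.Agent.H92.R1.r1_out
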