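import Mathlib

set_option autoImplicit false

/-!
# S2953, kill of (R1), step (4): the abstract end of the case `V ⊄ Q1`

`T = (W × C)⟨v⟩` with `W = {1, z1, z2, z1 z2}` central in `Q = W × C`, `v` an involution swapping
`z1, z2` and centralizing `C`, `z1 z2 ∉ C`. Then every `x` normalizing `T` and commuting with `v`
normalizes `Q`.
-/

namespace Cfsg.Agent.H92.R1

variable {G : Type*} [Group G]

theorem out_core (T Q C : Subgroup G) (z1 z2 v x : G)
    (hQT : Q ≤ T) (hCQ : C ≤ Q) (hz1Q : z1 ∈ Q) (hz2Q : z2 ∈ Q)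
    (hz1 : z1 * z1 = 1) (hvv : v * v = 1) (hswap : v * z1 * v⁻¹ = z2)
    (hz1c : ∀ q ∈ Q, q * z1 = z1 * q) (hz2c : ∀ q ∈ Q, q * z2 = z2 * q)
    (hCv : ∀ c ∈ C, c * v = v * c)
    (hdec : ∀ q ∈ Q, ∃ c ∈ C, q = c ∨ q = z1 * c ∨ q = z2 * c ∨ q = z1 * z2 * c)
    (hzC : z1 * z2 ∉ C)
    (hidx : ∀ t ∈ T, t ∈ Q ∨ t * v ∈ Q)
    (hxT : ∀ t ∈ T, x * t * x⁻¹ ∈ T) (hxv : x * v = v * x) :
    ∀ q ∈ Q, x * q * x⁻¹ ∈ Q := by
  have hvinv : v⁻¹ = v := inv_eq_of_mul_eq_one_right hvv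
  have hz1inv : z1⁻¹ = z1 := inv_eq_of_mul_eq_one_right hz1
  have hswap' : v * z2 * v⁻¹ = z1 := by
    rw [← hswap]
    calc v * (v * z1 * v⁻¹) * v⁻¹ = (v * v) * z1 * (v * v)⁻¹ := by group
      _ = z1 := by rw [hvv]; group
  have hz12 : z2 * z1 = z1 * z2 := hz1c z2 hz2Q
  have hz2 : z2 * z2 = 1 := by
    rw [← hswap]
    calc v * z1 * v⁻¹ * (v * z1 * v⁻¹) = v * (z1 * z1) * v⁻¹ := by group
      _ = 1 := by rw [hz1]; group
  have hz2inv : z2⁻¹ = z2 := inv_eq_of_mul_eq_one_right hz2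
  have hzne : z1 * z2 ≠ 1 := fun h => hzC (h ▸ C.one_mem)
  have hz1ne2 : z1 ≠ z2 := by
    intro h; apply hzne; rw [← h]; exact hz1
  have hcv : ∀ c ∈ C, v * c * v⁻¹ = c := by
    intro c hc; rw [← hCv c hc]; group
  -- `C` is normalized by `Q`
  have hCn : ∀ q ∈ Q, ∀ c ∈ C, q * c * q⁻¹ ∈ C := by
    have aux : ∀ w : G, (∀ q ∈ Q, q * w = w * q) → ∀ c' ∈ C, ∀ c ∈ C, (w * c') * c * (w * c')⁻¹ ∈ C := by
      intro w hw c' hc' c hc
      have hd : c' * c * c'⁻¹ ∈ C := C.mul_mem (C.mul_mem hc' hc) (C.inv_mem hc')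
      have e : (w * c') * c * (w * c')⁻¹ = c' * c * c'⁻¹ := by
        calc (w * c') * c * (w * c')⁻¹ = w * (c' * c * c'⁻¹) * w⁻¹ := by group
          _ = (c' * c * c'⁻¹) * w * w⁻¹ := by rw [hw _ (hCQ hd)]
          _ = c' * c * c'⁻¹ := by group
      rw [e]; exact hd
    intro q hq c hc
    obtain ⟨c', hc', h | h | h | h⟩ := hdec q hq
    · rw [h]; exact C.mul_mem (C.mul_mem hc' hc) (C.inv_mem hc')
    · rw [h]; exact aux z1 hz1c c' hc' c hc
    · rw [h]; exact aux z2 hz2c c' hc' c hc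
    · rw [h]
      refine aux (z1 * z2) ?_ c' hc' c hc
      intro q' hq'
      calc q' * (z1 * z2) = (q' * z1) * z2 := by group
        _ = z1 * (q' * z2) := by rw [hz1c q' hq']; group
        _ = z1 * z2 * q' := by rw [hz2c q' hq']; group
  set y := x * z1 * x⁻¹ with hy
  have hyT : y ∈ T := hxT z1 (hQT hz1Q)
  have hyy : y * y = 1 := by
    rw [hy]
    calc x * z1 * x⁻¹ * (x * z1 * x⁻¹) = x * (z1 * z1) * x⁻¹ := by group
      _ = 1 := by rw [hz1]; group
  have hyv : y * v ≠ v * y := by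
    intro h
    have hxv' : x⁻¹ * v * x = v := by rw [mul_assoc, ← hxv, ← mul_assoc, inv_mul_cancel, one_mul]
    have h2 : z1 * v = v * z1 := by
      calc z1 * v = z1 * (x⁻¹ * v * x) := by rw [hxv']
        _ = x⁻¹ * (x * z1 * x⁻¹ * v) * x := by group
        _ = x⁻¹ * (v * (x * z1 * x⁻¹)) * x := by rw [← hy, h]
        _ = (x⁻¹ * v * x) * z1 := by group
        _ = v * z1 := by rw [hxv']
    apply hz1ne2
    rw [← hswap, ← h2]; group
  -- elements commuting with `v`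
  have comm1 : ∀ w : G, w * v = v * w → ∀ c ∈ C, (w * c) * v = v * (w * c) := by
    intro w hw c hc
    calc (w * c) * v = w * (c * v) := by group
      _ = w * (v * c) := by rw [hCv c hc]
      _ = (w * v) * c := by group
      _ = v * (w * c) := by rw [hw]; group
  have hzv : (z1 * z2) * v = v * (z1 * z2) := by
    have e : v * (z1 * z2) * v⁻¹ = z1 * z2 := by
      calc v * (z1 * z2) * v⁻¹ = (v * z1 * v⁻¹) * (v * z2 * v⁻¹) := by group
        _ = z2 * z1 := by rw [hswap, hswap']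
        _ = z1 * z2 := hz12
    calc (z1 * z2) * v = (v * (z1 * z2) * v⁻¹) * v := by rw [e]
      _ = v * (z1 * z2) := by group
  -- the main case
  have main : ∀ zi zj : G, (∀ q ∈ Q, q * zj = zj * q) → v * zi * v⁻¹ = zj → zj⁻¹ * zi ∉ C →
      ∀ c ∈ C, y = zi * c → ∀ t ∈ T, t * y = y * t → t ∈ Q := by
    intro zi zj hzjc hsw hnot c hc hyc t ht hcomm
    rcases hidx t ht with h | h
    · exact h
    · exfalso
      obtain ⟨q', hq', e1⟩ : ∃ q' ∈ Q, t = q' * v := ⟨t * v, h, by rw [mul_assoc, hvv, mul_one]⟩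
      have e2 : t * y * t⁻¹ = y := by rw [hcomm]; group
      have e3 : t * y * t⁻¹ = zj * (q' * c * q'⁻¹) := by
        rw [e1, hyc]
        calc q' * v * (zi * c) * (q' * v)⁻¹ = q' * (v * zi * v⁻¹) * (v * c * v⁻¹) * q'⁻¹ := by group
          _ = q' * zj * c * q'⁻¹ := by rw [hsw, hcv c hc]
          _ = zj * q' * c * q'⁻¹ := by rw [hzjc q' hq']
          _ = zj * (q' * c * q'⁻¹) := by group
      have e4 : q' * c * q'⁻¹ * c⁻¹ = zj⁻¹ * zi := by
        have e5 : zj * (q' * c * q'⁻¹) = zi * c := by rw [← e3, e2, hyc]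
        calc q' * c * q'⁻¹ * c⁻¹ = zj⁻¹ * (zj * (q' * c * q'⁻¹)) * c⁻¹ := by group
          _ = zj⁻¹ * (zi * c) * c⁻¹ := by rw [e5]
          _ = zj⁻¹ * zi := by group
      exact hnot (e4 ▸ C.mul_mem (hCn q' hq' c hc) (C.inv_mem hc))
  -- `y` squared, in the coset `Q v`
  have sq : ∀ zi zj : G, v * zi * v⁻¹ = zj → (∀ q ∈ Q, q * zj = zj * q) → zi * zj = z1 * z2 →
      ∀ c ∈ C, y * v = zi * c → False := by
    intro zi zj hsw hzjc hprod c hc hyc
    have e1 : y = zi * c * v := by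
      calc y = (y * v) * v⁻¹ := by group
        _ = zi * c * v := by rw [hyc, hvinv]
    have e2 : y * y = zi * zj * (c * c) := by
      rw [e1]
      calc zi * c * v * (zi * c * v) = zi * c * (v * zi * v⁻¹) * (v * c * v⁻¹) * (v * v) := by group
        _ = zi * (c * zj) * c := by rw [hsw, hcv c hc, hvv]; group
        _ = zi * (zj * c) * c := by rw [hzjc c (hCQ hc)]
        _ = zi * zj * (c * c) := by group
    rw [hyy, hprod] at e2
    apply hzC
    have e3 : z1 * z2 = (c * c)⁻¹ := by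
      calc z1 * z2 = (z1 * z2 * (c * c)) * (c * c)⁻¹ := by group
        _ = (c * c)⁻¹ := by rw [← e2, one_mul]
    rw [e3]; exact C.inv_mem (C.mul_mem hc hc)
  -- `C_T(y) ≤ Q`
  have key : ∀ t ∈ T, t * y = y * t → t ∈ Q := by
    rcases hidx y hyT with hyQ | hyvQ
    · obtain ⟨c, hc, h | h | h | h⟩ := hdec y hyQ
      · exact absurd (by rw [h]; exact hCv c hc) hyv
      · exact main z1 z2 hz2c hswap (by rw [hz2inv, hz12]; exact hzC) c hc h
      · exact main z2 z1 hz1c hswap' (by rw [hz1inv]; exact hzC) c hc h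
      · exact absurd (by rw [h]; exact comm1 (z1 * z2) hzv c hc) hyv
    · obtain ⟨c, hc, h | h | h | h⟩ := hdec (y * v) hyvQ
      · exfalso
        apply hyv
        have e1 : y = c * v := by
          calc y = (y * v) * v⁻¹ := by group
            _ = c * v := by rw [h, hvinv]
        rw [e1]
        calc c * v * v = (c * v) * v := rfl
          _ = (v * c) * v := by rw [hCv c hc]
          _ = v * (c * v) := by group
      · exact (sq z1 z2 hswap hz2c rfl c hc h).elim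
      · exact (sq z2 z1 hswap' hz1c hz12 c hc h).elim
      · exfalso
        apply hyv
        have e1 : y = z1 * z2 * c * v := by
          calc y = (y * v) * v⁻¹ := by group
            _ = z1 * z2 * c * v := by rw [h, hvinv]
        have e2 := comm1 (z1 * z2) hzv c hc
        rw [e1]
        calc z1 * z2 * c * v * v = (z1 * z2 * c * v) * v := rfl
          _ = (v * (z1 * z2 * c)) * v := by rw [e2]
          _ = v * (z1 * z2 * c * v) := by group
  intro q hq
  apply key _ (hxT q (hQT hq))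
  rw [hy]
  calc x * q * x⁻¹ * (x * z1 * x⁻¹) = x * (q * z1) * x⁻¹ := by group
    _ = x * (z1 * q) * x⁻¹ := by rw [hz1c q hq]
    _ = x * z1 * x⁻¹ * (x * q * x⁻¹) := by group

end Cfsg.Agent.H92.R1
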