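import Cfsg.Agent.H92.R1Out

set_option autoImplicit false

/-!
# S2953, kill of (R1), the case `V ⊄ Q1`: the abstract core with minimal hypotheses
-/

universe u

namespace Cfsg.Agent.H92.R1

/-- `r1_out` with the unused hypotheses removed (no `K'`, `O`, no generation hypothesis): only
`Q₁ ≤ T'` of index 2 (`T' = Q₁ ∪ Q₁ v`), `T'` a 2-group, `z ∈ Z(T') ∩ Q₁` an involution, `v ∈ T'` an
involution with `[Q₁, v] ≤ ⟨z⟩`, `k` with `k ^ 3 = 1` normalizing `Q₁`, not centralizing `z`, inverted by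
`v` modulo `Q₁`, and `s` normalizing `T'` and `⟨z, v⟩`. -/
theorem r1_out_min {G : Type u} [Group G] (T' Q₁ : Subgroup G) (z v k s : G) (hQT : Q₁ ≤ T')
    (hT2 : IsPGroup 2 ↥T') (hvT : v ∈ T') (hTQv : ∀ t ∈ T', t ∈ Q₁ ∨ t * v ∈ Q₁)
    (hv2 : v * v = 1) (hz2 : z * z = 1) (hzQ : z ∈ Q₁) (hzT : ∀ t ∈ T', t * z = z * t)
    (hQv : ∀ q ∈ Q₁, v * q * v⁻¹ = q ∨ v * q * v⁻¹ = q * z) (hk3 : k ^ 3 = 1)
    (hkz : k * z * k⁻¹ ≠ z) (hkQ : ∀ q ∈ Q₁, k * q * k⁻¹ ∈ Q₁)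
    (hvk' : v * k * v⁻¹ * k ∈ Q₁) (hsT : ∀ t ∈ T', s * t * s⁻¹ ∈ T')
    (hsv : s * v * s⁻¹ = v ∨ s * v * s⁻¹ = v * z) : ∀ q ∈ Q₁, s * q * s⁻¹ ∈ Q₁ := by
  have hvinv : v⁻¹ = v := inv_eq_of_mul_eq_one_right hv2
  have hk3' : k * k * k = 1 := by
    have h := hk3
    rw [pow_succ, pow_succ, pow_one] at h
    exact h
  have hkk : k * k = k⁻¹ := by
    symm; apply inv_eq_of_mul_eq_one_right
    rw [← mul_assoc]; exact hk3'
  have conjk2 : ∀ q : G, k⁻¹ * q * k = k * (k * q * k⁻¹) * k⁻¹ := by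
    intro q
    calc k⁻¹ * q * k = (k * k) * q * (k * k)⁻¹ := by rw [hkk, inv_inv]
      _ = k * (k * q * k⁻¹) * k⁻¹ := by group
  have hkQ' : ∀ q ∈ Q₁, k⁻¹ * q * k ∈ Q₁ := by
    intro q hq
    rw [conjk2 q]; exact hkQ _ (hkQ q hq)
  obtain ⟨z1, hz1def⟩ : ∃ z1, z1 = k * z * k⁻¹ := ⟨_, rfl⟩
  obtain ⟨z2, hz2def⟩ : ∃ z2, z2 = k * z1 * k⁻¹ := ⟨_, rfl⟩
  obtain ⟨q₀, hq₀⟩ : ∃ q₀, q₀ = v * k * v⁻¹ * k := ⟨_, rfl⟩
  have hq₀Q : q₀ ∈ Q₁ := by rw [hq₀]; exact hvk'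
  have hk_z2 : k * z2 * k⁻¹ = z := by
    rw [hz2def, hz1def]
    calc k * (k * (k * z * k⁻¹) * k⁻¹) * k⁻¹ = (k * k * k) * z * (k * k * k)⁻¹ := by group
      _ = z := by rw [hk3']; group
  have hz1Q : z1 ∈ Q₁ := by rw [hz1def]; exact hkQ z hzQ
  have hz2Q : z2 ∈ Q₁ := by rw [hz2def]; exact hkQ z1 hz1Q
  have hz1sq : z1 * z1 = 1 := by
    rw [hz1def]
    calc k * z * k⁻¹ * (k * z * k⁻¹) = k * (z * z) * k⁻¹ := by group
      _ = 1 := by rw [hz2]; group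
  have hz2sq : z2 * z2 = 1 := by
    rw [hz2def]
    calc k * z1 * k⁻¹ * (k * z1 * k⁻¹) = k * (z1 * z1) * k⁻¹ := by group
      _ = 1 := by rw [hz1sq]; group
  have cent_k : ∀ a : G, (∀ q ∈ Q₁, q * a = a * q) → ∀ q ∈ Q₁, q * (k * a * k⁻¹) = (k * a * k⁻¹) * q := by
    intro a ha q hq
    have h1 := ha _ (hkQ' q hq)
    calc q * (k * a * k⁻¹) = k * ((k⁻¹ * q * k) * a) * k⁻¹ := by group
      _ = k * (a * (k⁻¹ * q * k)) * k⁻¹ := by rw [h1]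
      _ = (k * a * k⁻¹) * q := by group
  have hzc : ∀ q ∈ Q₁, q * z = z * q := fun q hq => hzT q (hQT hq)
  have hz1c : ∀ q ∈ Q₁, q * z1 = z1 * q := by rw [hz1def]; exact cent_k z hzc
  have hz2c : ∀ q ∈ Q₁, q * z2 = z2 * q := by rw [hz2def]; exact cent_k z1 hz1c
  have hvkv : v * k * v⁻¹ = q₀ * k⁻¹ := by rw [hq₀]; group
  have hvz : v * z * v⁻¹ = z := by rw [hzT v hvT]; group
  have hkz2 : k⁻¹ * z * k = z2 := by rw [conjk2 z, ← hz1def, ← hz2def]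
  have hswap : v * z1 * v⁻¹ = z2 := by
    calc v * z1 * v⁻¹ = (v * k * v⁻¹) * (v * z * v⁻¹) * (v * k * v⁻¹)⁻¹ := by rw [hz1def]; group
      _ = (q₀ * k⁻¹) * z * (q₀ * k⁻¹)⁻¹ := by rw [hvkv, hvz]
      _ = q₀ * (k⁻¹ * z * k) * q₀⁻¹ := by group
      _ = q₀ * z2 * q₀⁻¹ := by rw [hkz2]
      _ = z2 := by rw [hz2c q₀ hq₀Q]; group
  have hswap' : v * z2 * v⁻¹ = z1 := by
    rw [← hswap]
    calc v * (v * z1 * v⁻¹) * v⁻¹ = (v * v) * z1 * (v * v)⁻¹ := by group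
      _ = z1 := by rw [hv2]; group
  have hz1z : z2 = z1 * z := by
    rcases hQv z1 hz1Q with h | h
    · exfalso
      rw [hswap] at h
      apply hkz
      calc k * z * k⁻¹ = z1 := hz1def.symm
        _ = z2 := h.symm
        _ = k * z1 * k⁻¹ := hz2def
        _ = k * z2 * k⁻¹ := by rw [h]
        _ = z := hk_z2
    · rw [hswap] at h; exact h
  have hzne : z ≠ 1 := by
    intro h; apply hkz; rw [h]; group
  -- the multiplication table of `W = {1, z, z1, z2}`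
  have e12 : z1 * z2 = z := by rw [hz1z, ← mul_assoc, hz1sq, one_mul]
  have e21 : z2 * z1 = z := by rw [hz1c z2 hz2Q, e12]
  have e1z : z1 * z = z2 := hz1z.symm
  have ez1 : z * z1 = z2 := by rw [← hzc z1 hz1Q, e1z]
  have e2z : z2 * z = z1 := by rw [hz1z, mul_assoc, hz2, mul_one]
  have ez2 : z * z2 = z1 := by rw [← hzc z2 hz2Q, e2z]
  have hz1ne2 : z1 ≠ z2 := by
    intro h; apply hzne; rw [← e12, ← h]; exact hz1sq
  let W : Subgroup G :=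
    { carrier := {g | g = 1 ∨ g = z ∨ g = z1 ∨ g = z2}
      one_mem' := Or.inl rfl
      mul_mem' := by
        rintro a b (rfl | rfl | rfl | rfl) (rfl | rfl | rfl | rfl) <;>
          simp [hz2, hz1sq, hz2sq, e12, e21, e1z, ez1, e2z, ez2]
      inv_mem' := by
        rintro a (rfl | rfl | rfl | rfl)
        · simp
        · right; left; exact inv_eq_of_mul_eq_one_right hz2
        · right; right; left; exact inv_eq_of_mul_eq_one_right hz1sq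
        · right; right; right; exact inv_eq_of_mul_eq_one_right hz2sq }
  have hWmem : ∀ g : G, g ∈ W ↔ (g = 1 ∨ g = z ∨ g = z1 ∨ g = z2) := fun g => Iff.rfl
  have hWQ : ∀ w ∈ W, w ∈ Q₁ := by
    rintro w (rfl | rfl | rfl | rfl)
    · exact Q₁.one_mem
    · exact hzQ
    · exact hz1Q
    · exact hz2Q
  have hWc : ∀ w ∈ W, ∀ q ∈ Q₁, q * w = w * q := by
    rintro w (rfl | rfl | rfl | rfl) q hq
    · simp
    · exact hzc q hq
    · exact hz1c q hq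
    · exact hz2c q hq
  have hWk : ∀ w ∈ W, k⁻¹ * w * k ∈ W := by
    rintro w (rfl | rfl | rfl | rfl)
    · rw [hWmem]; left; group
    · rw [hWmem, hkz2]; right; right; right; rfl
    · rw [hWmem]; right; left; rw [hz1def]; group
    · rw [hWmem]; right; right; left; rw [hz2def]; group
  have hWk' : ∀ w ∈ W, k * w * k⁻¹ ∈ W := by
    rintro w (rfl | rfl | rfl | rfl)
    · rw [hWmem]; left; group
    · rw [hWmem, ← hz1def]; right; right; left; rfl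
    · rw [hWmem, ← hz2def]; right; right; right; rfl
    · rw [hWmem, hk_z2]; right; left; rfl
  have hWv : ∀ w ∈ W, v * w * v⁻¹ ∈ W := by
    rintro w (rfl | rfl | rfl | rfl)
    · rw [hWmem]; left; group
    · rw [hWmem, hvz]; right; left; rfl
    · rw [hWmem, hswap]; right; right; right; rfl
    · rw [hWmem, hswap']; right; right; left; rfl
  have hQvW : ∀ q ∈ Q₁, ∃ w ∈ W, v * q * v⁻¹ = q * w := by
    intro q hq
    rcases hQv q hq with h | h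
    · exact ⟨1, W.one_mem, by rw [h, mul_one]⟩
    · exact ⟨z, (hWmem z).mpr (Or.inr (Or.inl rfl)), h⟩
  have hv' : ∀ a : G, v⁻¹ * a * v = v * a * v⁻¹ := by
    intro a; rw [hvinv]
  -- the basic relation
  have BR : ∀ a ∈ Q₁, ∃ w ∈ W, q₀ * (k⁻¹ * a * k) * q₀⁻¹ = (k * a * k⁻¹) * w := by
    intro a ha
    obtain ⟨w1, hw1, e1⟩ := hQvW a ha
    obtain ⟨w2, hw2, e2⟩ := hQvW (k * a * k⁻¹) (hkQ a ha)
    refine ⟨w2 * (v * (k * w1 * k⁻¹) * v⁻¹), W.mul_mem hw2 (hWv _ (hWk' w1 hw1)), ?_⟩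
    calc q₀ * (k⁻¹ * a * k) * q₀⁻¹ = (q₀ * k⁻¹) * a * (q₀ * k⁻¹)⁻¹ := by group
      _ = (v * k * v⁻¹) * a * (v * k * v⁻¹)⁻¹ := by rw [hvkv]
      _ = v * (k * (v⁻¹ * a * v) * k⁻¹) * v⁻¹ := by group
      _ = v * (k * (a * w1) * k⁻¹) * v⁻¹ := by rw [hv' a, e1]
      _ = (v * (k * a * k⁻¹) * v⁻¹) * (v * (k * w1 * k⁻¹) * v⁻¹) := by group
      _ = (k * a * k⁻¹) * w2 * (v * (k * w1 * k⁻¹) * v⁻¹) := by rw [e2]
      _ = (k * a * k⁻¹) * (w2 * (v * (k * w1 * k⁻¹) * v⁻¹)) := by group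
  have R : ∀ q ∈ Q₁, ∃ w ∈ W, k⁻¹ * q * k = (q₀ * q * q₀⁻¹) * w := by
    intro q hq
    obtain ⟨w, hw, e⟩ := BR (k * q * k⁻¹) (hkQ q hq)
    refine ⟨w⁻¹, W.inv_mem hw, ?_⟩
    have e1 : q₀ * q * q₀⁻¹ = (k⁻¹ * q * k) * w := by
      calc q₀ * q * q₀⁻¹ = q₀ * (k⁻¹ * (k * q * k⁻¹) * k) * q₀⁻¹ := by group
        _ = (k * (k * q * k⁻¹) * k⁻¹) * w := e
        _ = (k⁻¹ * q * k) * w := by rw [← conjk2 q]
    rw [e1]; group
  have P : ∀ n : ℕ, ∀ q ∈ Q₁, ∃ w ∈ W, k⁻¹ ^ n * q * k ^ n = (q₀ ^ n * q * q₀⁻¹ ^ n) * w := by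
    intro n
    induction n with
    | zero => intro q hq; exact ⟨1, W.one_mem, by simp⟩
    | succ n ih =>
      intro q hq
      obtain ⟨w, hw, e⟩ := ih q hq
      obtain ⟨X, hX⟩ : ∃ X, X = q₀ ^ n * q * q₀⁻¹ ^ n := ⟨_, rfl⟩
      have hmem : X ∈ Q₁ := by
        rw [hX]
        exact Q₁.mul_mem (Q₁.mul_mem (Q₁.pow_mem hq₀Q n) hq) (Q₁.pow_mem (Q₁.inv_mem hq₀Q) n)
      obtain ⟨w', hw', e'⟩ := R X hmem
      refine ⟨w' * (k⁻¹ * w * k), W.mul_mem hw' (hWk w hw), ?_⟩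
      have s1 : k⁻¹ ^ (n + 1) * q * k ^ (n + 1) = k⁻¹ * (k⁻¹ ^ n * q * k ^ n) * k := by
        rw [pow_succ' k⁻¹ n, pow_succ k n]; simp only [mul_assoc]
      have s2 : q₀ ^ (n + 1) * q * q₀⁻¹ ^ (n + 1) = q₀ * X * q₀⁻¹ := by
        rw [hX, pow_succ' q₀ n, pow_succ q₀⁻¹ n]; simp only [mul_assoc]
      rw [s1, s2, e, ← hX]
      calc k⁻¹ * (X * w) * k = (k⁻¹ * X * k) * (k⁻¹ * w * k) := by group
        _ = (q₀ * X * q₀⁻¹) * w' * (k⁻¹ * w * k) := by rw [e']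
        _ = q₀ * X * q₀⁻¹ * (w' * (k⁻¹ * w * k)) := by group
  -- `k` centralizes `Q₁ / W`
  obtain ⟨m, hm⟩ := hT2 ⟨q₀, hQT hq₀Q⟩
  have hm' : q₀ ^ 2 ^ m = 1 := by
    have := congrArg Subtype.val hm
    simpa using this
  have h4 : (4 : ℕ) ^ m = 2 ^ m * 2 ^ m := by
    rw [← mul_pow]; norm_num
  have hq4 : q₀ ^ 4 ^ m = 1 := by rw [h4, pow_mul, hm', one_pow]
  have hq4' : q₀⁻¹ ^ 4 ^ m = 1 := by rw [inv_pow, hq4, inv_one]
  have hk4 : k ^ 4 ^ m = k := by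
    rw [pow_eq_pow_mod (4 ^ m) hk3]
    have : 4 ^ m % 3 = 1 := by simp [Nat.pow_mod]
    rw [this, pow_one]
  have hk4' : k⁻¹ ^ 4 ^ m = k⁻¹ := by rw [inv_pow, hk4]
  have F1 : ∀ q ∈ Q₁, ∃ w ∈ W, k⁻¹ * q * k = q * w := by
    intro q hq
    obtain ⟨w, hw, e⟩ := P (4 ^ m) q hq
    rw [hk4, hk4', hq4, hq4', one_mul, mul_one] at e
    exact ⟨w, hw, e⟩
  have F0 : ∀ q ∈ Q₁, ∃ w ∈ W, k * q * k⁻¹ = q * w := by
    intro q hq
    obtain ⟨w, hw, e⟩ := F1 (k * q * k⁻¹) (hkQ q hq)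
    refine ⟨w⁻¹, W.inv_mem hw, ?_⟩
    have e1 : q = (k * q * k⁻¹) * w := by rw [← e]; group
    calc k * q * k⁻¹ = ((k * q * k⁻¹) * w) * w⁻¹ := by group
      _ = q * w⁻¹ := by rw [← e1]
  let C1 : Subgroup G :=
    { carrier := {q | q ∈ Q₁ ∧ k * q * k⁻¹ = q}
      one_mem' := ⟨Q₁.one_mem, by group⟩
      mul_mem' := by
        rintro a b ⟨ha, ha'⟩ ⟨hb, hb'⟩
        refine ⟨Q₁.mul_mem ha hb, ?_⟩
        calc k * (a * b) * k⁻¹ = (k * a * k⁻¹) * (k * b * k⁻¹) := by group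
          _ = a * b := by rw [ha', hb']
      inv_mem' := by
        rintro a ⟨ha, ha'⟩
        refine ⟨Q₁.inv_mem ha, ?_⟩
        calc k * a⁻¹ * k⁻¹ = (k * a * k⁻¹)⁻¹ := by group
          _ = a⁻¹ := by rw [ha'] }
  have hC1mem : ∀ g : G, g ∈ C1 ↔ (g ∈ Q₁ ∧ k * g * k⁻¹ = g) := fun g => Iff.rfl
  have hCQ : C1 ≤ Q₁ := fun g hg => ((hC1mem g).mp hg).1
  have hdec : ∀ q ∈ Q₁, ∃ c ∈ C1, q = c ∨ q = z1 * c ∨ q = z2 * c ∨ q = z1 * z2 * c := by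
    intro q hq
    obtain ⟨w, hw, e⟩ := F0 q hq
    rcases (hWmem w).mp hw with h | h | h | h
    · rw [h, mul_one] at e
      exact ⟨q, (hC1mem q).mpr ⟨hq, e⟩, Or.inl rfl⟩
    · rw [h] at e
      refine ⟨z1 * q, (hC1mem _).mpr ⟨Q₁.mul_mem hz1Q hq, ?_⟩, Or.inr (Or.inl ?_)⟩
      · calc k * (z1 * q) * k⁻¹ = (k * z1 * k⁻¹) * (k * q * k⁻¹) := by group
          _ = z2 * (q * z) := by rw [← hz2def, e]
          _ = z2 * (z * q) := by rw [hzc q hq]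
          _ = (z2 * z) * q := by group
          _ = z1 * q := by rw [e2z]
      · rw [← mul_assoc, hz1sq, one_mul]
    · rw [h] at e
      refine ⟨z2 * q, (hC1mem _).mpr ⟨Q₁.mul_mem hz2Q hq, ?_⟩, Or.inr (Or.inr (Or.inl ?_))⟩
      · calc k * (z2 * q) * k⁻¹ = (k * z2 * k⁻¹) * (k * q * k⁻¹) := by group
          _ = z * (q * z1) := by rw [hk_z2, e]
          _ = z * (z1 * q) := by rw [hz1c q hq]
          _ = (z * z1) * q := by group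
          _ = z2 * q := by rw [ez1]
      · rw [← mul_assoc, hz2sq, one_mul]
    · rw [h] at e
      refine ⟨z * q, (hC1mem _).mpr ⟨Q₁.mul_mem hzQ hq, ?_⟩, Or.inr (Or.inr (Or.inr ?_))⟩
      · calc k * (z * q) * k⁻¹ = (k * z * k⁻¹) * (k * q * k⁻¹) := by group
          _ = z1 * (q * z2) := by rw [← hz1def, e]
          _ = z1 * (z2 * q) := by rw [hz2c q hq]
          _ = (z1 * z2) * q := by group
          _ = z * q := by rw [e12]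
      · rw [e12, ← mul_assoc, hz2, one_mul]
  have hzC : z1 * z2 ∉ C1 := by
    rw [e12]
    intro h
    exact hkz ((hC1mem z).mp h).2
  have hz1C : z1 ∉ C1 := by
    intro h
    apply hz1ne2
    rw [hz2def]; exact ((hC1mem z1).mp h).2.symm
  have hCv : ∀ c ∈ C1, c * v = v * c := by
    intro c hc
    have hcQ := ((hC1mem c).mp hc).1
    have hck := ((hC1mem c).mp hc).2
    rcases hQv c hcQ with h | h
    · calc c * v = (v * c * v⁻¹) * v := by rw [h]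
        _ = v * c := by group
    · exfalso
      have h1 : (v * k * v⁻¹) * (v * c * v⁻¹) * (v * k * v⁻¹)⁻¹ = v * c * v⁻¹ := by
        calc (v * k * v⁻¹) * (v * c * v⁻¹) * (v * k * v⁻¹)⁻¹ = v * (k * c * k⁻¹) * v⁻¹ := by group
          _ = v * c * v⁻¹ := by rw [hck]
      rw [hvkv, h] at h1
      have hc' : k⁻¹ * c * k = c := by
        calc k⁻¹ * c * k = k⁻¹ * (k * c * k⁻¹) * k := by rw [hck]
          _ = c := by group
      have h2 : q₀ * c * q₀⁻¹ * z2 = c * z := by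
        calc q₀ * c * q₀⁻¹ * z2 = q₀ * c * (q₀⁻¹ * z2) := by group
          _ = q₀ * c * (z2 * q₀⁻¹) := by rw [hz2c q₀⁻¹ (Q₁.inv_mem hq₀Q)]
          _ = q₀ * ((k⁻¹ * c * k) * (k⁻¹ * z * k)) * q₀⁻¹ := by rw [hc', hkz2]; group
          _ = q₀ * k⁻¹ * (c * z) * (q₀ * k⁻¹)⁻¹ := by group
          _ = c * z := h1
      have h4 : q₀ * c * q₀⁻¹ = c * z1 := by
        calc q₀ * c * q₀⁻¹ = (q₀ * c * q₀⁻¹ * z2) * z2 := by rw [mul_assoc _ z2 z2, hz2sq, mul_one]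
          _ = c * z * z2 := by rw [h2]
          _ = c * (z * z2) := by group
          _ = c * z1 := by rw [ez2]
      have h3 : q₀ * c * q₀⁻¹ * c⁻¹ = z1 := by
        rw [h4, hz1c c hcQ]; group
      have h5 : q₀ * c * q₀⁻¹ * c⁻¹ ∈ C1 := by
        have aux : ∀ w : G, (∀ q ∈ Q₁, q * w = w * q) → ∀ c₀ ∈ C1,
            (w * c₀) * c * (w * c₀)⁻¹ * c⁻¹ ∈ C1 := by
          intro w hw c₀ hc₀
          have hd : c₀ * c * c₀⁻¹ ∈ C1 := C1.mul_mem (C1.mul_mem hc₀ hc) (C1.inv_mem hc₀)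
          have e : (w * c₀) * c * (w * c₀)⁻¹ = c₀ * c * c₀⁻¹ := by
            calc (w * c₀) * c * (w * c₀)⁻¹ = w * (c₀ * c * c₀⁻¹) * w⁻¹ := by group
              _ = (c₀ * c * c₀⁻¹) * w * w⁻¹ := by rw [hw _ (hCQ hd)]
              _ = c₀ * c * c₀⁻¹ := by group
          rw [e]; exact C1.mul_mem hd (C1.inv_mem hc)
        obtain ⟨c₀, hc₀, hq0 | hq0 | hq0 | hq0⟩ := hdec q₀ hq₀Q
        · rw [hq0]; exact C1.mul_mem (C1.mul_mem (C1.mul_mem hc₀ hc) (C1.inv_mem hc₀)) (C1.inv_mem hc)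
        · rw [hq0]; exact aux z1 hz1c c₀ hc₀
        · rw [hq0]; exact aux z2 hz2c c₀ hc₀
        · rw [hq0]
          refine aux (z1 * z2) ?_ c₀ hc₀
          rw [e12]; exact hzc
      rw [h3] at h5
      exact hz1C h5
  have hsv' : s * v * s⁻¹ = v ∨ s * v * s⁻¹ = v * (z1 * z2) := by rw [e12]; exact hsv
  have hzT' : ∀ t ∈ T', t * (z1 * z2) = (z1 * z2) * t := by rw [e12]; exact hzT
  exact out_core2 T' Q₁ C1 z1 z2 v s hQT hCQ hz1Q hz2Q hz1sq hv2 hswap hz1c hz2c hCv hdec hzC hTQv hsT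
    hsv' hzT'


/-- Normalizer form: `s` and `s⁻¹` both carry `Q₁` into itself. -/
theorem r1_out_iff {G : Type u} [Group G] (T' Q₁ : Subgroup G) (z v k s : G) (hQT : Q₁ ≤ T')
    (hT2 : IsPGroup 2 ↥T') (hvT : v ∈ T') (hTQv : ∀ t ∈ T', t ∈ Q₁ ∨ t * v ∈ Q₁)
    (hv2 : v * v = 1) (hz2 : z * z = 1) (hzQ : z ∈ Q₁) (hzT : ∀ t ∈ T', t * z = z * t)
    (hQv : ∀ q ∈ Q₁, v * q * v⁻¹ = q ∨ v * q * v⁻¹ = q * z) (hk3 : k ^ 3 = 1)
    (hkz : k * z * k⁻¹ ≠ z) (hkQ : ∀ q ∈ Q₁, k * q * k⁻¹ ∈ Q₁)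
    (hvk' : v * k * v⁻¹ * k ∈ Q₁) (hsT : ∀ t, t ∈ T' ↔ s * t * s⁻¹ ∈ T')
    (hsv : s * v * s⁻¹ = v ∨ s * v * s⁻¹ = v * z) (hsz : s * z * s⁻¹ = z) :
    ∀ q, q ∈ Q₁ ↔ s * q * s⁻¹ ∈ Q₁ := by
  have h1 := r1_out_min T' Q₁ z v k s hQT hT2 hvT hTQv hv2 hz2 hzQ hzT hQv hk3 hkz hkQ hvk'
    (fun t ht => (hsT t).mp ht) hsv
  have hsT' : ∀ t ∈ T', s⁻¹ * t * s⁻¹⁻¹ ∈ T' := by
    intro t ht
    apply (hsT _).mpr
    have e : s * (s⁻¹ * t * s⁻¹⁻¹) * s⁻¹ = t := by group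
    rw [e]; exact ht
  have hsz' : s⁻¹ * z * s⁻¹⁻¹ = z := by
    calc s⁻¹ * z * s⁻¹⁻¹ = s⁻¹ * (s * z * s⁻¹) * s⁻¹⁻¹ := by rw [hsz]
      _ = z := by group
  have hsv' : s⁻¹ * v * s⁻¹⁻¹ = v ∨ s⁻¹ * v * s⁻¹⁻¹ = v * z := by
    rcases hsv with h | h
    · left
      calc s⁻¹ * v * s⁻¹⁻¹ = s⁻¹ * (s * v * s⁻¹) * s⁻¹⁻¹ := by rw [h]
        _ = v := by group
    · right
      have e : s * (v * z) * s⁻¹ = v := by
        calc s * (v * z) * s⁻¹ = (s * v * s⁻¹) * (s * z * s⁻¹) := by group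
          _ = v * z * z := by rw [h, hsz]
          _ = v := by rw [mul_assoc, hz2, mul_one]
      calc s⁻¹ * v * s⁻¹⁻¹ = s⁻¹ * (s * (v * z) * s⁻¹) * s⁻¹⁻¹ := by rw [e]
        _ = v * z := by group
  have h2 := r1_out_min T' Q₁ z v k s⁻¹ hQT hT2 hvT hTQv hv2 hz2 hzQ hzT hQv hk3 hkz hkQ hvk' hsT' hsv'
  intro q
  constructor
  · exact h1 q
  · intro h
    have e : q = s⁻¹ * (s * q * s⁻¹) * s⁻¹⁻¹ := by group
    rw [e]; exact h2 _ h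

end Cfsg.Agent.H92.R1
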