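import Mathlib

/-!
# S3358-COND (helper92, piece for helper1's S3358)

If `x⁻¹ y x = y ^ r` in a finite group all of whose subgroups of order `p q` are cyclic and
`orderOf x`, `orderOf y` are coprime, then `r ^ (n / rad n) ≡ 1 mod m` for `n = orderOf x`,
`m = orderOf y`.
-/

set_option autoImplicit false

namespace Cfsg.Agent.H92.Sfc

universe u

open scoped Pointwise

/-- Iterating the relation `x⁻¹ y x = y ^ r`. -/
theorem conj_pow_rel {N : Type u} [Group N] (x y : N) (r : ℕ) (hrel : x⁻¹ * y * x = y ^ r)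
    (k : ℕ) : (x ^ k)⁻¹ * y * x ^ k = y ^ (r ^ k) := by
  induction k with
  | zero => simp
  | succ k ih =>
    have h1 : (x ^ (k + 1))⁻¹ * y * x ^ (k + 1) = x⁻¹ * ((x ^ k)⁻¹ * y * x ^ k) * x := by
      rw [pow_succ]; group
    have h2 : x⁻¹ * y ^ (r ^ k) * x = (x⁻¹ * y * x) ^ (r ^ k) := by
      have := map_pow (MulAut.conj x⁻¹) y (r ^ k)
      simpa [MulAut.conj_apply] using this
    rw [h1, ih, h2, hrel, ← pow_mul, pow_succ, mul_comm]

/-- Number theory, part A: `s ≡ 1` modulo every prime divisor of `m`, `s ^ p ≡ 1 mod m` and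
`p` coprime to `m` imply `s ≡ 1 mod m`. -/
theorem nt_A {s p m : ℕ} (hp : p.Coprime m) (hsp : s ^ p ≡ 1 [MOD m])
    (hq : ∀ q : ℕ, q.Prime → q ∣ m → s ≡ 1 [MOD q]) : s ≡ 1 [MOD m] := by
  rcases Nat.eq_zero_or_pos m with rfl | hm
  · -- `m = 0`: then `p = 1`
    have : p = 1 := by simpa using hp
    subst this
    simpa using hsp
  have key : (m : ℤ) ∣ (s : ℤ) - 1 := by
    rw [Int.natCast_dvd]
    rw [Nat.dvd_iff_prime_pow_dvd_dvd]
    intro q e hqp hqe
    rw [← Int.natCast_dvd]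
    rcases Nat.eq_zero_or_pos e with rfl | he
    · simp
    have hqm : q ∣ m := dvd_trans (dvd_pow_self q he.ne') hqe
    have h1 : ((q : ℕ) : ℤ) ∣ (s : ℤ) - 1 := by
      have := (hq q hqp hqm)
      have h := (Nat.modEq_iff_dvd.mp this.symm)
      simpa using h
    have h2 : ((q : ℤ) ^ (e - 1 + 1)) ∣ (s : ℤ) ^ q ^ (e - 1) - 1 ^ q ^ (e - 1) :=
      dvd_sub_pow_of_dvd_sub h1 (e - 1)
    rw [Nat.sub_add_cancel he, one_pow] at h2
    have h3 : ((q : ℤ) ^ e) ∣ (s : ℤ) ^ p - 1 := by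
      have h := (Nat.modEq_iff_dvd.mp hsp.symm)
      have h' : ((m : ℕ) : ℤ) ∣ (s : ℤ) ^ p - 1 := by simpa using h
      refine dvd_trans ?_ h'
      exact_mod_cast hqe
    -- work in `ZMod (q ^ e)`
    have e2 : ((s : ZMod (q ^ e))) ^ q ^ (e - 1) = 1 := by
      have := (ZMod.intCast_zmod_eq_zero_iff_dvd ((s : ℤ) ^ q ^ (e - 1) - 1) (q ^ e)).mpr
        (by exact_mod_cast h2)
      push_cast at this
      exact sub_eq_zero.mp this
    have e3 : ((s : ZMod (q ^ e))) ^ p = 1 := by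
      have := (ZMod.intCast_zmod_eq_zero_iff_dvd ((s : ℤ) ^ p - 1) (q ^ e)).mpr
        (by exact_mod_cast h3)
      push_cast at this
      exact sub_eq_zero.mp this
    have hcop : Nat.gcd (q ^ (e - 1)) p = 1 := by
      have : p.Coprime (q ^ (e - 1)) := by
        apply Nat.Coprime.pow_right
        exact hp.coprime_dvd_right hqm
      exact this.symm
    have e4 := (pow_gcd_eq_one (a := (s : ZMod (q ^ e)))).mpr ⟨e2, e3⟩
    rw [hcop, pow_one] at e4
    have := (ZMod.intCast_zmod_eq_zero_iff_dvd ((s : ℤ) - 1) (q ^ e)).mp (by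
      push_cast; rw [e4]; simp)
    exact_mod_cast this
  have h : (1 : ℕ) ≡ s [MOD m] := Nat.modEq_iff_dvd.mpr (by push_cast; exact key)
  exact h.symm

/-- Number theory, part B. -/
theorem nt_B {n t : ℕ} (hn : 0 < n) (ht : t ∣ n) (h : ∀ p : ℕ, p.Prime → p ∣ n → t ∣ n / p) :
    t ∣ n / ∏ p ∈ n.primeFactors, p := by
  have hR : (∏ p ∈ n.primeFactors, p) ∣ n := Nat.prod_primeFactors_dvd n
  rw [Nat.dvd_iff_prime_pow_dvd_dvd]
  intro p k hp hpk
  rcases Nat.eq_zero_or_pos k with rfl | hk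
  · simp
  have hpt : p ∣ t := dvd_trans (dvd_pow_self p hk.ne') hpk
  have hpn : p ∣ n := dvd_trans hpt ht
  have h1 : p ^ k ∣ n / p := dvd_trans hpk (h p hp hpn)
  have h2 : p ^ k * p ∣ n := by
    have := Nat.mul_dvd_mul_right h1 p
    rwa [Nat.div_mul_cancel hpn] at this
  have hmem : p ∈ n.primeFactors := Nat.mem_primeFactors.mpr ⟨hp, hpn, hn.ne'⟩
  have hR' : ∏ q ∈ n.primeFactors, q = p * ∏ q ∈ n.primeFactors.erase p, q :=
    (Finset.mul_prod_erase _ _ hmem).symm
  have hcop0 : Nat.Coprime p (∏ q ∈ n.primeFactors.erase p, q) := by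
    apply Nat.Coprime.prod_right
    intro q hq
    rw [Finset.mem_erase] at hq
    exact (Nat.coprime_primes hp (Nat.prime_of_mem_primeFactors hq.2)).mpr (Ne.symm hq.1)
  have hcop : Nat.Coprime (p ^ k * p) (∏ q ∈ n.primeFactors.erase p, q) :=
    Nat.Coprime.mul_left (Nat.Coprime.pow_left k hcop0) hcop0
  have h3 : (∏ q ∈ n.primeFactors.erase p, q) ∣ n :=
    dvd_trans (Dvd.intro_left p hR'.symm) hR
  have h4 : p ^ k * p * ∏ q ∈ n.primeFactors.erase p, q ∣ n :=
    hcop.mul_dvd_of_dvd_of_dvd h2 h3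
  apply Nat.dvd_div_of_mul_dvd
  rw [hR']
  have e : (p * ∏ q ∈ n.primeFactors.erase p, q) * p ^ k
      = p ^ k * p * ∏ q ∈ n.primeFactors.erase p, q := by ring
  rw [e]
  exact h4

/-- The group-theoretic step: an element `z` of prime order `p` normalizing `⟨y⟩` via
`z⁻¹ y z = y ^ s` acts trivially modulo every prime divisor `q` of `orderOf y`. -/
theorem prime_step {N : Type u} [Group N] [Finite N]
    (hpq : ∀ (A : Subgroup N) (p q : ℕ), p.Prime → q.Prime → Nat.card A = p * q → IsCyclic A)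
    (z y : N) (s p q : ℕ) (hp : p.Prime) (hqp : q.Prime) (hz : orderOf z = p)
    (hq : q ∣ orderOf y) (hne : p ≠ q) (hrel : z⁻¹ * y * z = y ^ s) : s ≡ 1 [MOD q] := by
  set w : N := y ^ (orderOf y / q) with hw
  have how : orderOf w = q := orderOf_pow_orderOf_div (orderOf_pos y).ne' hq
  have hzw : z⁻¹ * w * z = w ^ s := by
    have := map_pow (MulAut.conj z⁻¹) y (orderOf y / q)
    simp only [MulAut.conj_apply, inv_inv] at this
    rw [hw, this, hrel, ← pow_mul, ← pow_mul, mul_comm]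
  -- `z` normalizes `⟨w⟩`
  have hnorm : z⁻¹ ∈ Subgroup.normalizer (Subgroup.zpowers w : Set N) := by
    rw [Subgroup.mem_normalizer_iff_map_conj_eq]
    apply Subgroup.eq_of_le_of_card_ge
    · rw [MonoidHom.map_zpowers, Subgroup.zpowers_le]
      show z⁻¹ * w * z⁻¹⁻¹ ∈ _
      rw [inv_inv, hzw]
      exact Subgroup.pow_mem _ (Subgroup.mem_zpowers w) s
    · rw [Subgroup.card_map_of_injective (MulAut.conj z⁻¹).injective]
  have hnorm' : Subgroup.zpowers z ≤ Subgroup.normalizer (Subgroup.zpowers w : Set N) := by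
    rw [Subgroup.zpowers_le]
    have := inv_mem hnorm
    simpa using this
  set A : Subgroup N := Subgroup.zpowers z ⊔ Subgroup.zpowers w with hA
  have hAset : (A : Set N) = (Subgroup.zpowers z : Set N) * (Subgroup.zpowers w : Set N) :=
    Subgroup.coe_mul_of_left_le_normalizer_right _ _ hnorm'
  have hcz : Nat.card (Subgroup.zpowers z) = p := by rw [Nat.card_zpowers, hz]
  have hcw : Nat.card (Subgroup.zpowers w) = q := by rw [Nat.card_zpowers, how]
  have hle : Nat.card A ≤ p * q := by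
    have h1 : Nat.card A = Nat.card ((A : Set N)) := rfl
    rw [h1, hAset]
    refine le_trans Set.natCard_mul_le ?_
    have e1 : Nat.card ((Subgroup.zpowers z : Set N)) = p := hcz
    have e2 : Nat.card ((Subgroup.zpowers w : Set N)) = q := hcw
    rw [e1, e2]
  have hdvd : p * q ∣ Nat.card A := by
    have hcop : p.Coprime q := (Nat.coprime_primes hp hqp).mpr hne
    refine hcop.mul_dvd_of_dvd_of_dvd ?_ ?_
    · rw [← hcz]; exact Subgroup.card_dvd_of_le le_sup_left
    · rw [← hcw]; exact Subgroup.card_dvd_of_le le_sup_right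
  have hcard : Nat.card A = p * q :=
    le_antisymm hle (Nat.le_of_dvd Nat.card_pos hdvd)
  have hcyc : IsCyclic A := hpq A p q hp hqp hcard
  have hzA : z ∈ A := le_sup_left (a := Subgroup.zpowers z) (Subgroup.mem_zpowers z)
  have hwA : w ∈ A := le_sup_right (b := Subgroup.zpowers w) (Subgroup.mem_zpowers w)
  have hcomm : w * z = z * w := by
    obtain ⟨g, hg⟩ := hcyc.exists_generator
    obtain ⟨i, hi⟩ := Subgroup.mem_zpowers_iff.mp (hg ⟨z, hzA⟩)
    obtain ⟨j, hj⟩ := Subgroup.mem_zpowers_iff.mp (hg ⟨w, hwA⟩)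
    have hi' : z = (g : N) ^ i := by
      have := congrArg Subtype.val hi
      simpa using this.symm
    have hj' : w = (g : N) ^ j := by
      have := congrArg Subtype.val hj
      simpa using this.symm
    rw [hi', hj', ← zpow_add, ← zpow_add, add_comm]
  have hws : w ^ s = w ^ 1 := by
    rw [← hzw, mul_assoc, hcomm, ← mul_assoc, inv_mul_cancel, one_mul, pow_one]
  have := pow_eq_pow_iff_modEq.mp hws
  rwa [how] at this

/-- S3358-COND. -/
theorem cond_of_pq {N : Type u} [Group N] [Finite N]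
    (hpq : ∀ (A : Subgroup N) (p q : ℕ), p.Prime → q.Prime → Nat.card A = p * q → IsCyclic A)
    (x y : N) (r : ℕ) (hcop : (orderOf x).Coprime (orderOf y)) (hrel : x⁻¹ * y * x = y ^ r) :
    r ^ (orderOf x / ∏ p ∈ (orderOf x).primeFactors, p) % orderOf y = 1 % orderOf y := by
  set n := orderOf x with hn
  set m := orderOf y with hm
  have hn0 : 0 < n := orderOf_pos x
  -- `r ^ k ≡ 1 mod m` iff `x ^ k` centralizes `y`
  have hiff : ∀ k : ℕ, r ^ k ≡ 1 [MOD m] ↔ (x ^ k)⁻¹ * y * x ^ k = y := by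
    intro k
    rw [conj_pow_rel x y r hrel k]
    constructor
    · intro h
      have := (pow_eq_pow_iff_modEq (x := y)).mpr h
      rwa [pow_one] at this
    · intro h
      have h' : y ^ (r ^ k) = y ^ 1 := by rw [h, pow_one]
      exact pow_eq_pow_iff_modEq.mp h'
  -- the order of `r` in the monoid `ZMod m`
  have hord : ∀ k : ℕ, orderOf (r : ZMod m) ∣ k ↔ r ^ k ≡ 1 [MOD m] := by
    intro k
    rw [orderOf_dvd_iff_pow_eq_one, ← ZMod.natCast_eq_natCast_iff]
    push_cast
    rfl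
  have hrn : r ^ n ≡ 1 [MOD m] := by
    rw [hiff, hn, pow_orderOf_eq_one]; simp
  have hprime : ∀ p : ℕ, p.Prime → p ∣ n → r ^ (n / p) ≡ 1 [MOD m] := by
    intro p hp hpn
    set z : N := x ^ (n / p) with hz
    have hoz : orderOf z = p := orderOf_pow_orderOf_div hn0.ne' hpn
    have hzrel : z⁻¹ * y * z = y ^ (r ^ (n / p)) := conj_pow_rel x y r hrel (n / p)
    have hpm : p.Coprime m := Nat.Coprime.coprime_dvd_left hpn hcop
    apply nt_A hpm
    · -- `s ^ p ≡ 1`
      have h1 := conj_pow_rel z y (r ^ (n / p)) hzrel p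
      have hzp : z ^ p = 1 := by rw [← hoz]; exact pow_orderOf_eq_one z
      rw [hzp] at h1
      have h2 : y ^ ((r ^ (n / p)) ^ p) = y ^ 1 := by rw [← h1]; simp
      exact pow_eq_pow_iff_modEq.mp h2
    · intro q hq hqm
      have hne : p ≠ q := by
        rintro rfl
        have := Nat.Coprime.eq_one_of_dvd hpm hqm
        exact hp.one_lt.ne' this
      exact prime_step hpq z y (r ^ (n / p)) p q hp hq hoz hqm hne hzrel
  have hfin : orderOf (r : ZMod m) ∣ n / ∏ p ∈ n.primeFactors, p := by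
    apply nt_B hn0 ((hord n).mpr hrn)
    intro p hp hpn
    exact (hord _).mpr (hprime p hp hpn)
  exact (hord _).mp hfin

end Cfsg.Agent.H92.Sfc

section check
universe v
example {N : Type v} [Group N] [Finite N]
    (hpq : ∀ (A : Subgroup N) (p q : ℕ), p.Prime → q.Prime → Nat.card A = p * q → IsCyclic A)
    (x y : N) (r : ℕ) (hcop : (orderOf x).Coprime (orderOf y)) (hrel : x⁻¹ * y * x = y ^ r) :
    r ^ (orderOf x / ∏ p ∈ (orderOf x).primeFactors, p) % orderOf y = 1 % orderOf y :=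
  Cfsg.Agent.H92.Sfc.cond_of_pq hpq x y r hcop hrel
end check
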