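import Mathlib
import Cfsg.Agent.H14.SpDefs

set_option autoImplicit false

/-!
# S2944 piece SP-CORE (helper92, for helper14 / helper52): the pure involution in
`H = E₁ × … × E_r`, `E_i ≅ SL(2,2)`, acting on `V = C_V(H) × [V,E₁] × … × [V,E_r]`
-/

namespace Cfsg.Agent.H92.Sp

open Cfsg Cfsg.Agent.H14.Sp
open scoped commutatorElement

universe u

/-- An involution of `SL(2, ZMod 2)`. -/
def t0 : Matrix.SpecialLinearGroup (Fin 2) (ZMod 2) :=
  ⟨!![1, 1; 0, 1], by simp [Matrix.det_fin_two]⟩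

theorem t0_mul : t0 * t0 = 1 := by decide

theorem t0_ne : t0 ≠ 1 := by decide

section
variable {Y : Type u} [Group Y]

/-- Conjugation by an element normalizing `A` and `B` preserves `⁅A, B⁆`. -/
theorem conj_mem_comm {A B : Subgroup Y} {g : Y} (hA : ∀ a ∈ A, g * a * g⁻¹ ∈ A)
    (hB : ∀ b ∈ B, g * b * g⁻¹ ∈ B) : ∀ w ∈ ⁅A, B⁆, g * w * g⁻¹ ∈ ⁅A, B⁆ := by
  have h : ⁅A, B⁆ ≤ (⁅A, B⁆).comap (MulAut.conj g).toMonoidHom := by
    rw [Subgroup.commutator_le]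
    intro a ha b hb
    rw [Subgroup.mem_comap]
    have e : (MulAut.conj g).toMonoidHom ⁅a, b⁆ = ⁅g * a * g⁻¹, g * b * g⁻¹⁆ := by
      show g * ⁅a, b⁆ * g⁻¹ = ⁅g * a * g⁻¹, g * b * g⁻¹⁆
      simp only [commutatorElement_def]; group
    rw [e]
    exact Subgroup.commutator_mem_commutator (hA a ha) (hB b hb)
  intro w hw
  exact h hw

theorem mem_cz {B : Subgroup Y} {g : Y} :
    g ∈ Subgroup.centralizer (B : Set Y) ↔ ∀ w ∈ B, g * w * g⁻¹ = w := by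
  rw [Subgroup.mem_centralizer_iff]
  constructor
  · intro h w hw
    rw [← h w hw, mul_inv_cancel_right]
  · intro h w hw
    exact (mul_inv_eq_iff_eq_mul.mp (h w hw)).symm

theorem fix_comm {x t v : Y} (h1 : t * x * t⁻¹ = x⁻¹) (h2 : x * v = v * x) :
    x * (t * v * t⁻¹ * v⁻¹) * x⁻¹ = t * v * t⁻¹ * v⁻¹ := by
  have hc : Commute x v := h2
  have htx : t * x = x⁻¹ * t := mul_inv_eq_iff_eq_mul.mp h1
  have hxtx : x * t * x = t := by rw [mul_assoc, htx, mul_inv_cancel_left]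
  have hxt : x * t = t * x⁻¹ := eq_mul_inv_iff_mul_eq.mpr hxtx
  have hinv : x⁻¹ * t⁻¹ * x⁻¹ = t⁻¹ := by
    have e : x⁻¹ * t⁻¹ * x⁻¹ = (x * t * x)⁻¹ := by group
    rw [e, hxtx]
  calc x * (t * v * t⁻¹ * v⁻¹) * x⁻¹ = (x * t) * v * t⁻¹ * (v⁻¹ * x⁻¹) := by group
    _ = (t * x⁻¹) * v * t⁻¹ * (x⁻¹ * v⁻¹) := by rw [hxt, ← hc.inv_inv.eq]
    _ = t * (x⁻¹ * v) * t⁻¹ * x⁻¹ * v⁻¹ := by group
    _ = t * (v * x⁻¹) * t⁻¹ * x⁻¹ * v⁻¹ := by rw [hc.inv_left.eq]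
    _ = t * v * (x⁻¹ * t⁻¹ * x⁻¹) * v⁻¹ := by group
    _ = t * v * t⁻¹ * v⁻¹ := by rw [hinv]

theorem comm_conj {x y v : Y} (hy : y * x * y⁻¹ = x ∨ y * x * y⁻¹ = x⁻¹) (hxv : x * v = v * x) :
    x * (y⁻¹ * v * y) = y⁻¹ * v * y * x := by
  have hc : Commute x v := hxv
  have key : (y * x * y⁻¹) * v = v * (y * x * y⁻¹) := by
    rcases hy with h | h
    · rw [h]; exact hxv
    · rw [h]; exact hc.inv_left.eq
  calc x * (y⁻¹ * v * y) = y⁻¹ * ((y * x * y⁻¹) * v) * y := by group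
    _ = y⁻¹ * (v * (y * x * y⁻¹)) * y := by rw [key]
    _ = y⁻¹ * v * y * x := by group

end

theorem core (h : StFour.{u}) : StCore.{u} := by
  intro Y _ _ ι V H E hV hHV hfaith hHE hSL hcard hind hsup hind' hVsup x hxH hxodd hx1 W hWcard hW
  obtain ⟨hVcomm, hVexp⟩ := hV
  have hEH : ∀ i, E i ≤ H := fun i => hsup ▸ le_iSup E i
  have hnV : ∀ g ∈ H, ∀ v ∈ V, g * v * g⁻¹ ∈ V := fun g hg v hv =>
    (Subgroup.mem_normalizer_iff.mp (hHV hg) v).mp hv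
  have hnE : ∀ i, ∀ g ∈ H, ∀ e ∈ E i, g * e * g⁻¹ ∈ E i := fun i g hg e he =>
    (Subgroup.mem_normalizer_iff.mp (hHE i hg) e).mp he
  have hWV : ∀ i, ⁅V, E i⁆ ≤ V := by
    intro i
    rw [Subgroup.commutator_le]
    intro v hv e he
    have h1 : e * v⁻¹ * e⁻¹ ∈ V := hnV e (hEH i he) v⁻¹ (V.inv_mem hv)
    have e1 : ⁅v, e⁆ = v * (e * v⁻¹ * e⁻¹) := by simp only [commutatorElement_def]; group
    rw [e1]; exact V.mul_mem hv h1
  -- (1) `H` normalizes each `W_i`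
  have hnW : ∀ i, ∀ g ∈ H, ∀ w ∈ ⁅V, E i⁆, g * w * g⁻¹ ∈ ⁅V, E i⁆ := fun i g hg =>
    conj_mem_comm (hnV g hg) (hnE i g hg)
  -- the `W_i` are pairwise disjoint
  have hdisj : ∀ l i, l ≠ i → ∀ c, c ∈ ⁅V, E l⁆ → c ∈ ⁅V, E i⁆ → c = 1 := by
    intro l i hli c hcl hci
    have hd : Disjoint (⁅V, E l⁆) (⁅V, E i⁆) :=
      hind'.pairwiseDisjoint (show (some l : Option ι) ≠ some i from
        fun h => hli (Option.some.inj h))
    exact Subgroup.disjoint_def.mp hd hcl hci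
  -- (2) `E l` centralizes `W_i` for `l ≠ i`
  have hcent : ∀ l i, l ≠ i → ∀ e ∈ E l, e ∈ Subgroup.centralizer ((⁅V, E i⁆ : Subgroup Y) : Set Y) := by
    intro l i hli e he
    rw [mem_cz]
    intro w hw
    have h1 : e * w * e⁻¹ * w⁻¹ ∈ ⁅V, E i⁆ :=
      (⁅V, E i⁆).mul_mem (hnW i e (hEH l he) w hw) ((⁅V, E i⁆).inv_mem hw)
    have h2 : e * w * e⁻¹ * w⁻¹ ∈ ⁅V, E l⁆ := by
      have e1 : e * w * e⁻¹ * w⁻¹ = ⁅e, w⁆ := by rw [commutatorElement_def]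
      rw [e1, Subgroup.commutator_comm]
      exact Subgroup.commutator_mem_commutator he (hWV i hw)
    exact mul_inv_eq_one.mp (hdisj l i hli _ h2 h1)
  -- (3) faithfulness
  have hfaith' : ∀ g ∈ H,
      (∀ l, g ∈ Subgroup.centralizer ((⁅V, E l⁆ : Subgroup Y) : Set Y)) → g = 1 := by
    intro g hg hgW
    have hle : V ≤ Subgroup.centralizer ({g} : Set Y) := by
      rw [← hVsup]
      refine sup_le ?_ (iSup_le fun i => ?_)
      · intro v hv
        rw [Subgroup.mem_centralizer_iff]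
        intro k hk
        rw [Set.mem_singleton_iff.mp hk]
        exact Subgroup.mem_centralizer_iff.mp hv.2 g hg
      · intro w hw
        rw [Subgroup.mem_centralizer_iff]
        intro k hk
        rw [Set.mem_singleton_iff.mp hk]
        exact (Subgroup.mem_centralizer_iff.mp (hgW i) w hw).symm
    have hgc : g ∈ Subgroup.centralizer (V : Set Y) := by
      rw [Subgroup.mem_centralizer_iff]
      intro v hv
      exact (Subgroup.mem_centralizer_iff.mp (hle hv) g rfl).symm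
    have hmem : g ∈ H ⊓ Subgroup.centralizer (V : Set Y) := ⟨hg, hgc⟩
    rw [hfaith] at hmem
    exact Subgroup.mem_bot.mp hmem
  -- `x` moves some `W_i`
  obtain ⟨i, hxi⟩ : ∃ i, ∃ w ∈ ⁅V, E i⁆, x * w * x⁻¹ ≠ w := by
    by_contra hcon
    push Not at hcon
    exact hx1 (hfaith' x hxH fun l => mem_cz.mpr (hcon l))
  -- (4) the involution `t`
  obtain ⟨e⟩ := hSL i
  obtain ⟨t, htE, htt, ht1⟩ : ∃ t : Y, t ∈ E i ∧ t * t = 1 ∧ t ≠ 1 := by
    refine ⟨((e.symm t0 : E i) : Y), (e.symm t0).2, ?_, ?_⟩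
    · have h1 : e.symm t0 * e.symm t0 = 1 := by rw [← map_mul, t0_mul, map_one]
      have h2 := congrArg (Subtype.val) h1
      simpa using h2
    · intro h1
      apply t0_ne
      have h2 : e.symm t0 = 1 := Subtype.ext h1
      have h3 := congrArg e h2
      simpa using h3
  have htH : t ∈ H := hEH i htE
  have hti : ∃ w ∈ ⁅V, E i⁆, t * w * t⁻¹ ≠ w := by
    by_contra hcon
    push Not at hcon
    apply ht1
    apply hfaith' t htH
    intro l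
    by_cases hl : l = i
    · rw [hl]; exact mem_cz.mpr hcon
    · exact hcent i l (fun h => hl h.symm) t htE
  have hsq : ∀ w ∈ ⁅V, E i⁆, w * w = 1 := fun w hw => by
    have h1 := hVexp w (hWV i hw)
    rwa [pow_two] at h1
  -- (5) `StFour` with `t' = t`
  obtain ⟨F1, F2, F3, -⟩ := h (⁅V, E i⁆) x t t (hcard i) hsq (hnW i x hxH) (hnW i t htH)
    (hnW i t htH) hxodd htt htt hxi hti hti
  have hWiW : ⁅V, E i⁆ ≤ W := by
    intro w hw
    obtain ⟨u, hu, rfl⟩ := F2 w hw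
    exact hW u (hWV i hu)
  have hEq : ⁅V, E i⁆ = W :=
    Subgroup.eq_of_le_of_card_ge hWiW (by rw [hcard i]; exact hWcard)
  have hxl : ∀ l, l ≠ i → x ∈ Subgroup.centralizer ((⁅V, E l⁆ : Subgroup Y) : Set Y) := by
    intro l hl
    rw [mem_cz]
    intro w hw
    have h1 : x * w * x⁻¹ * w⁻¹ ∈ ⁅V, E l⁆ :=
      (⁅V, E l⁆).mul_mem (hnW l x hxH w hw) ((⁅V, E l⁆).inv_mem hw)
    have h2 : x * w * x⁻¹ * w⁻¹ ∈ ⁅V, E i⁆ := by
      rw [hEq]; exact hW w (hWV l hw)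
    exact mul_inv_eq_one.mp (hdisj l i hl _ h1 h2)
  -- (6) `t` inverts `x`
  have htx : t * x * t⁻¹ = x⁻¹ := by
    have hg0 : t * x * t⁻¹ * x = 1 := by
      apply hfaith' _ (H.mul_mem (H.mul_mem (H.mul_mem htH hxH) (H.inv_mem htH)) hxH)
      intro l
      by_cases hl : l = i
      · rw [hl]; exact mem_cz.mpr F3
      · have h1 := hcent i l (fun h => hl h.symm) t htE
        have h2 := hxl l hl
        exact Subgroup.mul_mem _ (Subgroup.mul_mem _ (Subgroup.mul_mem _ h1 h2)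
          (Subgroup.inv_mem _ h1)) h2
    exact mul_eq_one_iff_eq_inv.mp hg0
  -- (7a) `t` centralizes `C_V(x)`
  have htC : ∀ v ∈ V, x * v = v * x → t * v = v * t := by
    intro v hv hxv
    have hc : t * v * t⁻¹ * v⁻¹ ∈ ⁅V, E i⁆ := by
      have e1 : t * v * t⁻¹ * v⁻¹ = ⁅t, v⁆ := by rw [commutatorElement_def]
      rw [e1, Subgroup.commutator_comm]
      exact Subgroup.commutator_mem_commutator htE hv
    have h1 := F1 _ hc (fix_comm htx hxv)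
    exact mul_inv_eq_iff_eq_mul.mp (mul_inv_eq_one.mp h1)
  refine ⟨t, htH, htt, htx, ?_⟩
  intro y hyH hyV hyx
  have hyV' : ∀ v ∈ V, y⁻¹ * v * y ∈ V := by
    intro v hv
    have h1 := (Subgroup.mem_normalizer_iff.mp (Subgroup.inv_mem _ hyV) v).mp hv
    rwa [inv_inv] at h1
  have ht'H : y * t * y⁻¹ ∈ H := (Subgroup.mem_normalizer_iff.mp hyH t).mp htH
  have ht't' : y * t * y⁻¹ * (y * t * y⁻¹) = 1 := by
    have e1 : y * t * y⁻¹ * (y * t * y⁻¹) = y * (t * t) * y⁻¹ := by group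
    rw [e1, htt, mul_one, mul_inv_cancel]
  have ht'1 : y * t * y⁻¹ ≠ 1 := by
    intro h1
    apply ht1
    have h2 : y * t = y * 1 := by rw [mul_one]; exact mul_inv_eq_one.mp h1
    exact mul_left_cancel h2
  -- `t'` centralizes `W_l`, `l ≠ i`
  have ht'l : ∀ l, l ≠ i →
      y * t * y⁻¹ ∈ Subgroup.centralizer ((⁅V, E l⁆ : Subgroup Y) : Set Y) := by
    intro l hl
    rw [mem_cz]
    intro w hw
    have hwV : w ∈ V := hWV l hw
    have hxw : x * w = w * x := mul_inv_eq_iff_eq_mul.mp (mem_cz.mp (hxl l hl) w hw)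
    have e1 : t * (y⁻¹ * w * y) = (y⁻¹ * w * y) * t :=
      htC _ (hyV' w hwV) (comm_conj hyx hxw)
    calc y * t * y⁻¹ * w * (y * t * y⁻¹)⁻¹ = y * (t * (y⁻¹ * w * y) * t⁻¹) * y⁻¹ := by group
      _ = y * ((y⁻¹ * w * y) * t * t⁻¹) * y⁻¹ := by rw [e1]
      _ = w := by group
  have ht'i : ∃ w ∈ ⁅V, E i⁆, y * t * y⁻¹ * w * (y * t * y⁻¹)⁻¹ ≠ w := by
    by_contra hcon
    push Not at hcon
    apply ht'1
    apply hfaith' _ ht'H
    intro l
    by_cases hl : l = i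
    · rw [hl]; exact mem_cz.mpr hcon
    · exact ht'l l hl
  obtain ⟨-, -, -, m, hm⟩ := h (⁅V, E i⁆) x t (y * t * y⁻¹) (hcard i) hsq (hnW i x hxH)
    (hnW i t htH) (hnW i _ ht'H) hxodd htt ht't' hxi hti ht'i
  refine ⟨m, ?_⟩
  have hg1 : (x ^ m)⁻¹ * (y * t * y⁻¹ * t⁻¹) = 1 := by
    apply hfaith' _ (H.mul_mem (H.inv_mem (H.pow_mem hxH m)) (H.mul_mem ht'H (H.inv_mem htH)))
    intro l
    by_cases hl : l = i
    · rw [hl, mem_cz]
      intro w hw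
      have h1 := hm w hw
      calc (x ^ m)⁻¹ * (y * t * y⁻¹ * t⁻¹) * w * ((x ^ m)⁻¹ * (y * t * y⁻¹ * t⁻¹))⁻¹
          = (x ^ m)⁻¹ * ((y * t * y⁻¹ * t⁻¹) * w * (y * t * y⁻¹ * t⁻¹)⁻¹) * x ^ m := by group
        _ = (x ^ m)⁻¹ * (x ^ m * w * (x ^ m)⁻¹) * x ^ m := by rw [h1]
        _ = w := by group
    · have h1 := hcent i l (fun h => hl h.symm) t htE
      have h2 := hxl l hl
      exact Subgroup.mul_mem _ (Subgroup.inv_mem _ (Subgroup.pow_mem _ h2 m))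
        (Subgroup.mul_mem _ (ht'l l hl) (Subgroup.inv_mem _ h1))
  exact (inv_mul_eq_one.mp hg1).symm

example : Cfsg.Agent.H14.Sp.StFour.{u} → Cfsg.Agent.H14.Sp.StCore.{u} := core

end Cfsg.Agent.H92.Sp
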