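import Cfsg.Agent.H67.UmDefs
import Cfsg.Agent.H62.RoB

/-!
# UM-PEEL (piece of S2263): a self-dual polynomial `P ≠ 1` splits off a primary part
-/

set_option autoImplicit false

open Polynomial

namespace Cfsg.Agent.H92.Um

open Cfsg.Agent.H45 Cfsg.Agent.H67.Um

universe u

section

variable {F : Type u} [Field F]

theorem dual_one (σ : F →+* F) : dualPoly σ (1 : F[X]) = 1 := by
  simpa using dualPoly_C σ (1 : F)

theorem dual_pow (σ : F →+* F) (f : F[X]) (k : ℕ) :
    dualPoly σ (f ^ k) = dualPoly σ f ^ k := by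
  induction k with
  | zero => rw [pow_zero, pow_zero, dual_one]
  | succ n ih => rw [pow_succ, pow_succ, dualPoly_mul, ih]

theorem dual_dvd (σ : F →+* F) {f g : F[X]} (h : f ∣ g) : dualPoly σ f ∣ dualPoly σ g := by
  obtain ⟨c, rfl⟩ := h
  rw [dualPoly_mul]
  exact dvd_mul_right _ _

theorem coeff_zero_ne_of_dvd {f g : F[X]} (h : f ∣ g) (hg : g.coeff 0 ≠ 0) : f.coeff 0 ≠ 0 := by
  obtain ⟨c, rfl⟩ := h
  rw [mul_coeff_zero] at hg
  exact left_ne_zero_of_mul hg

theorem dual_X_pow_sub_C (σ : F →+* F) (e : ℕ) (c : F) :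
    dualPoly σ (X ^ e - C c) = 1 - C (σ c) * X ^ e := by
  rw [dualPoly_eq_reverse, Polynomial.map_sub, Polynomial.map_pow, map_X, map_C, reverse,
    natDegree_X_pow_sub_C, reflect_sub, reflect_monomial, reflect_C, revAt_le le_rfl,
    Nat.sub_self, pow_zero]

theorem dual_irreducible {σ : F →+* F} (hσ : ∀ a, σ (σ a) = a) {h : F[X]} (hh : Irreducible h)
    (h0 : h.coeff 0 ≠ 0) : Irreducible (dualPoly σ h) := by
  have hD0 : (dualPoly σ h).coeff 0 ≠ 0 := by
    rw [dualPoly_coeff_zero]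
    exact (map_ne_zero σ).mpr (leadingCoeff_ne_zero.mpr hh.ne_zero)
  have key : ∀ a b : F[X], dualPoly σ h = a * b → IsUnit (dualPoly σ a) → IsUnit a := by
    intro a b hab hu
    have ha0 : a.coeff 0 ≠ 0 := coeff_zero_ne_of_dvd ⟨b, hab⟩ hD0
    have hdeg := dualPoly_natDegree σ a ha0
    rw [natDegree_eq_zero_of_isUnit hu] at hdeg
    rw [eq_C_of_natDegree_eq_zero hdeg.symm]
    exact isUnit_C.mpr (IsUnit.mk0 _ ha0)
  rw [irreducible_iff]
  refine ⟨?_, ?_⟩
  · intro hu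
    have hdeg := dualPoly_natDegree σ h h0
    rw [natDegree_eq_zero_of_isUnit hu] at hdeg
    exact (Irreducible.natDegree_pos hh).ne' hdeg.symm
  · intro a b hab
    have h1 : h = dualPoly σ a * dualPoly σ b := by
      rw [← dualPoly_mul, ← hab, dualPoly_dualPoly hσ h h0]
    rcases hh.isUnit_or_isUnit h1 with hu | hu
    · exact Or.inl (key a b hab hu)
    · exact Or.inr (key b a (by rw [hab, mul_comm]) hu)

theorem dual_dvd_X_pow_sub_C {σ : F →+* F} {q : ℕ} (hσ : ∀ x, σ x = x ^ q) {g : F[X]} {M : ℕ}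
    {c : F} (hc : c ^ (q + 1) = 1) (h : g ∣ X ^ M - C c) : dualPoly σ g ∣ X ^ M - C c := by
  have h1 := dual_dvd σ h
  rw [dual_X_pow_sub_C] at h1
  have hc0 : c ≠ 0 := by
    rintro rfl
    rw [zero_pow (Nat.succ_ne_zero q)] at hc
    exact zero_ne_one hc
  have hσc : σ c * c = 1 := by rw [hσ, ← pow_succ, hc]
  have h5 : C (σ c) * C c = (1 : F[X]) := by rw [← C_mul, hσc, C_1]
  have h2 : (1 : F[X]) - C (σ c) * X ^ M = C (- σ c) * (X ^ M - C c) := by
    rw [C_neg]
    linear_combination (-1 : F[X]) * h5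
  rw [h2] at h1
  have hunit : IsUnit (C (- σ c) : F[X]) :=
    isUnit_C.mpr (IsUnit.mk0 _ (neg_ne_zero.mpr ((map_ne_zero σ).mpr hc0)))
  exact (hunit.dvd_mul_left).mp h1

theorem assoc_C_mul {u : F} (hu : u ≠ 0) (g : F[X]) : Associated g (C u * g) := by
  refine ⟨(isUnit_C.mpr (IsUnit.mk0 u hu)).unit, ?_⟩
  rw [IsUnit.unit_spec, mul_comm]

end

theorem add_one_dvd_pow_two_mul_sub_one (q e : ℕ) : q + 1 ∣ q ^ (2 * e) - 1 := by
  have h1 : q ^ 2 - 1 ∣ (q ^ 2) ^ e - 1 ^ e := Nat.sub_dvd_pow_sub_pow (q ^ 2) 1 e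
  rw [one_pow, ← pow_mul] at h1
  have h2 : q + 1 ∣ q ^ 2 - 1 := by
    rcases Nat.eq_zero_or_pos q with rfl | hq
    · simp
    · obtain ⟨n, rfl⟩ := Nat.exists_eq_succ_of_ne_zero hq.ne'
      refine ⟨n, ?_⟩
      have h3 : (n + 1) ^ 2 = (n + 1 + 1) * n + 1 := by ring
      rw [Nat.succ_eq_add_one, h3, Nat.add_sub_cancel]
  exact h2.trans h1

theorem peel : StPeel.{u} := by
  intro hSD hSC F _ _ q σ hF hσ P hPm hP0 hPP hP1
  classical
  have hσσ : ∀ a, σ (σ a) = a := by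
    intro a
    rw [hσ, hσ, ← pow_mul, ← sq, ← hF, FiniteField.pow_card]
  have hPne : P ≠ 0 := hPm.ne_zero
  have hPu : ¬ IsUnit P := fun hu => hP1 ((hPm.isUnit_iff).mp hu)
  obtain ⟨h, hhm, hh, hhP⟩ := Polynomial.exists_monic_irreducible_factor P hPu
  have hh0 : h.coeff 0 ≠ 0 := coeff_zero_ne_of_dvd hhP hP0
  obtain ⟨k, R₀, hR₀, hPk⟩ := WfDvdMonoid.max_power_factor hPne hh
  have hk : 1 ≤ k := by
    rcases Nat.eq_zero_or_pos k with rfl | hk
    · exfalso
      rw [pow_zero, one_mul] at hPk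
      exact hR₀ (hPk ▸ hhP)
    · exact hk
  have he : 1 ≤ h.natDegree := hh.natDegree_pos
  have hDirr : Irreducible (dualPoly σ h) := dual_irreducible hσσ hh hh0
  -- generic closing step
  have close : ∀ (G R : F[X]), P = G * R → G.Monic → Associated G (dualPoly σ G) →
      R.Monic ∧ R.coeff 0 ≠ 0 ∧ Associated R (dualPoly σ R) := by
    intro G R hPG hGm hGG
    refine ⟨?_, ?_, ?_⟩
    · exact hGm.of_mul_monic_left (hPG ▸ hPm)
    · have h1 := hP0
      rw [hPG, mul_coeff_zero] at h1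
      exact right_ne_zero_of_mul h1
    · have h1 : Associated (G * R) (dualPoly σ G * dualPoly σ R) := by
        rw [← dualPoly_mul, ← hPG]
        exact hPP
      exact Associated.of_mul_left h1 hGG hGm.ne_zero
  by_cases hsd : h ∣ dualPoly σ h
  · -- the self-dual case
    obtain ⟨hodd, hdvd⟩ := hSD F q σ hF hσ h hh hhm hh0 hsd
    have hQn : Qn q h.natDegree = q ^ h.natDegree + 1 := by
      unfold Qn
      rw [if_neg (Nat.not_even_iff_odd.mpr hodd)]
    have hq1 : (q + 1) ∣ q ^ h.natDegree + 1 := by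
      have h1 := Odd.nat_add_dvd_pow_add_pow q 1 hodd
      rwa [one_pow] at h1
    have hass : Associated h (dualPoly σ h) := hh.associated_of_dvd hDirr hsd
    obtain ⟨c, hc, hcd⟩ := hSC F q hF h (Qn q h.natDegree / (q + 1)) hh (by
      rw [hQn, Nat.mul_div_cancel' hq1]
      exact hdvd)
    have hGG : Associated (h ^ k) (dualPoly σ (h ^ k)) := by
      rw [dual_pow]
      exact hass.pow_pow
    obtain ⟨hRm, hR0, hRR⟩ := close (h ^ k) R₀ hPk (hhm.pow k) hGG
    refine ⟨h ^ k, R₀, h.natDegree, k, he, hk, hPk, ?_, ?_, hRm, hR0, hRR, ?_, c, ?_⟩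
    · exact ((hh.coprime_iff_not_dvd).mpr hR₀).pow_left
    · rw [natDegree_pow, mul_comm]
    · rw [hQn]
      exact pow_dvd_pow_of_dvd hdvd k
    · exact pow_dvd_pow_of_dvd hcd k
  · -- the non-self-dual case
    have hσh0 : σ (h.coeff 0) ≠ 0 := (map_ne_zero σ).mpr hh0
    have hu0 : (σ (h.coeff 0))⁻¹ ≠ 0 := inv_ne_zero hσh0
    obtain ⟨h', hh'⟩ : ∃ h' : F[X], h' = C (σ (h.coeff 0))⁻¹ * dualPoly σ h := ⟨_, rfl⟩
    have hass' : Associated (dualPoly σ h) h' := by
      rw [hh']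
      exact assoc_C_mul hu0 _
    have hh'irr : Irreducible h' := hass'.irreducible hDirr
    have hh'm : h'.Monic := by
      rw [Monic, hh', leadingCoeff_mul, leadingCoeff_C, dualPoly_leadingCoeff σ h hh0,
        inv_mul_cancel₀ hσh0]
    have hh'deg : h'.natDegree = h.natDegree := by
      rw [hh', natDegree_C_mul hu0, dualPoly_natDegree σ h hh0]
    have hcop : IsCoprime h h' := by
      rw [hh.coprime_iff_not_dvd]
      intro hd
      exact hsd (hd.trans hass'.symm.dvd)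
    have hDh' : dualPoly σ h' = C (σ (σ (h.coeff 0))⁻¹) * h := by
      rw [hh', dualPoly_mul, dualPoly_C, dualPoly_dualPoly hσσ h hh0]
    have hass2 : Associated h (dualPoly σ h') := by
      rw [hDh']
      exact assoc_C_mul ((map_ne_zero σ).mpr hu0) _
    have hh'0 : h'.coeff 0 ≠ 0 := by
      rw [hh', coeff_C_mul, dualPoly_coeff_zero]
      exact mul_ne_zero hu0 ((map_ne_zero σ).mpr (leadingCoeff_ne_zero.mpr hh.ne_zero))
    -- `(D h) ^ k ∣ P`
    have hDkP : dualPoly σ h ^ k ∣ P := by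
      have h1 : dualPoly σ h ^ k ∣ dualPoly σ P := by
        have h2 : dualPoly σ P = dualPoly σ h ^ k * dualPoly σ R₀ := by
          rw [← dual_pow, ← dualPoly_mul, ← hPk]
        rw [h2]
        exact dvd_mul_right _ _
      exact h1.trans hPP.symm.dvd
    have hh'kR₀ : h' ^ k ∣ R₀ := by
      have h1 : h' ^ k ∣ h ^ k * R₀ := by
        rw [← hPk]
        exact (hass'.symm.pow_pow (n := k)).dvd.trans hDkP
      exact (hcop.symm.pow (m := k) (n := k)).dvd_of_dvd_mul_left h1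
    obtain ⟨R₁, hR₁⟩ := hh'kR₀
    have hPG : P = (h * h') ^ k * R₁ := by
      rw [hPk, hR₁, mul_pow, mul_assoc]
    have hhR₁ : ¬ h ∣ R₁ := fun hd => hR₀ (hR₁ ▸ (hd.trans (dvd_mul_left _ _)))
    have hh'R₁ : ¬ h' ∣ R₁ := by
      intro hd
      have h1 : h' ^ (k + 1) ∣ P := by
        rw [hPk, hR₁, pow_succ]
        exact dvd_mul_of_dvd_right (mul_dvd_mul_left _ hd) _
      have h2 : dualPoly σ (h' ^ (k + 1)) ∣ dualPoly σ P := dual_dvd σ h1
      have h3 : h ^ (k + 1) ∣ P := by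
        have h4 : h ^ (k + 1) ∣ dualPoly σ (h' ^ (k + 1)) := by
          rw [dual_pow]
          exact (hass2.pow_pow (n := k + 1)).dvd
        exact (h4.trans h2).trans hPP.symm.dvd
      have h5 : h ^ k * h ∣ h ^ k * R₀ := by
        rw [← pow_succ, ← hPk]
        exact h3
      exact hR₀ ((mul_dvd_mul_iff_left (pow_ne_zero k hh.ne_zero)).mp h5)
    have hGm : ((h * h') ^ k).Monic := (hhm.mul hh'm).pow k
    have hGG : Associated ((h * h') ^ k) (dualPoly σ ((h * h') ^ k)) := by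
      rw [dual_pow, dualPoly_mul]
      apply Associated.pow_pow
      rw [mul_comm (dualPoly σ h)]
      exact hass2.mul_mul hass'.symm
    obtain ⟨hRm, hR0, hRR⟩ := close ((h * h') ^ k) R₁ hPG hGm hGG
    have hQn : Qn q (2 * h.natDegree) = q ^ (2 * h.natDegree) - 1 := by
      unfold Qn
      rw [if_pos (even_two_mul _)]
    have hN : ∀ g : F[X], Irreducible g → g.coeff 0 ≠ 0 → g.natDegree = h.natDegree →
        g ∣ X ^ (q ^ (2 * h.natDegree) - 1) - 1 := by
      intro g hg hg0 hgd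
      have h1 := Cfsg.Agent.H62.irr_dvd_X_pow_sub_one g hg hg0
      rw [hF, hgd, ← pow_mul] at h1
      exact h1
    have hq1 : (q + 1) ∣ q ^ (2 * h.natDegree) - 1 := add_one_dvd_pow_two_mul_sub_one q _
    obtain ⟨c, hc, hcd⟩ := hSC F q hF h (Qn q (2 * h.natDegree) / (q + 1)) hh (by
      rw [hQn, Nat.mul_div_cancel' hq1]
      exact hN h hh hh0 rfl)
    have hcd' : h' ∣ X ^ (Qn q (2 * h.natDegree) / (q + 1)) - C c :=
      hass'.symm.dvd.trans (dual_dvd_X_pow_sub_C hσ hc hcd)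
    refine ⟨(h * h') ^ k, R₁, 2 * h.natDegree, k, by omega, hk, hPG, ?_, ?_, hRm, hR0, hRR,
      ?_, c, ?_⟩
    · exact (IsCoprime.mul_left ((hh.coprime_iff_not_dvd).mpr hhR₁)
        ((hh'irr.coprime_iff_not_dvd).mpr hh'R₁)).pow_left
    · rw [natDegree_pow, natDegree_mul hh.ne_zero hh'irr.ne_zero, hh'deg]
      ring
    · rw [hQn]
      exact pow_dvd_pow_of_dvd (hcop.mul_dvd (hN h hh hh0 rfl) (hN h' hh'irr hh'0 hh'deg)) k
    · exact pow_dvd_pow_of_dvd (hcop.mul_dvd hcd hcd') k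

end Cfsg.Agent.H92.Um
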